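import Groth.Prelude.Def_Canon
import Groth.Agent.Lib.PnDualQCoh
import Groth.Agent.FibVan.Basic
import Groth.Agent.ProjSerre.Lcm
import Groth.Agent.AmpleVan.ThickPush
import Groth.Agent.QCoh.Support
import Groth.Agent.QCoh.Ab.PushNat
import Groth.Agent.PnCoh.PushNat
import Groth.Agent.QCoh.DevissageSum
import Groth.Agent.ProjSerre.Vanish
import Groth.Agent.SheafHomX.Coherent
import Groth.Agent.PushAmp.TensorPC
import Groth.Agent.PnCoh.Chow.Basic

/-!
# Dualizing pairs: uniqueness, criteria, finite morphisms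
-/

set_option autoImplicit false
set_option linter.style.haveILetI false
set_option linter.unusedSectionVars false
set_option backward.isDefEq.respectTransparency false
set_option backward.isDefEq.respectTransparency.types false

universe u

open CategoryTheory CategoryTheory.Limits AlgebraicGeometry TopologicalSpace Opposite

noncomputable section

namespace Groth.Agent.CanonDual

open Groth.Agent

variable {A : Type u} [CommRing A] {X : Scheme.{u}} [X.Over (Spec (CommRingCat.of A))] {r : ℕ}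

theorem biproduct_total {β : Type u} [Fintype β] (T : β → X.Modules) :
    ∑ a, biproduct.π T a ≫ biproduct.ι T a = 𝟙 (⨁ T) := by
  classical
  refine biproduct.hom_ext' _ _ fun j => ?_
  rw [Category.comp_id, Preadditive.comp_sum, Finset.sum_eq_single j]
  · rw [biproduct.ι_π_self_assoc]
  · intro a _ ha
    rw [biproduct.ι_π_ne_assoc _ (Ne.symm ha), zero_comp]
  · simp

theorem isIso_of_trace {ω ω' : X.Modules} {tr : Coh.HH X ω r →ₗ[A] A} {tr' : Coh.HH X ω' r →ₗ[A] A}
    (h : Canon.IsRDualOver A X r ω tr) (h' : Canon.IsRDualOver A X r ω' tr') (ρ : ω' ⟶ ω)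
    (hρ : tr ∘ₗ Canon.HHlin A ρ r = tr') : IsIso ρ := by
  obtain ⟨σ, hσ⟩ := (h'.2 ω h.1).2 tr
  have e1 : ∀ x, tr (Canon.HHlin A ρ r x) = tr' x := fun x => LinearMap.congr_fun hρ x
  have e2 : ∀ x, tr' (Canon.HHlin A σ r x) = tr x := fun x => LinearMap.congr_fun hσ x
  refine ⟨σ, (h'.2 ω' h'.1).1 (LinearMap.ext fun x => ?_), (h.2 ω h.1).1 (LinearMap.ext fun x => ?_)⟩
  · rw [PnDual.dualityMap_comp]
    show tr' (Canon.HHlin A σ r (Canon.HHlin A ρ r x)) = tr' (Canon.HHlin A (𝟙 ω') r x)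
    rw [e2, e1, PnDual.HHlin_id]
  · rw [PnDual.dualityMap_comp]
    show tr (Canon.HHlin A ρ r (Canon.HHlin A σ r x)) = tr (Canon.HHlin A (𝟙 ω) r x)
    rw [e1, e2, PnDual.HHlin_id]

/-- Vanishing above the fibre dimension, quasi-coherent modules. -/
theorem subsingleton_HH_of_fibre_dim [IsNoetherianRing A] [IsProper (X ↘ Spec (CommRingCat.of A))]
    (hfib : ∀ y : ↥(Spec (CommRingCat.of A)),
      topologicalKrullDim ↥((X ↘ Spec (CommRingCat.of A)).fiber y) ≤ (r : WithBot ℕ∞))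
    {F : X.Modules} (hF : Coh.IsQCoh F) {p : ℕ} (hp : r < p) : Subsingleton (Coh.HH X F p) := by
  haveI : CompactSpace X := QuasiCompact.compactSpace_of_compactSpace (X ↘ Spec (CommRingCat.of A))
  haveI : IsLocallyNoetherian X := LocallyOfFiniteType.isLocallyNoetherian (X ↘ Spec (CommRingCat.of A))
  haveI : IsNoetherian X := { __ := ‹IsLocallyNoetherian X›, __ := ‹CompactSpace X› }
  refine QcqsColim.subsingleton_HH_of_ftSub hF p fun N hN => ?_
  refine FibVan.subsingleton_HH_of_closed_fibre_dim (A := A)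
    (⟨QCoh.isQCoh_of_ftOn hF hN, QCoh.isFT_of_ftOn hF hN⟩ : Coh.IsCoh N.toModules) hp fun z _ => ?_
  rw [← ((X ↘ Spec (CommRingCat.of A)).fiberHomeo z).isHomeomorph.topologicalKrullDim_eq]
  exact hfib z

variable {n : ℕ}

/-- Twists, restricted along `ι`. -/
abbrev tw (ι : X ⟶ CohB1.ProjSpace n A) (m : ℤ) : X.Modules :=
  (Scheme.Modules.pullback ι).obj (Twist.twistProjSpace n A m)

theorem isCoh_tw [IsNoetherianRing A] (ι : X ⟶ CohB1.ProjSpace n A) (m : ℤ) : Coh.IsCoh (tw ι m) :=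
  PushAmp.isCoh_pullback ι (ProjSerre.isCoh_twist (𝒜 := CohB1.polyGrading n A) m)

/-- A coherent module on a closed subscheme of projective space is a quotient of twists. -/
theorem exists_epi_tw [IsNoetherianRing A] (ι : X ⟶ CohB1.ProjSpace n A) [IsClosedImmersion ι]
    {M : X.Modules} (hM : Coh.IsCoh M) :
    ∃ (β : Type u) (_ : Fintype β) (d : β → ℤ) (q : (⨁ fun a => tw ι (d a)) ⟶ M), Epi q := by
  haveI hP : IsNoetherian (CohB1.ProjSpace n A) :=
    (Proj16.isNoetherian_proj _ : IsNoetherian (Proj (CohB1.polyGrading n A)))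
  haveI : LocallyOfFiniteType ι := inferInstance
  haveI : IsLocallyNoetherian X := LocallyOfFiniteType.isLocallyNoetherian ι
  obtain ⟨k, d, φ, hφ⟩ := ProjSerre.exists_epi_twists (𝒜 := CohB1.polyGrading n A)
    (QCoh.isCoh_pushforward_finite ι hM)
  haveI := AmpleVan.isIso_counit ι hM.1
  let adj := Scheme.Modules.pullbackPushforwardAdjunction ι
  let ψ := (adj.homEquiv _ _).symm φ
  haveI : Epi ψ := by
    show Epi ((adj.homEquiv _ _).symm φ)
    rw [Adjunction.homEquiv_counit]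
    haveI := adj.leftAdjoint_preservesColimits
    haveI : Epi ((Scheme.Modules.pullback ι).map φ) := inferInstance
    exact epi_comp _ _
  refine ⟨ULift.{u} (Fin k), inferInstance, fun a => d a.down,
    biproduct.desc fun a => (Scheme.Modules.pullback ι).map
      (Sigma.ι (fun j : Fin k => Twist.twist (CohB1.polyGrading n A) (d j)) a.down) ≫ ψ, ⟨fun {Z} a b e => ?_⟩⟩
  refine (cancel_epi ψ).1 ((adj.homEquiv _ _).injective (Limits.Sigma.hom_ext _ _ fun j => ?_))
  rw [← adj.homEquiv_naturality_left, ← adj.homEquiv_naturality_left, ← Category.assoc, ← Category.assoc]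
  have h2 := congrArg (fun t => biproduct.ι (fun a : ULift.{u} (Fin k) => tw ι (d a.down)) ⟨j⟩ ≫ t) e
  simp only [biproduct.ι_desc_assoc] at h2
  exact congrArg (adj.homEquiv _ _) (by rw [Category.assoc, Category.assoc]; exact h2)

/-- A pair that is dual on the twists is dualizing. -/
theorem isRDualOver_of_tw [IsNoetherianRing A] (ι : X ⟶ CohB1.ProjSpace n A) [IsClosedImmersion ι]
    (hι : ι ≫ CohB1.ProjSpace.toSpec n A = X ↘ Spec (CommRingCat.of A))
    (hfib : ∀ y : ↥(Spec (CommRingCat.of A)),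
      topologicalKrullDim ↥((X ↘ Spec (CommRingCat.of A)).fiber y) ≤ (r : WithBot ℕ∞))
    {ω : X.Modules} (hω : Coh.IsQCoh ω) {tr : Coh.HH X ω r →ₗ[A] A}
    (h : ∀ m : ℤ, Function.Bijective (Canon.dualityMap A X r ω tr (tw ι m))) :
    Canon.IsRDualOver A X r ω tr := by
  haveI hP : IsNoetherian (CohB1.ProjSpace n A) :=
    (Proj16.isNoetherian_proj _ : IsNoetherian (Proj (CohB1.polyGrading n A)))
  haveI : IsProper (CohB1.ProjSpace.toSpec n A) := PnCoh.Chow.isProper_toSpec n A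
  haveI : IsProper (X ↘ Spec (CommRingCat.of A)) := hι ▸ inferInstance
  haveI : CompactSpace X := QuasiCompact.compactSpace_of_compactSpace (X ↘ Spec (CommRingCat.of A))
  haveI : IsLocallyNoetherian X := LocallyOfFiniteType.isLocallyNoetherian (X ↘ Spec (CommRingCat.of A))
  haveI : IsNoetherian X := { __ := ‹IsLocallyNoetherian X›, __ := ‹CompactSpace X› }
  have hcoh : ∀ (β : Type u) [Fintype β] (d : β → ℤ), Coh.IsCoh (⨁ fun a => tw ι (d a)) := fun β _ d =>
    QCoh.isCoh_biproduct _ fun a => isCoh_tw ι (d a)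
  have hbi : ∀ (β : Type u) [Fintype β] (d : β → ℤ),
      Function.Bijective (Canon.dualityMap A X r ω tr (⨁ fun a => tw ι (d a))) := fun β _ d =>
    PnDual.bijective_of_decomposition (fun a => tw ι (d a)) (fun a => biproduct.π _ a)
      (fun a => biproduct.ι (fun a => tw ι (d a)) a) (biproduct_total (fun a => tw ι (d a))) fun a => h (d a)
  have hinj : ∀ M : X.Modules, Coh.IsCoh M → Function.Injective (Canon.dualityMap A X r ω tr M) := by
    intro M hM
    obtain ⟨β, _, d, q, hq⟩ := exists_epi_tw ι hM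
    exact PnDual.injective_of_epi q (hbi β d).1
  refine ⟨hω, fun F hF => PnDual.bijective_of_ftSub hF fun N hN => ?_⟩
  have hM : Coh.IsCoh N.toModules := ⟨QCoh.isQCoh_of_ftOn hF hN, QCoh.isFT_of_ftOn hF hN⟩
  obtain ⟨β, _, d, q, hq⟩ := exists_epi_tw ι hM
  let S : ShortComplex X.Modules := ShortComplex.mk (kernel.ι q) q (kernel.condition q)
  have hS : S.ShortExact :=
    { exact := ShortComplex.exact_of_f_is_kernel _ (kernelIsKernel q), mono_f := inferInstance, epi_g := hq }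
  have hK : Coh.IsCoh S.X₁ := QCoh.isCoh_kernel (hcoh β d) hM q
  exact PnDual.bijective_of_presentation hS (subsingleton_HH_of_fibre_dim hfib hK.1 (Nat.lt_succ_self r))
    (hbi β d) (hinj _ hK)

/-- The trace of a module representing `Hom(π_* -, ω_Z)` along an affine morphism. -/
theorem exists_isRDualOver_affine {Z : Scheme.{u}} [Z.Over (Spec (CommRingCat.of A))]
    (π : X ⟶ Z) [IsAffineHom π]
    (hπ : π ≫ (Z ↘ Spec (CommRingCat.of A)) = X ↘ Spec (CommRingCat.of A))
    {ωZ : Z.Modules} {trZ : Coh.HH Z ωZ r →ₗ[A] A} (hZ : Canon.IsRDualOver A Z r ωZ trZ)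
    {ωX : X.Modules} (hωX : Coh.IsQCoh ωX) (τ : (Coh.push π).obj ωX ⟶ ωZ)
    (huniv : ∀ F : X.Modules, Coh.IsQCoh F →
      Function.Bijective (fun φ : F ⟶ ωX => (Coh.push π).map φ ≫ τ)) :
    ∃ trX : Coh.HH X ωX r →ₗ[A] A, Canon.IsRDualOver A X r ωX trX := by
  have hb : QCoh.Ab.PreimageBasis π.base (QCoh.stdCovers X) := fun U y hy => by
    obtain ⟨_, ⟨W, hW, rfl⟩, hyW, hWU⟩ := Z.isBasis_affineOpens.exists_subset_of_mem_open hy U.2
    exact ⟨W, hWU, hyW, hW.preimage π⟩
  obtain ⟨e, he⟩ := QCoh.Ab.H_push_natural π.base (QCoh.stdCovers X) hb r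
  have elin : ∀ (F : X.Modules) (hF : Coh.IsQCoh F) (a : A) (x : Coh.HH X F r),
      e (QCoh.abSheaf F) (QCoh.stdCovers_acyclic hF) (a • x) =
        a • (show Coh.HH Z ((Coh.push π).obj F) r from e (QCoh.abSheaf F) (QCoh.stdCovers_acyclic hF) x) := by
    intro F hF a x
    show e _ _ (Sheaf.H.map (Coh.smulAb F (Coh.toGlobal (X ↘ Spec (CommRingCat.of A)) a)) r x) =
      Sheaf.H.map (Coh.smulAb ((Coh.push π).obj F) (Coh.toGlobal (Z ↘ Spec (CommRingCat.of A)) a)) r _
    rw [PnCoh.smulAb_push]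
    refine (he _ _ (QCoh.stdCovers_acyclic hF) (QCoh.stdCovers_acyclic hF) _ x).trans ?_
    refine congrArg (fun c => Sheaf.H.map ((CohTop.push π.base).map (Coh.smulAb F c)) r _) ?_
    rw [← hπ]
    rfl
  let E : ∀ (F : X.Modules), Coh.IsQCoh F → (Coh.HH X F r ≃ₗ[A] Coh.HH Z ((Coh.push π).obj F) r) :=
    fun F hF => AddEquiv.toLinearEquiv (e (QCoh.abSheaf F) (QCoh.stdCovers_acyclic hF)) (elin F hF)
  have hE : ∀ (F : X.Modules) (hF : Coh.IsQCoh F) (φ : F ⟶ ωX) (x : Coh.HH X F r),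
      E ωX hωX (Canon.HHlin A φ r x) = Canon.HHlin A ((Coh.push π).map φ) r (E F hF x) := fun F hF φ x =>
    he _ _ (QCoh.stdCovers_acyclic hF) (QCoh.stdCovers_acyclic hωX) _ x
  refine ⟨(trZ ∘ₗ Canon.HHlin A τ r) ∘ₗ (E ωX hωX).toLinearMap, hωX, fun F hF => ?_⟩
  have hb1 : Function.Bijective (fun φ : F ⟶ ωX =>
      Canon.dualityMap A Z r ωZ trZ _ ((Coh.push π).map φ ≫ τ)) :=
    (hZ.2 _ (QCoh.isQCoh_pushforward π hF)).comp (huniv F hF)
  have hb2 : Function.Bijective (fun f : Coh.HH Z ((Coh.push π).obj F) r →ₗ[A] A =>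
      f ∘ₗ (E F hF).toLinearMap) := by
    refine ⟨fun f g h => LinearMap.ext fun y => ?_, fun g => ⟨g ∘ₗ (E F hF).symm.toLinearMap, ?_⟩⟩
    · have := LinearMap.congr_fun h ((E F hF).symm y)
      simpa using this
    · ext x; simp
  convert hb2.comp hb1 using 1
  funext φ
  refine LinearMap.ext fun x => ?_
  show trZ (Canon.HHlin A τ r (E ωX hωX (Canon.HHlin A φ r x))) =
    trZ (Canon.HHlin A ((Coh.push π).map φ ≫ τ) r (E F hF x))
  rw [hE F hF φ x, PnDual.HHlin_comp]

end Groth.Agent.CanonDual
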