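import Groth.Agent.CanonDual.BCRetract
import Groth.Agent.CanonDual.Basic
import Groth.Agent.CurveBC.Coh

/-!
# Dualizing pairs and extension of the base field
-/

set_option autoImplicit false
set_option linter.style.haveILetI false
set_option linter.unusedSectionVars false
set_option backward.isDefEq.respectTransparency false
set_option backward.isDefEq.respectTransparency.types false

universe u

open CategoryTheory CategoryTheory.Limits AlgebraicGeometry TopologicalSpace Opposite

noncomputable section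

namespace Groth.Agent.CanonDual.BC

open Groth.Agent

/-- The action of scalars on cohomology. -/
theorem smul_eq_HHlin {A : Type u} [CommRing A] {Y : Scheme.{u}} [Y.Over (Spec (CommRingCat.of A))]
    (N : Y.Modules) (r : ℕ) (a : A) (y : Coh.HH Y N r) :
    a • y = Canon.HHlin A (LCZLib.smulHom (Coh.toGlobal (Y ↘ Spec (CommRingCat.of A)) a) N) r y := by
  show Sheaf.H.map (Coh.smulAb N (Coh.toGlobal (Y ↘ Spec (CommRingCat.of A)) a)) r y =
    Sheaf.H.map ((SheafOfModules.toSheaf Y.ringCatSheaf).map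
      (LCZLib.smulHom (Coh.toGlobal (Y ↘ Spec (CommRingCat.of A)) a) N)) r y
  congr 1

theorem HHlin_zero' {A : Type u} [CommRing A] {Y : Scheme.{u}} [Y.Over (Spec (CommRingCat.of A))]
    (F G : Y.Modules) (r : ℕ) (y : Coh.HH Y F r) : Canon.HHlin A (0 : F ⟶ G) r y = 0 := by
  simpa using PnDual.HHlin_sum (R := A) (fun e : Empty => (e.elim : F ⟶ G)) ∅ y

theorem functional_ext {k K : Type u} [Field k] [AddCommGroup K] [Module k K] {a b : K}
    (h : ∀ l : K →ₗ[k] k, l a = l b) : a = b :=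
  sub_eq_zero.1 ((Module.forall_dual_apply_eq_zero_iff k (a - b)).1 fun l => by rw [map_sub, h, sub_self])

variable {k K : Type u} [Field k] [Field K] [Algebra k K] {X X' : Scheme.{u}} [X.Over (Spec (CommRingCat.of k))]
  [X'.Over (Spec (CommRingCat.of K))] [IsProper (X ↘ Spec (CommRingCat.of k))]
  [IsProper (X' ↘ Spec (CommRingCat.of K))] {π : X' ⟶ X}
  (hpb : IsPullback π (X' ↘ Spec (CommRingCat.of K)) (X ↘ Spec (CommRingCat.of k))
    (Spec.map (CommRingCat.ofHom (algebraMap k K))))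
  {r : ℕ}

include hpb

/-- Cohomology of the direct image, naturally. -/
theorem exists_pushH (r : ℕ) :
    ∃ e : ∀ N : X'.Modules, Coh.IsQCoh N → Coh.HH X' N r ≃+ Coh.HH X ((Coh.push π).obj N) r,
      ∀ (N N' : X'.Modules) (hN : Coh.IsQCoh N) (hN' : Coh.IsQCoh N') (φ : N ⟶ N') (x : Coh.HH X' N r),
        e N' hN' (Canon.HHlin K φ r x) = Canon.HHlin k ((Coh.push π).map φ) r (e N hN x) := by
  haveI : IsAffineHom π := MorphismProperty.of_isPullback hpb.flip inferInstance
  have hb : QCoh.Ab.PreimageBasis π.base (QCoh.stdCovers X') := fun U y hy => by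
    obtain ⟨_, ⟨W, hW, rfl⟩, hyW, hWU⟩ := X.isBasis_affineOpens.exists_subset_of_mem_open hy U.2
    exact ⟨W, hWU, hyW, hW.preimage π⟩
  obtain ⟨e, he⟩ := QCoh.Ab.H_push_natural π.base (QCoh.stdCovers X') hb r
  exact ⟨fun N hN => e (QCoh.abSheaf N) (QCoh.stdCovers_acyclic hN), fun N N' hN hN' φ x =>
    he _ _ (QCoh.stdCovers_acyclic hN) (QCoh.stdCovers_acyclic hN') ((QCoh.toAbFunctor X').map φ) x⟩

/-- The cohomology of the extension of a module: a basis coming from below, and retractions. -/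
theorem exists_basis {M : X.Modules} (hM : Coh.IsCoh M)
    (e : ∀ N : X'.Modules, Coh.IsQCoh N → Coh.HH X' N r ≃+ Coh.HH X ((Coh.push π).obj N) r)
    (he : ∀ (N N' : X'.Modules) (hN : Coh.IsQCoh N) (hN' : Coh.IsQCoh N') (φ : N ⟶ N') (x : Coh.HH X' N r),
        e N' hN' (Canon.HHlin K φ r x) = Canon.HHlin k ((Coh.push π).map φ) r (e N hN x)) :
    ∃ (n : ℕ) (v : Module.Basis (Fin n) k (Coh.HH X M r))
      (w : Module.Basis (Fin n) K (Coh.HH X' ((Scheme.Modules.pullback π).obj M) r))
      (R : (K →ₗ[k] k) → ((Coh.push π).obj ((Scheme.Modules.pullback π).obj M) ⟶ M)),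
      (∀ i, w i = (e _ (QCoh.isQCoh_pullback π hM.1)).symm (Canon.HHlin k (η π M) r (v i))) ∧
      (∀ (l : K →ₗ[k] k) (c : K) (x : Coh.HH X M r), Canon.HHlin k (R l) r (e _ (QCoh.isQCoh_pullback π hM.1)
        (c • (e _ (QCoh.isQCoh_pullback π hM.1)).symm (Canon.HHlin k (η π M) r x))) = l c • x) ∧
      ∀ (U : X.Opens), IsAffineOpen U → ∀ y : Γ((Coh.push π).obj ((Scheme.Modules.pullback π).obj M), U),
        (∀ l, (R l).app U y = 0) → y = 0 := by
  classical
  haveI := QuasiCompact.compactSpace_of_compactSpace (X ↘ Spec (CommRingCat.of k))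
  haveI := quasiSeparatedSpace_of_quasiSeparated (X ↘ Spec (CommRingCat.of k))
  haveI := CurveCohLib.isNoetherian_of_proper (k := k) (X := X)
  haveI : IsAffineHom π := MorphismProperty.of_isPullback hpb.flip inferInstance
  haveI := CurveCohLib.finite_HH (k := k) hM r
  obtain ⟨R, hR, hR'⟩ := exists_retract hpb hM.1
  let E := e _ (QCoh.isQCoh_pullback π hM.1)
  have key : ∀ (l : K →ₗ[k] k) (c : K) (x : Coh.HH X M r),
      Canon.HHlin k (R l) r (E (c • E.symm (Canon.HHlin k (η π M) r x))) = l c • x := by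
    intro l c x
    rw [smul_eq_HHlin _ r c, he _ _ (QCoh.isQCoh_pullback π hM.1) (QCoh.isQCoh_pullback π hM.1), AddEquiv.apply_symm_apply, PnDual.HHlin_comp, PnDual.HHlin_comp, smul_eq_HHlin _ r (l c),
      ← hR]
  let v := Module.finBasis k (Coh.HH X M r)
  let Ψ : (Fin _ → K) →ₗ[K] Coh.HH X' ((Scheme.Modules.pullback π).obj M) r :=
    Fintype.linearCombination K fun i => E.symm (Canon.HHlin k (η π M) r (v i))
  have hinj : Function.Injective Ψ := by
    refine (injective_iff_map_eq_zero _).2 fun c hc => ?_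
    ext i
    refine functional_ext (k := k) fun l => ?_
    have h1 := congrArg (fun y => Canon.HHlin k (R l) r (E y)) hc
    simp only [Ψ, Fintype.linearCombination_apply, map_sum, key, map_zero] at h1
    rw [Pi.zero_apply, map_zero]
    exact (Fintype.linearIndependent_iff.1 v.linearIndependent) (fun j => l (c j)) h1 i
  haveI := CurveCohLib.isNoetherian_of_proper (k := K) (X := X')
  haveI := CurveCohLib.finite_HH (k := K) (PushAmp.isCoh_pullback π hM) r
  have hsurj : Function.Surjective Ψ :=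
    (LinearMap.injective_iff_surjective_of_finrank_eq_finrank (by
      rw [CurveBC.finrank_hh k K π hpb M hM.1 r, Module.finrank_fin_fun])).1 hinj
  refine ⟨_, v, Module.Basis.ofEquivFun (LinearEquiv.ofBijective Ψ ⟨hinj, hsurj⟩).symm, R, fun i => ?_,
    key, hR'⟩
  rw [Module.Basis.coe_ofEquivFun]
  show Ψ (Pi.single i 1) = _
  rw [Fintype.linearCombination_apply_single, one_smul]

/-- The extension of the field of a dualizing module is a dualizing module. -/
theorem nonempty_iso {ω : X.Modules} {tr : Coh.HH X ω r →ₗ[k] k} (hω : Canon.IsRDualOver k X r ω tr)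
    (hωc : Coh.IsCoh ω) {ω' : X'.Modules} {tr' : Coh.HH X' ω' r →ₗ[K] K} (hω' : Canon.IsRDualOver K X' r ω' tr') :
    Nonempty ((Scheme.Modules.pullback π).obj ω ≅ ω') := by
  classical
  haveI := QuasiCompact.compactSpace_of_compactSpace (X ↘ Spec (CommRingCat.of k))
  haveI := quasiSeparatedSpace_of_quasiSeparated (X ↘ Spec (CommRingCat.of k))
  haveI := CurveCohLib.isNoetherian_of_proper (k := k) (X := X)
  haveI : IsAffineHom π := MorphismProperty.of_isPullback hpb.flip inferInstance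
  obtain ⟨e, he⟩ := exists_pushH hpb r
  obtain ⟨n, v, w, R, hw, hR, hsep⟩ := exists_basis hpb hωc e he
  let P := Scheme.Modules.pullback π
  have hPω := QCoh.isQCoh_pullback π hωc.1
  let T : Coh.HH X' (P.obj ω) r →ₗ[K] K := w.constr K fun i => algebraMap k K (tr (v i))
  have hid : ∀ (l : K →ₗ[k] k) (y : Coh.HH X' (P.obj ω) r), tr (Canon.HHlin k (R l) r (e _ hPω y)) = l (T y) := by
    intro l y
    rw [← w.sum_repr y]
    simp only [map_sum]
    refine Finset.sum_congr rfl fun i _ => ?_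
    rw [LinearMap.map_smul T, Module.Basis.constr_basis, hw, hR, LinearMap.map_smul, smul_eq_mul, smul_eq_mul,
      mul_comm (w.repr y i), ← Algebra.smul_def, LinearMap.map_smul, smul_eq_mul, mul_comm]
  have hTb : ∀ x, T ((e _ hPω).symm (Canon.HHlin k (η π ω) r x)) = algebraMap k K (tr x) := fun x =>
    functional_ext (k := k) fun l => by
      rw [← hid, show (e _ hPω).symm (Canon.HHlin k (η π ω) r x) =
        (1 : K) • (e _ hPω).symm (Canon.HHlin k (η π ω) r x) from (one_smul _ _).symm, hR,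
        LinearMap.map_smul, Algebra.algebraMap_eq_smul_one, LinearMap.map_smul, smul_eq_mul, smul_eq_mul, mul_comm]
  -- the duality map of the extension is injective
  have hinj : ∀ {G : X'.Modules}, Coh.IsQCoh G → ∀ ψ : G ⟶ P.obj ω,
      (∀ y, T (Canon.HHlin K ψ r y) = 0) → ψ = 0 := by
    intro G hG ψ hψ
    have hl : ∀ l, (Coh.push π).map ψ ≫ R l = 0 := fun l => by
      refine (hω.2 _ (QCoh.isQCoh_pushforward π hG)).1 (LinearMap.ext fun x => ?_)
      obtain ⟨y, rfl⟩ := (e G hG).surjective x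
      show tr (Canon.HHlin k _ r (e G hG y)) = tr (Canon.HHlin k (0 : _ ⟶ ω) r (e G hG y))
      rw [← PnDual.HHlin_comp, ← he G _ hG hPω ψ y, hid, hψ, map_zero, HHlin_zero', map_zero]
    refine QCoh.hom_eq_zero_of_cover hG hPω ψ (fun U : X.affineOpens => π ⁻¹ᵁ U.1)
      (fun U => U.2.preimage π) (fun x => ?_) fun U y => hsep U.1 U.2 _ fun l => ?_
    · obtain ⟨_, ⟨U, hU, rfl⟩, hxU, -⟩ :=
        X.isBasis_affineOpens.exists_subset_of_mem_open (Set.mem_univ (π.base x)) isOpen_univ
      exact ⟨⟨U, hU⟩, hxU⟩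
    · exact congr($(hl l).app U.1 y)
  obtain ⟨φ, hφ⟩ := (hω'.2 (P.obj ω) hPω).2 T
  have hφ' : ∀ y, tr' (Canon.HHlin K φ r y) = T y := fun y => LinearMap.congr_fun hφ y
  haveI : Mono φ := by
    refine Preadditive.mono_of_kernel_zero (IsZero.eq_of_src ((IsZero.iff_id_eq_zero _).2 ?_) _ _)
    rw [← cancel_mono (kernel.ι φ), Category.id_comp, zero_comp]
    refine hinj (QCoh.isQCoh_kernel hPω hω'.1 φ) _ fun y => ?_
    rw [← hφ', PnDual.HHlin_comp, kernel.condition, HHlin_zero', map_zero]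
  -- and hits every morphism from the extension of a coherent module
  have hlift : ∀ {G : X.Modules}, Coh.IsCoh G → ∀ θ : P.obj G ⟶ ω', ∃ ψ, ψ ≫ φ = θ := by
    intro G hG θ
    obtain ⟨m, vG, wG, RG, hwG, hRG, -⟩ := exists_basis hpb hG e he
    choose ψ₀ hψ₀ using fun j => (hω.2 G hG.1).2 (vG.coord j)
    let c : Fin m → K := fun j => tr' (Canon.HHlin K θ r (wG j))
    let ψ : P.obj G ⟶ P.obj ω :=
      ∑ j, P.map (ψ₀ j) ≫ LCZLib.smulHom (Coh.toGlobal (X' ↘ Spec (CommRingCat.of K)) (c j)) (P.obj ω)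
    refine ⟨ψ, (hω'.2 _ (QCoh.isQCoh_pullback π hG.1)).1 (wG.ext fun i => ?_)⟩
    show tr' (Canon.HHlin K (ψ ≫ φ) r (wG i)) = c i
    rw [← PnDual.HHlin_comp, hφ', PnDual.HHlin_sum, map_sum,
      Finset.sum_eq_single i]
    · rw [← PnDual.HHlin_comp, ← smul_eq_HHlin, LinearMap.map_smul]
      have hb : Canon.HHlin K (P.map (ψ₀ i)) r (wG i) =
          (e _ hPω).symm (Canon.HHlin k (η π ω) r (Canon.HHlin k (ψ₀ i) r (vG i))) := by
        apply (e _ hPω).injective
        rw [AddEquiv.apply_symm_apply, he _ _ (QCoh.isQCoh_pullback π hG.1) hPω, hwG, AddEquiv.apply_symm_apply, PnDual.HHlin_comp, PnDual.HHlin_comp]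
        exact congrArg (fun q => Canon.HHlin k q r (vG i))
          ((Scheme.Modules.pullbackPushforwardAdjunction π).unit.naturality (ψ₀ i)).symm
      rw [hb, hTb, show tr (Canon.HHlin k (ψ₀ i) r (vG i)) = vG.coord i (vG i) from LinearMap.congr_fun (hψ₀ i) _]
      simp
    · intro j _ hj
      rw [← PnDual.HHlin_comp, ← smul_eq_HHlin, LinearMap.map_smul]
      have hb : Canon.HHlin K (P.map (ψ₀ j)) r (wG i) =
          (e _ hPω).symm (Canon.HHlin k (η π ω) r (Canon.HHlin k (ψ₀ j) r (vG i))) := by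
        apply (e _ hPω).injective
        rw [AddEquiv.apply_symm_apply, he _ _ (QCoh.isQCoh_pullback π hG.1) hPω, hwG, AddEquiv.apply_symm_apply, PnDual.HHlin_comp, PnDual.HHlin_comp]
        exact congrArg (fun q => Canon.HHlin k q r (vG i))
          ((Scheme.Modules.pullbackPushforwardAdjunction π).unit.naturality (ψ₀ j)).symm
      rw [hb, hTb, show tr (Canon.HHlin k (ψ₀ j) r (vG i)) = vG.coord j (vG i) from LinearMap.congr_fun (hψ₀ j) _]
      simp [hj]
    · simp
  haveI : Epi φ := by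
    haveI : Epi ((Coh.push π).map φ) := by
      refine Preadditive.epi_of_cancel_zero _ fun {Z} g hg => ?_
      obtain ⟨hc⟩ := PnDual.nonempty_isColimit_modCocone (QCoh.isQCoh_pushforward π hω'.1)
      refine hc.hom_ext fun N => ?_
      obtain ⟨ψ, hψ⟩ := hlift (G := N.1.toModules)
        ⟨QCoh.isQCoh_of_ftOn (QCoh.isQCoh_pushforward π hω'.1) N.2,
          QCoh.isFT_of_ftOn (QCoh.isQCoh_pushforward π hω'.1) N.2⟩
        (((Scheme.Modules.pullbackPushforwardAdjunction π).homEquiv _ _).symm N.1.ι)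
      have h1 := congrArg ((Scheme.Modules.pullbackPushforwardAdjunction π).homEquiv _ _) hψ
      rw [Equiv.apply_symm_apply, Adjunction.homEquiv_naturality_right] at h1
      show N.1.ι ≫ g = N.1.ι ≫ 0
      rw [← h1, Category.assoc, Category.assoc, hg]; simp only [comp_zero]
    refine Preadditive.epi_of_cokernel_zero ?_
    refine IsZero.eq_of_tgt ((IsZero.iff_id_eq_zero _).2 ?_) _ _
    rw [← cancel_epi (cokernel.π φ), Category.comp_id, comp_zero]
    refine QCoh.hom_eq_zero_of_cover hω'.1 (QCoh.isQCoh_cokernel hPω hω'.1 φ) _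
      (fun U : X.affineOpens => π ⁻¹ᵁ U.1) (fun U => U.2.preimage π) (fun x => ?_) fun U y => ?_
    · obtain ⟨_, ⟨U, hU, rfl⟩, hxU, -⟩ :=
        X.isBasis_affineOpens.exists_subset_of_mem_open (Set.mem_univ (π.base x)) isOpen_univ
      exact ⟨⟨U, hU⟩, hxU⟩
    · obtain ⟨z, rfl⟩ := QCoh.app_surjective_of_epi (QCoh.isQCoh_pushforward π hPω)
        (QCoh.isQCoh_pushforward π hω'.1) ((Coh.push π).map φ) U.2 y
      exact congr($(cokernel.condition φ).app (π ⁻¹ᵁ U.1) z)
  haveI : IsIso φ := isIso_of_mono_of_epi φ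
  exact ⟨asIso φ⟩

end Groth.Agent.CanonDual.BC
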