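import Mathlib.Algebra.Homology.DerivedCategory.TStructure
import Mathlib.Algebra.Homology.DerivedCategory.HomologySequence
import Mathlib.Algebra.Homology.DerivedCategory.KProjective
import Mathlib.Algebra.Homology.DerivedCategory.FullyFaithful
import Mathlib.CategoryTheory.Triangulated.Yoneda

/-!
# Morphisms to and from single objects and the canonical t-structure
-/

set_option autoImplicit false
set_option linter.style.haveILetI false
set_option linter.unusedSectionVars false
set_option backward.isDefEq.respectTransparency false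
set_option backward.isDefEq.respectTransparency.types false

universe v u

open CategoryTheory CategoryTheory.Limits CategoryTheory.Pretriangulated

noncomputable section

namespace Groth.Agent.CanonDual.DerGen

open DerivedCategory

attribute [local instance] HasDerivedCategory.standard

variable {C : Type u} [Category.{v} C] [Abelian C]

abbrev H (i : ℤ) := DerivedCategory.homologyFunctor C i
abbrev S := DerivedCategory.singleFunctor C 0

/-- `H⁰` of a single object. -/
def hSingle (F : C) : (H (C := C) 0).obj ((S (C := C)).obj F) ≅ F :=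
  (DerivedCategory.singleFunctorCompHomologyFunctorIso C 0).app F

theorem hSingle_naturality {F G : C} (φ : F ⟶ G) :
    (H (C := C) 0).map ((S (C := C)).map φ) ≫ (hSingle G).hom = (hSingle F).hom ≫ φ :=
  (DerivedCategory.singleFunctorCompHomologyFunctorIso C 0).hom.naturality φ

theorem zero_of {A B : DerivedCategory C} (f : A ⟶ B) (a b : ℤ) (hab : a < b) (hA : A.IsLE a) (hB : B.IsGE b) :
    f = 0 :=
  DerivedCategory.TStructure.t.zero_of_isLE_of_isGE f a b hab hA hB

/-- Out of single objects into an object `≥ 0`. -/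
theorem exists_from_single (L : DerivedCategory C) [L.IsGE 0] :
    ∃ (W : C) (η : (S (C := C)).obj W ⟶ L), IsIso ((H (C := C) 0).map η) ∧
      ∀ F : C, Function.Bijective (fun φ : F ⟶ W => (S (C := C)).map φ ≫ η) := by
  obtain ⟨A, B, hA, hB, f, g, δ, hT⟩ := DerivedCategory.TStructure.t.exists_triangle L 0 1 rfl
  haveI hA' : A.IsLE 0 := ⟨hA⟩
  haveI hB' : B.IsGE 1 := ⟨hB⟩
  haveI : A.IsGE 0 := by
    rw [DerivedCategory.isGE_iff]
    intro i hi
    haveI : Mono ((H (C := C) i).map f) :=
      (DerivedCategory.HomologySequence.mono_homologyMap_mor₁_iff _ hT (i - 1) i (by omega)).2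
        ((DerivedCategory.isZero_of_isGE B 1 (i - 1) (by omega)).eq_of_src _ _)
    exact IsZero.of_mono ((H (C := C) i).map f) (DerivedCategory.isZero_of_isGE L 0 i hi)
  haveI : IsIso ((H (C := C) 0).map f) := by
    haveI : Mono ((H (C := C) 0).map f) :=
      (DerivedCategory.HomologySequence.mono_homologyMap_mor₁_iff _ hT (-1) 0 (by omega)).2
        ((DerivedCategory.isZero_of_isGE B 1 (-1) (by omega)).eq_of_src _ _)
    haveI : Epi ((H (C := C) 0).map f) :=
      (DerivedCategory.HomologySequence.exact₂ _ hT 0).epi_f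
        ((DerivedCategory.isZero_of_isGE B 1 0 (by omega)).eq_of_tgt _ _)
    exact isIso_of_mono_of_epi _
  obtain ⟨W, ⟨e⟩⟩ := DerivedCategory.exists_iso_singleFunctor_obj_of_isGE_of_isLE A 0
  refine ⟨W, e.inv ≫ f, by rw [Functor.map_comp]; exact IsIso.comp_isIso, fun F => ?_⟩
  have hinj : ∀ x : (S (C := C)).obj F ⟶ A, x ≫ f = 0 → x = 0 := fun x hx => by
    have hx' : x ≫ (Triangle.mk f g δ).invRotate.mor₂ = 0 := hx
    obtain ⟨y, rfl⟩ := Triangle.coyoneda_exact₂ _ (inv_rot_of_distTriang _ hT) x hx'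
    haveI : (B⟦(-1 : ℤ)⟧).IsGE 2 := DerivedCategory.TStructure.t.isGE_shift B 1 (-1) 2 (by omega)
    rw [zero_of y 0 2 (by omega) inferInstance ‹_›]
    exact zero_comp
  constructor
  · intro φ ψ h
    have h' : ((S (C := C)).map φ ≫ e.inv) ≫ f = ((S (C := C)).map ψ ≫ e.inv) ≫ f := by
      simpa only [Category.assoc] using h
    have := hinj ((S (C := C)).map φ ≫ e.inv - (S (C := C)).map ψ ≫ e.inv)
      (by rw [Preadditive.sub_comp, h', sub_self])
    exact (S (C := C)).map_injective ((cancel_mono e.inv).1 (sub_eq_zero.1 this))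
  · intro θ
    obtain ⟨x, hx⟩ := Triangle.coyoneda_exact₂ _ hT θ (zero_of _ 0 1 (by omega) inferInstance hB')
    obtain ⟨φ, hφ⟩ := (S (C := C)).map_surjective (x ≫ e.hom)
    refine ⟨φ, ?_⟩
    show (S (C := C)).map φ ≫ e.inv ≫ f = θ
    rw [hφ, Category.assoc, e.hom_inv_id_assoc]
    exact hx.symm

theorem eq_zero_of_projective {P : C} [Projective P] {A : DerivedCategory C} [A.IsLE (-1)]
    (x : (S (C := C)).obj P ⟶ A) : x = 0 := by
  obtain ⟨K, hK, ⟨e⟩⟩ := DerivedCategory.exists_iso_Q_obj_of_isLE A (-1)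
  let P' := (CochainComplex.singleFunctor C 0).obj P
  haveI : ∀ n, Projective (P'.X n) := fun n => by
    by_cases hn : n = 0
    · subst hn
      exact Projective.of_iso (HomologicalComplex.singleObjXSelf (ComplexShape.up ℤ) 0 P).symm ‹_›
    · exact (HomologicalComplex.isZero_single_obj_X (ComplexShape.up ℤ) 0 P n hn).projective
  haveI : P'.IsStrictlyLE 0 := inferInstanceAs (CochainComplex.IsStrictlyLE ((CochainComplex.singleFunctor C 0).obj P) 0)
  haveI : P'.IsKProjective := CochainComplex.isKProjective_of_projective P' 0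
  let q := HomotopyCategory.quotient C (ComplexShape.up ℤ)
  let eP : (S (C := C)).obj P ≅ DerivedCategory.Q.obj P' := (DerivedCategory.singleFunctorIsoCompQ C 0).app P
  let a := DerivedCategory.quotientCompQhIso C
  obtain ⟨y, hy⟩ := (CochainComplex.IsKProjective.Qh_map_bijective P' (q.obj K)).2
    ((a.app P').hom ≫ eP.inv ≫ x ≫ e.hom ≫ (a.app K).inv)
  obtain ⟨z, rfl⟩ := q.map_surjective y
  have hz : z = 0 := HomologicalComplex.hom_ext _ _ fun n => by
    by_cases hn : n = 0
    · subst hn
      exact (K.isZero_of_isStrictlyLE (-1) 0 (by omega)).eq_of_tgt _ _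
    · exact (HomologicalComplex.isZero_single_obj_X (ComplexShape.up ℤ) 0 P n hn).eq_of_src _ _
  rw [hz, Functor.map_zero, Functor.map_zero] at hy
  have h1 := congrArg (fun t => eP.hom ≫ (a.app P').inv ≫ t ≫ (a.app K).hom ≫ e.inv) hy
  simpa using h1.symm

/-- Out of an object `≤ 0` into single objects, and out of single projective objects into it. -/
theorem exists_to_single (R : DerivedCategory C) [R.IsLE 0] :
    ∃ (W : C) (π : R ⟶ (S (C := C)).obj W),
      (∀ I : C, Function.Bijective (fun φ : W ⟶ I => π ≫ (S (C := C)).map φ)) ∧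
      ∀ P : C, Projective P → Function.Bijective (fun x : (S (C := C)).obj P ⟶ R => x ≫ π) := by
  obtain ⟨A, B, hA, hB, f, g, δ, hT⟩ := DerivedCategory.TStructure.t.exists_triangle R (-1) 0 (by omega)
  haveI hA' : A.IsLE (-1) := ⟨hA⟩
  haveI hB' : B.IsGE 0 := ⟨hB⟩
  haveI : B.IsLE 0 := by
    rw [DerivedCategory.isLE_iff]
    intro i hi
    haveI : Epi ((H (C := C) i).map g) :=
      (DerivedCategory.HomologySequence.epi_homologyMap_mor₂_iff _ hT i (i + 1) rfl).2
        ((DerivedCategory.isZero_of_isLE A (-1) (i + 1) (by omega)).eq_of_tgt _ _)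
    exact IsZero.of_epi ((H (C := C) i).map g) (DerivedCategory.isZero_of_isLE R 0 i hi)
  obtain ⟨W, ⟨e⟩⟩ := DerivedCategory.exists_iso_singleFunctor_obj_of_isGE_of_isLE B 0
  haveI hA1 : (A⟦(1 : ℤ)⟧).IsLE (-2) := DerivedCategory.TStructure.t.isLE_shift A (-1) 1 (-2) (by omega)
  refine ⟨W, g ≫ e.hom, fun I => ⟨fun φ ψ h => ?_, fun θ => ?_⟩, fun P hP => ⟨fun x y h => ?_, fun z => ?_⟩⟩
  · have h' : g ≫ (e.hom ≫ (S (C := C)).map φ - e.hom ≫ (S (C := C)).map ψ) = 0 := by
      rw [Preadditive.comp_sub, sub_eq_zero, ← Category.assoc, ← Category.assoc]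
      exact h
    obtain ⟨t, ht⟩ := Triangle.yoneda_exact₃ _ hT _ h'
    rw [zero_of t (-2) 0 (by omega) hA1 inferInstance, comp_zero] at ht
    exact (S (C := C)).map_injective ((cancel_epi e.hom).1 (sub_eq_zero.1 ht))
  · obtain ⟨t, ht⟩ := Triangle.yoneda_exact₂ _ hT θ (zero_of _ (-1) 0 (by omega) hA' inferInstance)
    obtain ⟨φ, hφ⟩ := (S (C := C)).map_surjective (e.inv ≫ t)
    refine ⟨φ, ?_⟩
    show (g ≫ e.hom) ≫ (S (C := C)).map φ = θ
    rw [hφ, Category.assoc, e.hom_inv_id_assoc]
    exact ht.symm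
  · haveI := hP
    have h' : (x - y) ≫ g = 0 := by
      rw [Preadditive.sub_comp, sub_eq_zero]
      exact (cancel_mono e.hom).1 (by simpa only [Category.assoc] using h)
    obtain ⟨t, ht⟩ := Triangle.coyoneda_exact₂ _ hT _ h'
    rw [eq_zero_of_projective (A := A) t, zero_comp] at ht
    exact sub_eq_zero.1 ht
  · haveI := hP
    haveI : (A⟦(1 : ℤ)⟧).IsLE (-1) := DerivedCategory.TStructure.t.isLE_of_le _ (-2) (-1) (by omega)
    obtain ⟨t, ht⟩ := Triangle.coyoneda_exact₃ _ hT (z ≫ e.inv) (eq_zero_of_projective (A := A⟦(1 : ℤ)⟧) _)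
    refine ⟨t, ?_⟩
    show t ≫ g ≫ e.hom = z
    have ht' : z ≫ e.inv = t ≫ g := ht
    rw [← Category.assoc, ← ht', Category.assoc, e.inv_hom_id, Category.comp_id]

end Groth.Agent.CanonDual.DerGen
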