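import Groth.Prelude.Def_KLin
import Groth.Agent.SiteBase.ExtMod
import Groth.Agent.QCoh.Support
import Groth.Agent.QCoh.ToSheaf
import Mathlib.Algebra.Homology.DerivedCategory.Ext.Map

/-!
# `Ext(O, -) = H(X, -)`, naturally
-/

set_option autoImplicit false
set_option linter.style.haveILetI false
set_option linter.unusedSectionVars false
set_option backward.isDefEq.respectTransparency false
set_option backward.isDefEq.respectTransparency.types false

universe w w' v v' u u'

open CategoryTheory CategoryTheory.Limits CategoryTheory.Abelian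

noncomputable section

namespace Groth.Agent.CanonDual

section General

variable {A : Type u} [Category.{v} A] [Abelian A] [HasExt.{w} A]
  {B : Type u'} [Category.{v'} B] [Abelian B] [HasExt.{w} B]
  (G : A ⥤ B) [G.Additive] [PreservesFiniteLimits G] [PreservesFiniteColimits G]
  {PA : A} {PB : B} (ν : PB ⟶ G.obj PA)

/-- Apply an exact functor and precompose. -/
def extMap (M : A) (n : ℕ) (x : Ext.{w} PA M n) : Ext.{w} PB (G.obj M) n :=
  (Ext.mk₀ ν).comp (x.mapExactFunctor G) (zero_add n)

theorem extMap_add (M : A) (n : ℕ) (x y : Ext.{w} PA M n) :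
    extMap G ν M n (x + y) = extMap G ν M n x + extMap G ν M n y := by
  simp [extMap]

theorem extMap_comp {M N : A} {a b c : ℕ} (x : Ext.{w} PA M a) (y : Ext.{w} M N b) (h : a + b = c) :
    extMap G ν N c (x.comp y h) = (extMap G ν M a x).comp (y.mapExactFunctor G) h := by
  rw [extMap, Ext.mapExactFunctor_comp]
  exact (Ext.comp_assoc _ _ _ (zero_add a) h (by omega)).symm

theorem extMap_bijective [EnoughInjectives A]
    (h0 : ∀ M : A, Function.Bijective (fun φ : PA ⟶ M => ν ≫ G.map φ))
    (hI : ∀ I : A, Injective I → ∀ q : ℕ, Subsingleton (Ext.{w} PB (G.obj I) (q + 1))) :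
    ∀ (n : ℕ) (M : A), Function.Bijective (extMap G ν M n) := by
  intro n
  induction n with
  | zero =>
    intro M
    have e : ∀ φ : PA ⟶ M, extMap G ν M 0 (Ext.mk₀ φ) = Ext.mk₀ (ν ≫ G.map φ) := fun φ => by
      simp [extMap, Ext.mapExactFunctor_mk₀]
    constructor
    · intro x y h
      obtain ⟨φ, rfl⟩ := (Ext.mk₀_bijective _ _).2 x
      obtain ⟨ψ, rfl⟩ := (Ext.mk₀_bijective _ _).2 y
      rw [e, e] at h
      exact congrArg _ ((h0 M).1 ((Ext.mk₀_bijective _ _).1 h))
    · intro z
      obtain ⟨θ, rfl⟩ := (Ext.mk₀_bijective _ _).2 z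
      obtain ⟨φ, rfl⟩ := (h0 M).2 θ
      exact ⟨Ext.mk₀ φ, e φ⟩
  | succ p ih =>
    intro M
    let Q := Classical.arbitrary (InjectivePresentation M)
    have hS := Q.shortExact_shortComplex
    let S := Q.shortComplex
    haveI : Injective S.X₂ := Q.injective
    have hS' : (S.map G).ShortExact := hS.map_of_exact G
    have hc : ∀ y : Ext.{w} PA S.X₃ p, extMap G ν S.X₁ (p + 1) (y.comp hS.extClass rfl) =
        (extMap G ν S.X₃ p y).comp hS'.extClass rfl := fun y => by
      rw [extMap_comp, Ext.mapExactFunctor_extClass]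
    constructor
    · suffices ∀ x, extMap G ν M (p + 1) x = 0 → x = 0 by
        intro x y hxy
        have h := extMap_add G ν M (p + 1) (x - y) y
        rw [sub_add_cancel, hxy] at h
        exact sub_eq_zero.1 (this _ (by simpa using h.symm))
      intro x hx
      obtain ⟨y, hy⟩ : ∃ y : Ext.{w} PA S.X₃ p, y.comp hS.extClass rfl = x :=
        Ext.covariant_sequence_exact₁ PA hS x (Ext.eq_zero_of_injective _) rfl
      subst hy
      obtain ⟨z, hz⟩ := Ext.covariant_sequence_exact₃ PB hS' (extMap G ν S.X₃ p y) (n₁ := p + 1) rfl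
        ((hc y).symm.trans hx)
      obtain ⟨z', rfl⟩ := (ih S.X₂).2 z
      have hy' : y = z'.comp (Ext.mk₀ S.g) (add_zero p) := (ih S.X₃).1 (by
        rw [extMap_comp, Ext.mapExactFunctor_mk₀]; exact hz.symm)
      rw [hy', Ext.comp_assoc_of_second_deg_zero, hS.comp_extClass, Ext.comp_zero]
    · intro z
      obtain ⟨y, hy⟩ := Ext.covariant_sequence_exact₁ PB hS' z ((hI S.X₂ ‹_› p).elim _ _) rfl
      obtain ⟨y', rfl⟩ := (ih S.X₃).2 y
      exact ⟨y'.comp hS.extClass rfl, (hc y').trans hy⟩

end General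

section Scheme

open AlgebraicGeometry TopologicalSpace

variable {X : AlgebraicGeometry.Scheme.{u}}

instance : PreservesFiniteColimits (QCoh.toAbFunctor X) :=
  Functor.preservesFiniteColimits_of_preservesHomology _

/-- `Ext(O, M) → H(X, M)`. -/
def extH [HasExt.{u} X.Modules] (M : X.Modules) (n : ℕ) (x : Ext.{u} (Coh.structureModule X) M n) :
    Coh.HH X M n :=
  extMap (QCoh.toAbFunctor X) (SiteBase.oneHom X.ringCatSheaf) M n x

theorem extH_natural [HasExt.{u} X.Modules] {M N : X.Modules} (f : M ⟶ N) (n : ℕ)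
    (x : Ext.{u} (Coh.structureModule X) M n) :
    extH N n (x.comp (Ext.mk₀ f) (add_zero n)) =
      Sheaf.H.map ((SheafOfModules.toSheaf X.ringCatSheaf).map f) n (extH M n x) := by
  show extMap _ _ N n _ = _
  rw [extMap_comp, Ext.mapExactFunctor_mk₀]
  rfl

theorem extH_bijective [HasExt.{u} X.Modules] (M : X.Modules) (n : ℕ) :
    Function.Bijective (extH M n) := by
  haveI : EnoughInjectives X.Modules := inferInstanceAs (EnoughInjectives (SheafOfModules _))
  refine extMap_bijective (QCoh.toAbFunctor X) (SiteBase.oneHom X.ringCatSheaf)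
    (fun M => SiteBase.oneHom_comp_bijective M) (fun I hI q => ?_) n M
  obtain ⟨e⟩ := SiteBase.nonempty_ext_unit_addEquiv (R := X.ringCatSheaf) I (q + 1)
  haveI := Ext.subsingleton_of_injective (SheafOfModules.unit X.ringCatSheaf) I q
  exact e.toEquiv.symm.subsingleton

end Scheme

end Groth.Agent.CanonDual
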