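import Groth.Prelude.Def_Formal
import Groth.Agent.FMBase.HyperPoint

/-!
# Modules on the spectrum of a field
-/

set_option autoImplicit false
set_option linter.style.haveILetI false
set_option linter.unusedSectionVars false
set_option backward.isDefEq.respectTransparency false
set_option backward.isDefEq.respectTransparency.types false

universe u

open CategoryTheory CategoryTheory.Limits AlgebraicGeometry TopologicalSpace Opposite

attribute [-instance] CategoryTheory.catToReflQuiver

noncomputable section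

namespace Groth.Agent.CanonDual.SpecField

open Groth.Agent.KFlatLib Groth.Agent

variable {k : Type u} [Field k]

local notation "Y" => Spec (CommRingCat.of k)

theorem subsingleton_bot (M : (Y).Modules) : Subsingleton Γ(M, ⊥) :=
  ⟨fun a b => TopCat.Presheaf.section_ext (⟨M.presheaf, M.isSheaf⟩ : TopCat.Sheaf Ab (Y).toTopCat)
    ⊥ a b fun _ hy => hy.elim⟩

theorem eq_bot_or_top (U : (Y).Opens) : U = ⊥ ∨ U = ⊤ := by
  rcases Set.eq_empty_or_nonempty (U : Set (Y)) with hU | ⟨x, hx⟩
  · exact Or.inl (Opens.ext hU)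
  · exact Or.inr (FMBase.eq_top_of_mem_spec_field hx)

theorem isIso_of_top {M N : (Y).Modules} (φ : M ⟶ N) (h : Function.Bijective (φ.app ⊤)) : IsIso φ := by
  refine Scheme.Modules.Hom.isIso_iff_isIso_app.2 fun U => (ConcreteCategory.isIso_iff_bijective _).2 ?_
  rcases eq_bot_or_top U with rfl | rfl
  · haveI := subsingleton_bot M
    haveI := subsingleton_bot N
    exact ⟨fun a b _ => Subsingleton.elim a b, fun b => ⟨0, Subsingleton.elim _ _⟩⟩
  · exact h

theorem top_ext {M N : (Y).Modules} {φ ψ : M ⟶ N} (h : ∀ m, φ.app ⊤ m = ψ.app ⊤ m) : φ = ψ := by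
  refine Scheme.Modules.hom_ext _ _ fun U => ?_
  ext m
  rcases eq_bot_or_top U with rfl | rfl
  · haveI := subsingleton_bot N
    exact Subsingleton.elim _ _
  · exact h m

theorem projective_structure : Projective (Coh.structureModule (Y)) := by
  refine ⟨fun {E B} g e he => ?_⟩
  haveI := FMBase.preservesFiniteColimits_gammaAb_spec (k := k)
  haveI : Epi ((DCoh.gammaAb (Y)).map e) := inferInstance
  obtain ⟨s, hs⟩ := (AddCommGrpCat.epi_iff_surjective _).1 this (topEquiv B g)
  refine ⟨(topEquiv E).symm s, (topEquiv B).injective ?_⟩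
  rw [topEquiv_naturality, Equiv.apply_symm_apply]
  exact hs

/-- Scalars on the structure module. -/
def scal (a : k) : Coh.structureModule (Y) ⟶ Coh.structureModule (Y) :=
  Formal.smulModΓ (Coh.structureModule (Y)) ((Scheme.ΓSpecIso (CommRingCat.of k)).inv.hom a)

/-- Sections over the whole space. -/
def tE (W : (Y).Modules) : (Coh.structureModule (Y) ⟶ W) ≃ Γ(W, ⊤) := topEquiv W

theorem tE_apply (W : (Y).Modules) (φ : Coh.structureModule (Y) ⟶ W) :
    tE W φ = φ.app ⊤ (1 : Γ(Y, ⊤)) := rfl

theorem tE_comp {W W' : (Y).Modules} (φ : Coh.structureModule (Y) ⟶ W) (g : W ⟶ W') :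
    tE W' (φ ≫ g) = g.app ⊤ (tE W φ) := rfl

theorem tE_add (W : (Y).Modules) (φ ψ : Coh.structureModule (Y) ⟶ W) :
    tE W (φ + ψ) = tE W φ + tE W ψ := rfl

/-- The scalar as a global function. -/
def gl (a : k) : Γ(Y, ⊤) := (Scheme.ΓSpecIso (CommRingCat.of k)).inv.hom a

theorem res_id (r : Γ(Y, ⊤)) : (Y).presheaf.map (homOfLE (le_top : (⊤ : (Y).Opens) ≤ ⊤)).op r = r :=
  ConcreteCategory.congr_hom ((Y).presheaf.map_id (op ⊤)) r

theorem tE_scal (W : (Y).Modules) (a : k) (y : Coh.structureModule (Y) ⟶ W) :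
    tE W (scal a ≫ y) = gl a • tE W y := by
  rw [tE_comp, tE_apply W y, ← Scheme.Modules.Hom.app_smul]
  refine congrArg (y.app ⊤) ?_
  exact congrArg (· * (1 : Γ(Y, ⊤))) (res_id (gl a))

theorem bijective_scal : Function.Bijective (scal (k := k)) := by
  have h : ∀ a, tE _ (scal a) = gl a := fun a => by
    have h1 := tE_scal (Coh.structureModule (Y)) a (𝟙 _)
    rw [Category.comp_id] at h1
    refine h1.trans ?_
    show gl a * (1 : Γ(Y, ⊤)) = _
    exact mul_one _
  refine ⟨fun a b e => (ConcreteCategory.bijective_of_isIso (Scheme.ΓSpecIso (CommRingCat.of k)).inv).1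
    ((h a).symm.trans ((congrArg (tE _) e).trans (h b))), fun φ => ?_⟩
  obtain ⟨a, ha⟩ := (ConcreteCategory.bijective_of_isIso (Scheme.ΓSpecIso (CommRingCat.of k)).inv).2
    (tE (Coh.structureModule (Y)) φ)
  exact ⟨a, (tE _).injective ((h a).trans ha)⟩

theorem res_top_surjective (W : (Y).Modules) (U : (Y).Opens) :
    Function.Surjective (W.presheaf.map (homOfLE (le_top : U ≤ ⊤)).op) := by
  intro m
  rcases eq_bot_or_top U with rfl | rfl
  · haveI := subsingleton_bot W
    exact ⟨0, Subsingleton.elim _ _⟩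
  · exact ⟨m, ConcreteCategory.congr_hom (W.presheaf.map_id (op ⊤)) m⟩

/-- A morphism from a linear map on global sections. -/
theorem exists_hom_of_top {W W' : (Y).Modules} (f : Γ(W, ⊤) → Γ(W', ⊤))
    (hadd : ∀ s t, f (s + t) = f s + f t) (hsmul : ∀ (r : Γ(Y, ⊤)) s, f (r • s) = r • f s) :
    ∃ g : W ⟶ W', ∀ s, g.app ⊤ s = f s := by
  let R : ∀ U, Γ(W, ⊤) → Γ(W, U) := fun U s => W.presheaf.map (homOfLE (le_top : U ≤ ⊤)).op s
  let R' : ∀ U, Γ(W', ⊤) → Γ(W', U) := fun U s => W'.presheaf.map (homOfLE (le_top : U ≤ ⊤)).op s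
  let gf : ∀ U, Γ(W, U) → Γ(W', U) := fun U m => R' U (f (Function.surjInv (res_top_surjective W U) m))
  have hgf : ∀ U s, gf U (R U s) = R' U (f s) := fun U s => by
    rcases eq_bot_or_top U with rfl | rfl
    · haveI := subsingleton_bot W'
      exact Subsingleton.elim _ _
    · have h1 := Function.surjInv_eq (res_top_surjective W ⊤) (R ⊤ s)
      have h2 : ∀ t, R ⊤ t = t := fun t => ConcreteCategory.congr_hom (W.presheaf.map_id (op ⊤)) t
      exact congrArg (fun t => R' ⊤ (f t)) ((h2 _).symm.trans (h1.trans rfl) |>.trans (h2 s))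
  have hA : ∀ U m m', gf U (m + m') = gf U m + gf U m' := fun U m m' => by
    obtain ⟨s, rfl⟩ := res_top_surjective W U m
    obtain ⟨t, rfl⟩ := res_top_surjective W U m'
    rw [← map_add]
    show gf U (R U (s + t)) = gf U (R U s) + gf U (R U t)
    rw [hgf, hgf, hgf, hadd]
    exact map_add _ _ _
  let η : W.presheaf ⟶ W'.presheaf :=
    { app := fun U => AddCommGrpCat.ofHom (AddMonoidHom.mk' (gf U.unop) (hA U.unop))
      naturality := fun U V i => by
        ext m
        obtain ⟨s, rfl⟩ := res_top_surjective W U.unop m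
        show gf V.unop (W.presheaf.map i (R U.unop s)) = W'.presheaf.map i (gf U.unop (R U.unop s))
        have e1 : W.presheaf.map i (R U.unop s) = R V.unop s :=
          (ConcreteCategory.congr_hom (W.presheaf.map_comp _ i) s).symm.trans rfl
        have e2 : W'.presheaf.map i (R' U.unop (f s)) = R' V.unop (f s) :=
          (ConcreteCategory.congr_hom (W'.presheaf.map_comp _ i) (f s)).symm.trans rfl
        rw [e1, hgf, hgf, e2] }
  refine ⟨⟨PresheafOfModules.homMk η fun U r m => ?_⟩, fun s => ?_⟩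
  · show gf U.unop ((show Γ(Y, U.unop) from r) • (show Γ(W, U.unop) from m)) =
      (show Γ(Y, U.unop) from r) • gf U.unop m
    rcases eq_bot_or_top U.unop with hU | hU
    · haveI : Subsingleton Γ(W', U.unop) := hU ▸ subsingleton_bot W'
      exact Subsingleton.elim _ _
    · obtain rfl : U = op ⊤ := congrArg op hU
      have h2 : ∀ t, R ⊤ t = t := fun t => ConcreteCategory.congr_hom (W.presheaf.map_id (op ⊤)) t
      have h3 : ∀ t, R' ⊤ t = t := fun t => ConcreteCategory.congr_hom (W'.presheaf.map_id (op ⊤)) t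
      have h4 : ∀ t, gf ⊤ t = f t := fun t => (congrArg (gf ⊤) (h2 t).symm).trans ((hgf ⊤ t).trans (h3 _))
      exact (h4 _).trans ((hsmul _ _).trans (congrArg (_ • ·) (h4 _).symm))
  · show gf ⊤ s = f s
    have h3 := hgf ⊤ s
    rw [show R ⊤ s = s from ConcreteCategory.congr_hom (W.presheaf.map_id (op ⊤)) s] at h3
    exact h3.trans (ConcreteCategory.congr_hom (W'.presheaf.map_id (op ⊤)) (f s))

/-- Maps to `O` are the functionals on sections. -/
theorem existsUnique_of_functional (W : (Y).Modules)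
    (ℓ : (Coh.structureModule (Y) ⟶ W) → (Coh.structureModule (Y) ⟶ Coh.structureModule (Y)))
    (hadd : ∀ y y', ℓ (y + y') = ℓ y + ℓ y') (hs : ∀ a y, ℓ (scal a ≫ y) = scal a ≫ ℓ y) :
    ∃! g : W ⟶ Coh.structureModule (Y), ∀ y, y ≫ g = ℓ y := by
  obtain ⟨g, hg⟩ := exists_hom_of_top (W := W) (W' := Coh.structureModule (Y))
    (fun s => tE _ (ℓ ((tE W).symm s)))
    (fun s t => by
      have h1 : (tE W).symm (s + t) = (tE W).symm s + (tE W).symm t := (tE W).injective (by
        rw [Equiv.apply_symm_apply, tE_add, Equiv.apply_symm_apply, Equiv.apply_symm_apply])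
      rw [h1, hadd, tE_add])
    (fun r s => by
      obtain ⟨a, rfl⟩ := (ConcreteCategory.bijective_of_isIso (Scheme.ΓSpecIso (CommRingCat.of k)).inv).2 r
      have h1 : (tE W).symm (gl a • s) = scal a ≫ (tE W).symm s := (tE W).injective (by
        rw [Equiv.apply_symm_apply, tE_scal, Equiv.apply_symm_apply])
      show tE _ (ℓ ((tE W).symm (gl a • s))) = gl a • _
      rw [h1, hs, tE_scal])
  have key : ∀ y, y ≫ g = ℓ y := fun y => by
    refine (tE _).injective ?_
    rw [tE_comp, hg, Equiv.symm_apply_apply]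
  refine ⟨g, key, fun g' hg' => top_ext fun m => ?_⟩
  have h1 := congrArg (tE _) ((hg' ((tE W).symm m)).trans (key _).symm)
  rw [tE_comp, tE_comp, Equiv.apply_symm_apply] at h1
  exact h1

end Groth.Agent.CanonDual.SpecField
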