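import Groth.Prelude.Def_KLin
import Groth.Agent.KFlatLib.Scheme.RGammaPush
import Groth.Agent.CanonDual.SpecField
import Groth.Agent.CurveBC.Coh

/-!
# Sections of `Rf_*` over the base field
-/

set_option autoImplicit false
set_option linter.style.haveILetI false
set_option linter.unusedSectionVars false
set_option backward.isDefEq.respectTransparency false
set_option backward.isDefEq.respectTransparency.types false

universe u

open CategoryTheory CategoryTheory.Limits AlgebraicGeometry TopologicalSpace Opposite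

attribute [local instance] HasDerivedCategory.standard

noncomputable section

namespace Groth.Agent.CanonDual

open Groth.Agent.KFlatLib

variable {X Y : Scheme.{u}} (f : X ⟶ Y)

abbrev cs := ComplexShape.up ℤ
abbrev sglK (X : Scheme.{u}) : X.Modules ⥤ HomotopyCategory X.Modules cs :=
  HomologicalComplex.single X.Modules cs 0 ⋙ HomotopyCategory.quotient X.Modules cs

/-- Modules in the derived category through complexes. -/
def inDIso (X : Scheme.{u}) : DerivedCategory.singleFunctor X.Modules 0 ≅ sglK X ⋙ DerivedCategory.Qh :=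
  DerivedCategory.singleFunctorIsoCompQ X.Modules 0 ≪≫
    Functor.isoWhiskerLeft (HomologicalComplex.single X.Modules cs 0)
      (DerivedCategory.quotientCompQhIso X.Modules).symm ≪≫ (Functor.associator _ _ _).symm

/-- Termwise inverse image of a module. -/
def sglPull : sglK Y ⋙ (Scheme.Modules.pullback f).mapHomotopyCategory cs ≅
    Scheme.Modules.pullback f ⋙ sglK X :=
  Functor.associator _ _ _ ≪≫
    Functor.isoWhiskerLeft (HomologicalComplex.single Y.Modules cs 0)
      ((Scheme.Modules.pullback f).mapHomotopyCategoryFactors cs) ≪≫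
    (Functor.associator _ _ _).symm ≪≫
    Functor.isoWhiskerRight (HomologicalComplex.singleMapHomologicalComplex (Scheme.Modules.pullback f) cs 0)
      (HomotopyCategory.quotient X.Modules cs) ≪≫ Functor.associator _ _ _

def pullOne : ((Scheme.Modules.pullback f).mapHomotopyCategory cs).obj ((sglK Y).obj (Coh.structureModule Y)) ≅
    (sglK X).obj (Coh.structureModule X) :=
  (sglPull f).app (Coh.structureModule Y) ≪≫ (sglK X).mapIso (CurveBC.unitIso f)

def adjK := adjHtpy cs (Scheme.Modules.pullbackPushforwardAdjunction f)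

variable [DCoh.HasRpush f]

def alphaK := (DCoh.pushKh f).totalRightDerivedUnit DerivedCategory.Qh
  (HomotopyCategory.quasiIso X.Modules (ComplexShape.up ℤ))

/-- The unit `O_Y → Rf_* O_X`. -/
def nu : DCoh.inD Y (Coh.structureModule Y) ⟶ (DCoh.Rpush f).obj (DCoh.inD X (Coh.structureModule X)) :=
  (inDIso Y).hom.app (Coh.structureModule Y) ≫
    DerivedCategory.Qh.map ((adjK f).homEquiv _ _ (pullOne f).hom) ≫
    (alphaK f).app _ ≫ (DCoh.Rpush f).map ((inDIso X).inv.app (Coh.structureModule X))

theorem isKFlat_single (M : Y.Modules) (hM : FlatMod.IsFlat M) :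
    DCoh.IsKFlat ((HomologicalComplex.single Y.Modules cs 0).obj M) := by
  let P := (HomologicalComplex.single Y.Modules cs 0).obj M
  haveI : CochainComplex.IsStrictlyLE P 0 := (CochainComplex.isStrictlyLE_iff _ 0).2
    fun i hi => HomologicalComplex.isZero_single_obj_X cs 0 _ i (by omega)
  exact isKFlat_of_isStrictlyLE P 0 (isFlat_single 0 hM)

theorem nu_comp_kInjective (I : CochainComplex X.Modules ℤ)
    (χ : (sglK X).obj (Coh.structureModule X) ⟶ (HomotopyCategory.quotient X.Modules cs).obj I) :
    nu f ≫ (DCoh.Rpush f).map ((inDIso X).hom.app (Coh.structureModule X) ≫ DerivedCategory.Qh.map χ) =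
      (inDIso Y).hom.app (Coh.structureModule Y) ≫
        DerivedCategory.Qh.map ((adjK f).homEquiv _ _ ((pullOne f).hom ≫ χ)) ≫ (alphaK f).app _ := by
  rw [(adjK f).homEquiv_naturality_right, nu, Functor.map_comp, Functor.map_comp]
  simp only [Category.assoc]
  refine congrArg (_ ≫ ·) (congrArg (_ ≫ ·) ?_)
  rw [← (DCoh.Rpush f).map_comp_assoc, Iso.inv_hom_id_app]
  erw [CategoryTheory.Functor.map_id, Category.id_comp]
  exact ((alphaK f).naturality χ).symm

/-- `Hom(O_X, M) = Hom(O_Y, Rf_* M)`. -/
theorem bijective_nu (M : DCoh.D X) :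
    Function.Bijective (fun ψ : DCoh.inD X (Coh.structureModule X) ⟶ M => nu f ≫ (DCoh.Rpush f).map ψ) := by
  obtain ⟨I, hI, -, ⟨eI⟩⟩ := exists_kInjective_rep M
  haveI := hI
  let qI := (HomotopyCategory.quotient X.Modules cs).obj I
  let eI' : DerivedCategory.Qh.obj qI ≅ M := (DerivedCategory.quotientCompQhIso X.Modules).app I ≪≫ eI.symm
  haveI : IsIso ((alphaK f).app qI) := isIso_rightDerivedUnit_of_kInjective (DCoh.pushKh f) I
  let eY := (inDIso Y).app (Coh.structureModule Y)
  let eX := (inDIso X).app (Coh.structureModule X)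
  let T₀ : ((sglK X).obj (Coh.structureModule X) ⟶ qI) ≃ (DCoh.inD X (Coh.structureModule X) ⟶ M) :=
    (Equiv.ofBijective _ (CochainComplex.IsKInjective.Qh_map_bijective _ I)).trans (Iso.homCongr eX.symm eI')
  refine (Function.Bijective.of_comp_iff _ T₀.bijective).1 ?_
  have h1 : Function.Bijective (fun χ : (sglK X).obj (Coh.structureModule X) ⟶ qI =>
      (adjK f).homEquiv _ _ ((pullOne f).hom ≫ χ)) :=
    ((adjK f).homEquiv _ _).bijective.comp (by
      convert (Iso.homCongr (pullOne f).symm (Iso.refl qI)).bijective using 1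
      funext χ; simp [Iso.homCongr])
  have h2 := Qh_map_bijective_push f _ (isKFlat_single _ isFlat_structureModule) I
  have h3 : Function.Bijective (fun t : DerivedCategory.Qh.obj ((sglK Y).obj (Coh.structureModule Y)) ⟶
      (DCoh.pushKh f).obj qI => eY.hom ≫ t ≫ (alphaK f).app qI ≫ (DCoh.Rpush f).map eI'.hom) :=
    by
      convert (Iso.homCongr eY.symm (asIso ((alphaK f).app qI) ≪≫ (DCoh.Rpush f).mapIso eI')).bijective using 1
      funext t; simp [Iso.homCongr]
  convert h3.comp (h2.comp h1) using 1
  funext χ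
  show nu f ≫ (DCoh.Rpush f).map ((inDIso X).hom.app _ ≫ DerivedCategory.Qh.map χ ≫ eI'.hom) = _
  rw [← Category.assoc ((inDIso X).hom.app _), Functor.map_comp, ← Category.assoc, nu_comp_kInjective]
  simp only [Category.assoc]
  rfl

theorem inD_comp_nu (a : Coh.structureModule Y ⟶ Coh.structureModule Y)
    (b : Coh.structureModule X ⟶ Coh.structureModule X)
    (h : (Scheme.Modules.pullback f).map a ≫ (CurveBC.unitIso f).hom = (CurveBC.unitIso f).hom ≫ b) :
    (DerivedCategory.singleFunctor Y.Modules 0).map a ≫ nu f =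
      nu f ≫ (DCoh.Rpush f).map ((DerivedCategory.singleFunctor X.Modules 0).map b) := by
  have hw : ((Scheme.Modules.pullback f).mapHomotopyCategory cs).map ((sglK Y).map a) ≫ (pullOne f).hom =
      (pullOne f).hom ≫ (sglK X).map b := by
    have h1 := (sglPull f).hom.naturality a
    show _ ≫ (sglPull f).hom.app _ ≫ (sglK X).map (CurveBC.unitIso f).hom =
      ((sglPull f).hom.app _ ≫ (sglK X).map (CurveBC.unitIso f).hom) ≫ _
    erw [reassoc_of% h1]
    rw [Category.assoc]
    refine congrArg (_ ≫ ·) ?_
    show (sglK X).map _ ≫ (sglK X).map _ = _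
    rw [← Functor.map_comp, ← Functor.map_comp, h]
  simp only [nu]
  rw [← Category.assoc, (inDIso Y).hom.naturality a]
  simp only [Category.assoc]
  refine congrArg (_ ≫ ·) ?_
  rw [← (DCoh.Rpush f).map_comp, ← (inDIso X).inv.naturality b, (DCoh.Rpush f).map_comp,
    Functor.comp_map, Functor.comp_map, ← DerivedCategory.Qh.map_comp_assoc,
    ← (adjK f).homEquiv_naturality_left]
  erw [hw]
  rw [(adjK f).homEquiv_naturality_right, DerivedCategory.Qh.map_comp_assoc]
  refine congrArg (_ ≫ ·) ?_
  erw [reassoc_of% ((alphaK f).naturality ((sglK X).map b))]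
  rfl

/-- Multiplication on the unit. -/
theorem pullback_scal_unitIso {k : Type u} [Field k] {X : Scheme.{u}} [X.Over (Spec (CommRingCat.of k))] (a : k) :
    (Scheme.Modules.pullback (X ↘ Spec (CommRingCat.of k))).map (SpecField.scal a) ≫
        (CurveBC.unitIso (X ↘ Spec (CommRingCat.of k))).hom =
      (CurveBC.unitIso (X ↘ Spec (CommRingCat.of k))).hom ≫ Formal.smulMod k (Coh.structureModule X) a := by
  let g := X ↘ Spec (CommRingCat.of k)
  let adj := Scheme.Modules.pullbackPushforwardAdjunction g
  refine (adj.homEquiv _ _).injective ?_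
  rw [adj.homEquiv_naturality_left, adj.homEquiv_naturality_right]
  have hu : adj.homEquiv _ _ (CurveBC.unitIso g).hom =
      SheafOfModules.unitToPushforwardObjUnit g.toRingCatSheafHom := Equiv.apply_symm_apply _ _
  rw [hu]
  refine SpecField.top_ext fun s => ?_
  let s' : Γ(Spec (CommRingCat.of k), ⊤) := s
  show g.app ⊤ ((Spec (CommRingCat.of k)).presheaf.map (homOfLE (le_top : (⊤ : (Spec (CommRingCat.of k)).Opens) ≤ ⊤)).op (SpecField.gl a) * s') =
    X.presheaf.map (homOfLE (le_top : g ⁻¹ᵁ ⊤ ≤ ⊤)).op (Coh.toGlobal g a) * g.app ⊤ s'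
  rw [map_mul, SpecField.res_id]
  refine congrArg (· * _) ?_
  exact (ConcreteCategory.congr_hom (X.presheaf.map_id (op ⊤)) (Coh.toGlobal g a)).symm

end Groth.Agent.CanonDual
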