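import Groth.Prelude.Def_Canon
import Groth.Prelude.Def_DDual2
import Groth.Agent.CanonDual.Theta
import Groth.Agent.CanonDual.ExtH
import Groth.Agent.CanonDual.DerGen
import Groth.Agent.KFlatLib.Scheme.RightAdjBound
import Groth.Agent.CohBasic.RpushAbZero
import Groth.Agent.QCoh.AffineCohom
import Groth.Agent.Lib.CurveTensor
import Groth.Agent.FMBase.Single
import Groth.Agent.KFlatLib.Scheme.AffineConservative
import Groth.Agent.Lib.PnDualSheafHom

/-!
# The dualizing module `H^{-d}(f^! O)` is a dualizing pair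
-/

set_option autoImplicit false
set_option linter.style.haveILetI false
set_option linter.unusedSectionVars false
set_option backward.isDefEq.respectTransparency false
set_option backward.isDefEq.respectTransparency.types false

universe u

open CategoryTheory CategoryTheory.Limits AlgebraicGeometry TopologicalSpace Opposite CategoryTheory.Abelian

attribute [local instance] HasDerivedCategory.standard

noncomputable section

namespace Groth.Agent.CanonDual

open Groth.Agent

variable {k : Type u} [Field k] {X : Scheme.{u}} [X.Over (Spec (CommRingCat.of k))] {d : ℕ}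

local notation "SK" => Spec (CommRingCat.of k)
local notation "f" => X ↘ Spec (CommRingCat.of k)
local notation "sX" => DerivedCategory.singleFunctor (Scheme.Modules X) 0
local notation "sY" => DerivedCategory.singleFunctor (Scheme.Modules (Spec (CommRingCat.of k))) 0

theorem rpushVanish [QuasiCompact f] [QuasiSeparated f] [HasInjectiveResolutions X.Modules]
    (hvan : ∀ M : X.Modules, Coh.IsQCoh M → ∀ q, d < q → Subsingleton (Coh.HH X M q)) :
    KFlatLib.RpushVanish f ⊤ (d + 1) := fun M hM p hp => by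
  obtain ⟨q, rfl⟩ : ∃ q, p = q + 1 := ⟨p - 1, by omega⟩
  obtain ⟨e⟩ := QCoh.nonempty_Rpush_iso f M q
  refine Functor.map_isZero _ (IsZero.of_iso ?_ e)
  have hq := QCoh.locRange_rpushModel f hM q
  refine QCoh.isZero_of_cover hq.isQCoh (fun _ : Unit => ⊤) (fun _ => isAffineOpen_top _)
    (fun y => ⟨(), trivial⟩) fun _ => CohBasic.subsingleton_rpushModel_sections f hM q (isAffineOpen_top _) ?_
  let i := (f ⁻¹ᵁ ⊤ : X.Opens).ι
  haveI : IsIso i := inferInstanceAs (IsIso (Scheme.topIso X).hom)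
  haveI := CurveTensor.isIso_unit_of_isIso i M
  have hr : Coh.IsQCoh (M.restrict i) := QCoh.isQCoh_restrict _ hM
  obtain ⟨a⟩ := QCoh.HH_push_of_isAffineHom i hr (q + 1)
  haveI : Subsingleton (Coh.HH X ((Coh.push i).obj (M.restrict i)) (q + 1)) :=
    QCoh.subsingleton_HH_of_iso (asIso ((Scheme.Modules.restrictAdjunction i).unit.app M)) _ (hvan M hM _ (by omega))
  exact a.toEquiv.subsingleton

/-- `H^d(X, F) ≅ Hom(O, F[d])`. -/
def extD [HasExt.{u} X.Modules] (F : X.Modules) (x : Ext.{u} (Coh.structureModule X) F d) :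
    DCoh.inD X (Coh.structureModule X) ⟶ (DCoh.inD X F)⟦(d : ℤ)⟧ :=
  x.hom

theorem extD_natural [HasExt.{u} X.Modules] {F G : X.Modules} (φ : F ⟶ G)
    (x : Ext.{u} (Coh.structureModule X) F d) :
    extD G (x.comp (Ext.mk₀ φ) (add_zero d)) = extD F x ≫ ((sX).map φ)⟦(d : ℤ)⟧' := by
  unfold extD
  rw [Ext.comp_hom, Ext.mk₀_hom, ShiftedHom.comp_mk₀]

theorem extD_smul [HasExt.{u} X.Modules] (F : X.Modules) (a : k) (x : Ext.{u} (Coh.structureModule X) F d) :
    extD F (x.comp (Ext.mk₀ (Formal.smulMod k F a)) (add_zero d)) =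
      (sX).map (Formal.smulMod k (Coh.structureModule X) a) ≫ extD F x := by
  have h1 : x.comp (Ext.mk₀ (Formal.smulMod k F a)) (add_zero d) =
      (Ext.mk₀ (Formal.smulMod k (Coh.structureModule X) a)).comp x (zero_add d) := by
    rw [← KLin.smul_id, ← KLin.smul_id, ← Ext.smul_eq_comp_mk₀, Ext.mk₀_smul, Ext.smul_comp, Ext.mk₀_id_comp]
  rw [h1]
  unfold extD
  rw [Ext.comp_hom, Ext.mk₀_hom, ShiftedHom.mk₀_comp]

theorem isQCohD_shift {F : X.Modules} (hF : Coh.IsQCoh F) (n : ℤ) : DCoh.IsQCohD ((DCoh.inD X F)⟦n⟧) := fun i =>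
  KFlatLib.isQCoh_of_iso
    (((DerivedCategory.homologyFunctor X.Modules 0).shiftIso n i (n + i) rfl).app (DCoh.inD X F)).symm
    (FMBase.isQCohD_inD hF (n + i))

/-- The dualizing module represents `H^d(X, -)^∨`. -/
theorem exists_isRDualOver_dualizingMod [QuasiCompact f] [QuasiSeparated f] [DCoh.HasRpush f]
    (h : DCoh.RpushPreservesQCoh f) [DCoh.HasShriek f h]
    (OY : DCoh.DQCoh SK) (hOY : Nonempty (OY.obj ≅ DCoh.inD SK (Coh.structureModule SK)))
    (hvan : ∀ M : X.Modules, Coh.IsQCoh M → ∀ q, d < q → Subsingleton (Coh.HH X M q)) :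
    ∃ tr : Coh.HH X (DCoh.dualizingMod f h OY d) d →ₗ[k] k,
      Canon.IsRDualOver k X d (DCoh.dualizingMod f h OY d) tr := by
  haveI : HasInjectiveResolutions X.Modules := KFlatLib.hasInjectiveResolutions_modules
  haveI : EnoughInjectives X.Modules := inferInstanceAs (EnoughInjectives (SheafOfModules _))
  haveI : HasExt.{u} X.Modules := inferInstance
  obtain ⟨eOY⟩ := hOY
  let O := Coh.structureModule X
  let O' := Coh.structureModule SK
  let RX := DCoh.Rpush f
  let adjQ := DCoh.shriekAdj f h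
  let K₀ := (DCoh.shriek f h).obj OY
  let K := K₀.obj
  let c : RX.obj K ⟶ DCoh.inD SK O' := (adjQ.counit.app OY).hom ≫ eOY.hom
  have hadj : ∀ M : DCoh.D X, DCoh.IsQCohD M →
      Function.Bijective (fun g : M ⟶ K => RX.map g ≫ c) := by
    intro M hM
    have A : ∀ g : M ⟶ K, RX.map g ≫ c =
        ((adjQ.homEquiv (⟨M, hM⟩ : DCoh.DQCoh X) OY).symm (ObjectProperty.homMk g)).hom ≫ eOY.hom := by
      intro g
      rw [Adjunction.homEquiv_counit]
      exact (Category.assoc _ _ _).symm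
    refine ⟨fun g g' e => ?_, fun θ => ?_⟩
    · dsimp only at e
      rw [A, A, cancel_mono] at e
      exact congrArg (fun t : (⟨M, hM⟩ : DCoh.DQCoh X) ⟶ K₀ => t.hom)
        ((adjQ.homEquiv _ _).symm.injective (ObjectProperty.hom_ext _ e))
    · let θ' : (DCoh.RpushQ f h).obj ⟨M, hM⟩ ⟶ OY := ObjectProperty.homMk (θ ≫ eOY.inv)
      refine ⟨(adjQ.homEquiv _ _ θ').hom, ?_⟩
      show RX.map _ ≫ c = θ
      rw [A]
      show ((adjQ.homEquiv _ _).symm (adjQ.homEquiv _ _ θ')).hom ≫ eOY.hom = θ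
      rw [Equiv.symm_apply_apply]
      show (θ ≫ eOY.inv) ≫ eOY.hom = θ
      rw [Category.assoc, eOY.inv_hom_id, Category.comp_id]
  -- `Rf_*` of objects `≤ b`
  have hle : ∀ (A : DCoh.D X), DCoh.IsQCohD A → ∀ b : ℤ, A.IsLE b → (RX.obj A).IsLE (b + d) := by
    intro A hA b hb
    rw [DerivedCategory.isLE_iff]
    intro i hi
    exact KFlatLib.isZero_of_isZero_restrict _ fun y => ⟨⊤, trivial,
      KFlatLib.isZero_restrict_hd_rpush f hA b ⊤ (d + 1) (rpushVanish hvan) i (by push_cast; omega)⟩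
  haveI hK : K.IsGE (-(d : ℤ)) := by
    rw [DerivedCategory.isGE_iff]
    intro i hi
    refine KFlatLib.isZero_hd_of_orth K₀.property (-(d : ℤ) - 1) (fun A hA hA' φ => (hadj A hA).1 ?_) i (by omega)
    show RX.map φ ≫ c = RX.map 0 ≫ c
    haveI := hle A hA _ hA'
    rw [DerGen.zero_of (RX.map φ ≫ c) (-(d : ℤ) - 1 + d) 0 (by omega) inferInstance inferInstance,
      DerGen.zero_of (RX.map 0 ≫ c) (-(d : ℤ) - 1 + d) 0 (by omega) inferInstance inferInstance]
  haveI : (K⟦-(d : ℤ)⟧).IsGE 0 := DerivedCategory.TStructure.t.isGE_shift K (-(d : ℤ)) (-(d : ℤ)) 0 (by omega)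
  obtain ⟨W, η', hη', hbij'⟩ := DerGen.exists_from_single (K⟦-(d : ℤ)⟧)
  haveI := hη'
  let ω := DCoh.dualizingMod f h OY d
  let iW : ω ≅ W :=
    (((DerivedCategory.homologyFunctor X.Modules 0).shiftIso (-(d : ℤ)) 0 (-(d : ℤ)) (by omega)).app K).symm ≪≫
      (asIso ((DerGen.H 0).map η')).symm ≪≫ DerGen.hSingle W
  let eS : (K⟦-(d : ℤ)⟧)⟦(d : ℤ)⟧ ≅ K := (shiftEquiv' (DCoh.D X) (-(d : ℤ)) (d : ℤ) (by omega)).unitIso.symm.app K
  let η : (DCoh.inD X ω)⟦(d : ℤ)⟧ ⟶ K := ((sX).map iW.hom ≫ η')⟦(d : ℤ)⟧' ≫ eS.hom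
  have hη : ∀ F : X.Modules, Function.Bijective (fun φ : F ⟶ ω => ((sX).map φ)⟦(d : ℤ)⟧' ≫ η) := by
    intro F
    have h1 : Function.Bijective (fun φ : F ⟶ ω => φ ≫ iW.hom) := by
      convert (Iso.homCongr (Iso.refl F) iW).bijective using 1
      funext φ; simp [Iso.homCongr]
    have h2 : Function.Bijective (fun g : DCoh.inD X F ⟶ K⟦-(d : ℤ)⟧ => g⟦(d : ℤ)⟧' ≫ eS.hom) := by
      have hb : Function.Bijective (fun g : DCoh.inD X F ⟶ K⟦-(d : ℤ)⟧ => g⟦(d : ℤ)⟧') :=
        ⟨(shiftFunctor (DCoh.D X) (d : ℤ)).map_injective, (shiftFunctor (DCoh.D X) (d : ℤ)).map_surjective⟩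
      convert (Iso.homCongr (Iso.refl _) eS).bijective.comp hb using 1
      funext g; simp [Iso.homCongr]
    convert h2.comp ((hbij' F).comp h1) using 1
    funext φ
    simp [η, Functor.map_comp]
  -- scalars
  have hscal : Function.Bijective (fun a : k => (sY).map (SpecField.scal a)) :=
    (show Function.Bijective ((sY).map : (O' ⟶ O') → _) from
      ⟨(sY).map_injective, (sY).map_surjective⟩).comp SpecField.bijective_scal
  let sc := Equiv.ofBijective _ hscal
  have hsc : ∀ g, (sY).map (SpecField.scal (sc.symm g)) = g := fun g => sc.apply_symm_apply g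
  let ψ : ∀ F : X.Modules, Coh.HH X F d → (DCoh.inD SK O' ⟶ RX.obj ((DCoh.inD X F)⟦(d : ℤ)⟧)) := fun F x =>
    nu f ≫ RX.map (extD F ((Equiv.ofBijective _ (extH_bijective F d)).symm x))
  have hψb : ∀ F : X.Modules, Function.Bijective (ψ F) := fun F =>
    ((bijective_nu f _).comp (Ext.homEquiv.bijective.comp (Equiv.bijective _)) :)
  have hψn : ∀ {F G : X.Modules} (φ : F ⟶ G) (x : Coh.HH X F d),
      ψ G (Canon.HHlin k φ d x) = ψ F x ≫ RX.map (((sX).map φ)⟦(d : ℤ)⟧') := by
    intro F G φ x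
    show nu f ≫ RX.map (extD G _) = (nu f ≫ RX.map (extD F _)) ≫ _
    rw [Category.assoc, ← RX.map_comp, ← extD_natural]
    refine congrArg (fun t => nu f ≫ RX.map (extD G t)) ((Equiv.symm_apply_eq _).2 ?_)
    show _ = extH G d _
    rw [extH_natural]
    exact congrArg (Sheaf.H.map _ d) (Equiv.apply_symm_apply (Equiv.ofBijective _ (extH_bijective F d)) x).symm
  have hψs : ∀ (F : X.Modules) (a : k) (x : Coh.HH X F d),
      ψ F (a • x) = (sY).map (SpecField.scal a) ≫ ψ F x := by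
    intro F a x
    show nu f ≫ RX.map (extD F _) = _ ≫ nu f ≫ RX.map (extD F _)
    rw [← Category.assoc, inD_comp_nu f _ _ (pullback_scal_unitIso a), Category.assoc, ← RX.map_comp,
      ← extD_smul]
    refine congrArg (fun t => nu f ≫ RX.map (extD F t)) ((Equiv.symm_apply_eq _).2 ?_)
    show _ = extH F d _
    rw [extH_natural]
    exact congrArg (Sheaf.H.map _ d) (Equiv.apply_symm_apply (Equiv.ofBijective _ (extH_bijective F d)) x).symm
  have hsc_add : ∀ a b, (sY).map (SpecField.scal (a + b : k)) =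
      (sY).map (SpecField.scal a) + (sY).map (SpecField.scal b) := fun a b => by
    rw [← Functor.map_add]
    refine congrArg _ ?_
    unfold SpecField.scal
    rw [map_add, KLin.smulModΓ_add]
  have hsc_mul : ∀ a b, (sY).map (SpecField.scal (a * b : k)) =
      (sY).map (SpecField.scal a) ≫ (sY).map (SpecField.scal b) := fun a b => by
    rw [← Functor.map_comp]
    refine congrArg _ ?_
    unfold SpecField.scal
    rw [map_mul, KLin.smulModΓ_mul]
  have hψa : ∀ (F : X.Modules) (x y : Coh.HH X F d), ψ F (x + y) = ψ F x + ψ F y := by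
    intro F x y
    show nu f ≫ RX.map (extD F _) = nu f ≫ RX.map (extD F _) + nu f ≫ RX.map (extD F _)
    haveI : RX.Additive :=
      (KFlatLib.exists_rightDerived_triangle (Scheme.Modules.pushforward f) _ (Pretriangulated.contractible_distinguished K)).1
    rw [← Preadditive.comp_add, ← RX.map_add]
    refine congrArg (fun t => nu f ≫ RX.map t) ?_
    unfold extD
    rw [← Ext.add_hom]
    refine congrArg (fun t => Ext.hom t) ((Equiv.symm_apply_eq _).2 ?_)
    show _ = extH F d _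
    refine Eq.trans ?_ (extMap_add (QCoh.toAbFunctor X) (SiteBase.oneHom X.ringCatSheaf) F d _ _).symm
    exact congrArg₂ (· + ·) (Equiv.apply_symm_apply (Equiv.ofBijective _ (extH_bijective F d)) x).symm
      (Equiv.apply_symm_apply (Equiv.ofBijective _ (extH_bijective F d)) y).symm
  let tr : Coh.HH X ω d →ₗ[k] k :=
    { toFun := fun x => sc.symm (ψ ω x ≫ RX.map η ≫ c)
      map_add' := fun x y => (Equiv.symm_apply_eq _).2 (by
        show _ = (sY).map (SpecField.scal _)
        rw [hsc_add, hsc, hsc, hψa, Preadditive.add_comp])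
      map_smul' := fun a x => (Equiv.symm_apply_eq _).2 (by
        show _ = (sY).map (SpecField.scal _)
        rw [RingHom.id_apply, smul_eq_mul, hsc_mul, hsc, hψs, Category.assoc]) }
  refine ⟨tr, K₀.property _, fun F hF => ?_⟩
  have hF' := isQCohD_shift hF (d : ℤ)
  let M := (DCoh.inD X F)⟦(d : ℤ)⟧
  let R := RX.obj M
  have hval : ∀ (φ : F ⟶ ω) (x : Coh.HH X F d), (sY).map (SpecField.scal (tr (Canon.HHlin k φ d x))) =
      ψ F x ≫ RX.map (((sX).map φ)⟦(d : ℤ)⟧' ≫ η) ≫ c := by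
    intro φ x
    show (sY).map (SpecField.scal (sc.symm _)) = _
    rw [hsc, hψn]
    simp only [Functor.map_comp, Category.assoc, η]
  haveI : M.IsLE (-(d : ℤ)) := DerivedCategory.TStructure.t.isLE_shift (DCoh.inD X F) 0 (d : ℤ) (-(d : ℤ)) (by omega)
  haveI hR : R.IsLE 0 := by
    have := hle M hF' (-(d : ℤ)) inferInstance
    rwa [neg_add_cancel] at this
  obtain ⟨V, π, hπ, hπ'⟩ := DerGen.exists_to_single R
  have hP : Function.Bijective (fun x : DCoh.inD SK O' ⟶ R => x ≫ π) := hπ' _ SpecField.projective_structure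
  have hmid : Function.Bijective (fun φ : F ⟶ ω => RX.map (((sX).map φ)⟦(d : ℤ)⟧' ≫ η) ≫ c) :=
    (hadj M hF').comp (hη F)
  constructor
  · intro φ φ' e
    refine hmid.1 ?_
    obtain ⟨g, hg⟩ := (hπ O').2 (RX.map (((sX).map φ)⟦(d : ℤ)⟧' ≫ η) ≫ c)
    obtain ⟨g', hg'⟩ := (hπ O').2 (RX.map (((sX).map φ')⟦(d : ℤ)⟧' ≫ η) ≫ c)
    suffices g = g' by rw [this] at hg; exact hg.symm.trans hg'
    refine SpecField.top_ext fun m => ?_
    obtain ⟨y, hy⟩ := hP.2 ((sY).map ((SpecField.tE V).symm m))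
    obtain ⟨x, rfl⟩ := (hψb F).2 y
    have e1 : tr (Canon.HHlin k φ d x) = tr (Canon.HHlin k φ' d x) := LinearMap.congr_fun e x
    have e2 : (sY).map (SpecField.scal (tr (Canon.HHlin k φ d x))) =
        (sY).map (SpecField.scal (tr (Canon.HHlin k φ' d x))) := by rw [e1]
    rw [hval, hval] at e2
    rw [show RX.map (((sX).map φ)⟦(d : ℤ)⟧' ≫ η) ≫ c = π ≫ (sY).map g from hg.symm,
      show RX.map (((sX).map φ')⟦(d : ℤ)⟧' ≫ η) ≫ c = π ≫ (sY).map g' from hg'.symm, ← Category.assoc,
      ← Category.assoc, show ψ F x ≫ π = (sY).map ((SpecField.tE V).symm m) from hy, ← Functor.map_comp,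
      ← Functor.map_comp] at e2
    have e3 := congrArg (SpecField.tE O') ((sY).map_injective e2)
    rwa [SpecField.tE_comp, SpecField.tE_comp, Equiv.apply_symm_apply] at e3
  · intro ff
    have hx : ∀ ŷ : O' ⟶ V, ∃ x, ψ F x ≫ π = (sY).map ŷ := fun ŷ => by
      obtain ⟨y, hy⟩ := hP.2 ((sY).map ŷ)
      obtain ⟨x, rfl⟩ := (hψb F).2 y
      exact ⟨x, hy⟩
    choose xof hxof using hx
    have huniq : ∀ {x x' : Coh.HH X F d}, ψ F x ≫ π = ψ F x' ≫ π → x = x' :=
      fun e => (hψb F).1 (hP.1 e)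
    obtain ⟨g, hg, -⟩ := SpecField.existsUnique_of_functional V (fun ŷ => SpecField.scal (ff (xof ŷ)))
      (fun y y' => by
        rw [show xof (y + y') = xof y + xof y' from huniq (by
          rw [hxof, hψa, Preadditive.add_comp, hxof, hxof, Functor.map_add]), map_add]
        exact (sY).map_injective (by rw [Functor.map_add]; exact hsc_add _ _))
      (fun a y => by
        rw [show xof (SpecField.scal a ≫ y) = a • xof y from huniq (by
          rw [hxof, hψs, Category.assoc, hxof, Functor.map_comp]), map_smul, smul_eq_mul]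
        exact (sY).map_injective (by rw [Functor.map_comp]; exact hsc_mul _ _))
    obtain ⟨φ, hφ⟩ := hmid.2 (π ≫ (sY).map g)
    refine ⟨φ, LinearMap.ext fun x => hscal.1 ?_⟩
    show (sY).map (SpecField.scal (tr (Canon.HHlin k φ d x))) = (sY).map (SpecField.scal (ff x))
    obtain ⟨ŷ, hŷ⟩ := (sY).map_surjective (ψ F x ≫ π)
    rw [hval, show RX.map (((sX).map φ)⟦(d : ℤ)⟧' ≫ η) ≫ c = π ≫ (sY).map g from hφ, ← Category.assoc,
      ← hŷ, ← Functor.map_comp, hg, huniq (x := x) (x' := xof ŷ) (by rw [hxof, hŷ])]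

end Groth.Agent.CanonDual
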