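import Groth.Agent.CanonDual.Field
import Groth.Agent.CanonDual.Shriek
import Groth.Agent.ExtShX.DualX
import Groth.Agent.ExtShX.DualTensor
import Groth.Agent.PicGlue.AmpleDimOne
import Groth.Agent.Lib.AmpleEmbed
import Groth.Agent.Proj16.CurveTop
import Groth.Agent.Alg6.AssDepth
import Groth.Agent.LC.ExtDim

/-!
# Duality on proper curves over a field
-/

set_option autoImplicit false
set_option linter.style.haveILetI false
set_option linter.unusedSectionVars false
set_option backward.isDefEq.respectTransparency false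
set_option backward.isDefEq.respectTransparency.types false

universe u

open CategoryTheory CategoryTheory.Limits AlgebraicGeometry TopologicalSpace Opposite

noncomputable section

namespace Groth.Agent.CanonDual

open Groth.Agent

/-- Reduced Noetherian local rings of dimension one are Cohen–Macaulay. -/
theorem isCohenMacaulay_of_reduced_one (R : Type u) [CommRing R] [IsNoetherianRing R] [IsLocalRing R]
    [_root_.IsReduced R] (hd : ringKrullDim R ≤ 1) : LocCoh.IsCohenMacaulayLocalRing R := by
  refine { supportDim_eq_depth := le_antisymm ?_ (LC.depth_le_supportDim R) }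
  rw [Module.supportDim_self_eq_ringKrullDim]
  by_cases hf : IsField R
  · rw [ringKrullDim_eq_zero_of_isField hf]
    exact WithBot.coe_le_coe.2 bot_le
  · refine hd.trans ?_
    have h1 : (1 : ℕ∞) ≤ LocCoh.depth R R := Alg6.one_le_depth_iff.2 fun hass => by
      obtain ⟨-, z, hz⟩ := Alg6.mem_ass_iff.mp hass
      have hz0 : z ≠ 0 := fun h => (IsLocalRing.maximalIdeal.isMaximal R).ne_top
        ((Ideal.eq_top_iff_one _).2 ((hz 1).2 (by simp [h])))
      have hzm : z ∈ IsLocalRing.maximalIdeal R := by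
        by_contra hu
        rw [IsLocalRing.mem_maximalIdeal, mem_nonunits_iff, not_not] at hu
        refine hf (IsLocalRing.isField_iff_maximalIdeal_eq.2 (le_bot_iff.1 fun b hb => ?_))
        have h3 := (hz b).1 hb
        rw [smul_eq_mul] at h3
        exact hu.mul_left_eq_zero.1 h3
      have h3 := (hz z).1 hzm
      rw [smul_eq_mul] at h3
      exact hz0 (IsReduced.eq_zero z ⟨2, by rw [pow_two]; exact h3⟩)
    exact WithBot.coe_le_coe.2 h1

section

variable {k : Type u} [Field k] {X : Scheme.{u}} [X.Over (Spec (CommRingCat.of k))]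
  [IsProper (X ↘ Spec (CommRingCat.of k))]

variable (k) in
include k in
/-- A connected curve has no isolated points. -/
theorem closedDimOne_of_connected [ConnectedSpace X] (hdim : topologicalKrullDim X = 1) :
    Proj16.ClosedDimOne X := by
  let p := X ↘ Spec (CommRingCat.of k)
  haveI : CompactSpace X := QuasiCompact.compactSpace_of_compactSpace p
  haveI : IsLocallyNoetherian X := LocallyOfFiniteType.isLocallyNoetherian p
  haveI : IsNoetherian X := { __ := ‹IsLocallyNoetherian X›, __ := ‹CompactSpace X› }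
  obtain ⟨η, -, hall, hη⟩ := VarDim.exists_deg_eq_topologicalKrullDim p
  rw [hdim] at hη
  have h1 : VarDim.deg p η = 1 := by exact_mod_cast hη.symm
  refine (Proj16.closedDimOne_iff_deg p).2 fun z hz => ?_
  have hle : VarDim.deg p z ≤ 1 := h1 ▸ hall z
  by_contra hne
  have hz0 : VarDim.deg p z = 0 := by omega
  have hc : IsClosed ({z} : Set X) := (VarDim.closedPoint_iff_deg_eq_zero p z).2 hz0
  have hzC : ({z} : Set X) ∈ irreducibleComponents X := by
    have := VarDim.closure_mem_irreducibleComponents hz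
    rwa [hc.closure_eq] at this
  have hopen : IsOpen ({z} : Set X) := by
    rw [← isClosed_compl_iff]
    have : ({z}ᶜ : Set X) = ⋃ C ∈ irreducibleComponents X \ {{z}}, C := by
      ext y
      simp only [Set.mem_compl_iff, Set.mem_singleton_iff, Set.mem_iUnion, Set.mem_diff]
      refine ⟨fun hy => ⟨irreducibleComponent y, ⟨irreducibleComponent_mem_irreducibleComponents y, fun h => ?_⟩,
        mem_irreducibleComponent⟩, ?_⟩
      · exact hy (h ▸ mem_irreducibleComponent : y ∈ ({z} : Set X))
      · rintro ⟨C, ⟨hC, hCz⟩, hyC⟩ rfl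
        exact hCz (subset_antisymm (hzC.2 hC.1 (Set.singleton_subset_iff.2 hyC))
          (Set.singleton_subset_iff.2 hyC))
    rw [this]
    exact (TopologicalSpace.NoetherianSpace.finite_irreducibleComponents.subset Set.diff_subset).isClosed_biUnion
      fun C hC => isClosed_of_mem_irreducibleComponents C hC.1
  have huniv : ({z} : Set X) = Set.univ :=
    (IsClopen.eq_univ ⟨hc, hopen⟩ (Set.singleton_nonempty z))
  have he : η = z := by have := Set.mem_univ η; rw [← huniv] at this; exact this
  rw [he, hz0] at h1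
  exact zero_ne_one h1

variable (k) in
include k in
/-- The Cohen–Macaulay hypothesis for reduced curves without isolated points. -/
theorem cm_of_reduced [IsReduced X] (h : Proj16.ClosedDimOne X) (x : X) (hx : IsClosed ({x} : Set X)) :
    LocCoh.IsCohenMacaulayLocalRing (X.presheaf.stalk x) ∧
      ringKrullDim (X.presheaf.stalk x) = (1 : ℕ) := by
  haveI : IsLocallyNoetherian X := LocallyOfFiniteType.isLocallyNoetherian (X ↘ Spec (CommRingCat.of k))
  exact ⟨isCohenMacaulay_of_reduced_one _ (h x hx).le, by rw [h x hx]; rfl⟩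

/-- A proper curve is projective. -/
theorem exists_embedding (hdim : topologicalKrullDim X ≤ 1) :
    ∃ (N : ℕ) (ι : X ⟶ CohB1.ProjSpace N k), IsClosedImmersion ι ∧
      ι ≫ CohB1.ProjSpace.toSpec N k = X ↘ Spec (CommRingCat.of k) := by
  haveI : CompactSpace X := QuasiCompact.compactSpace_of_compactSpace (X ↘ Spec (CommRingCat.of k))
  haveI : IsLocallyNoetherian X := LocallyOfFiniteType.isLocallyNoetherian (X ↘ Spec (CommRingCat.of k))
  haveI : IsNoetherian X := { __ := ‹IsLocallyNoetherian X›, __ := ‹CompactSpace X› }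
  haveI : X.IsSeparated := ⟨by
    rw [← terminal.comp_from (X ↘ Spec (CommRingCat.of k))]; infer_instance⟩
  obtain ⟨L, hL⟩ := PicGlue.exists_isAmple_of_dim_le_one hdim
  exact AmpleEmbed.exists_closedImmersion _ hL

variable (k) in
include k in
/-- Vanishing above the dimension. -/
theorem subsingleton_HH_curve (hdim : topologicalKrullDim X ≤ 1) {F : X.Modules} (hF : Coh.IsQCoh F)
    {q : ℕ} (hq : 1 < q) : Subsingleton (Coh.HH X F q) :=
  subsingleton_HH_of_fibre_dim (A := k) (fun y => by
    rw [((X ↘ Spec (CommRingCat.of k)).fiberHomeo y).isHomeomorph.topologicalKrullDim_eq]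
    refine le_trans ?_ (by exact_mod_cast hdim)
    exact Topology.IsInducing.subtypeVal.topologicalKrullDim_le) hF hq

/-- Any dualizing module of a curve is coherent. -/
theorem isCoh_dualizing (hdim : topologicalKrullDim X ≤ 1) {ω : X.Modules} {tr : Coh.HH X ω 1 →ₗ[k] k}
    (hω : Canon.IsRDualOver k X 1 ω tr) : Coh.IsCoh ω := by
  obtain ⟨N, ι, hι, hιf⟩ := exists_embedding (k := k) hdim
  haveI := hι
  obtain ⟨ω', tr', hc, h'⟩ := exists_isCoh_isRDualOver k N 1 X ι hιf (by exact_mod_cast hdim)
  obtain ⟨ρ, hρ⟩ := (hω.2 ω' hc.1).2 tr'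
  haveI := isIso_of_trace hω h' ρ hρ
  exact SheafHomX.isCoh_of_iso (asIso ρ) hc

/-- `Hom(F, ω) ≅ H¹(F)^∨`, linearly. -/
def dualEquiv {r : ℕ} {ω : X.Modules} {tr : Coh.HH X ω r →ₗ[k] k} (hω : Canon.IsRDualOver k X r ω tr)
    {F : X.Modules} (hF : Coh.IsQCoh F) : (F ⟶ ω) ≃ₗ[k] Module.Dual k (Coh.HH X F r) :=
  LinearEquiv.ofBijective
    { toFun := Canon.dualityMap k X r ω tr F
      map_add' := fun φ ψ => LinearMap.ext fun x => by
        show tr (Canon.HHlin k (φ + ψ) r x) = tr (Canon.HHlin k φ r x) + tr (Canon.HHlin k ψ r x)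
        rw [← map_add]
        refine congrArg tr ?_
        show Sheaf.H.map ((QCoh.toAbFunctor X).map (φ + ψ)) r x = _
        rw [Functor.map_add]
        exact Sheaf.H.map_add_apply _ _ _
      map_smul' := fun a φ => LinearMap.ext fun x => by
        rw [RingHom.id_apply, KLin.smul_def, PnDual.dualityMap_comp]
        show Canon.dualityMap k X r ω tr F φ (a • x) = a • Canon.dualityMap k X r ω tr F φ x
        rw [map_smul] }
    (hω.2 F hF)

theorem finrank_hom {r : ℕ} {ω : X.Modules} {tr : Coh.HH X ω r →ₗ[k] k} (hω : Canon.IsRDualOver k X r ω tr)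
    {F : X.Modules} (hF : Coh.IsQCoh F) :
    Module.finrank k (F ⟶ ω) = Module.finrank k (Coh.HH X F r) :=
  (dualEquiv hω hF).finrank_eq.trans Subspace.dual_finrank_eq

theorem subsingleton_hom_iff {r : ℕ} {ω : X.Modules} {tr : Coh.HH X ω r →ₗ[k] k}
    (hω : Canon.IsRDualOver k X r ω tr) {F : X.Modules} (hF : Coh.IsQCoh F) :
    Subsingleton (F ⟶ ω) ↔ Subsingleton (Coh.HH X F r) :=
  (dualEquiv hω hF).toEquiv.subsingleton_congr.trans (Module.subsingleton_dual_iff k)

/-- Duality in all degrees on a Cohen–Macaulay curve, for finite locally free modules: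
`H^j(ω ⊗ E^∨) ≅ H^{1-j}(E)^∨`. -/
theorem nonempty_dual_locFree (hdim : topologicalKrullDim X = 1)
    (hCM : ∀ x : X, IsClosed ({x} : Set X) →
      LocCoh.IsCohenMacaulayLocalRing (X.presheaf.stalk x) ∧ ringKrullDim (X.presheaf.stalk x) = (1 : ℕ))
    {ω : X.Modules} {tr : Coh.HH X ω 1 →ₗ[k] k} (hω : Canon.IsRDualOver k X 1 ω tr)
    {E : X.Modules} (hE : FlatMod.IsFinLocFree E) (j : ℕ) (hj : j ≤ 1) :
    Nonempty (Coh.HH X (CohB1.tensorMod ω ((SheafHomX.hom E).obj (Coh.structureModule X))) j ≃ₗ[k]
      Module.Dual k (Coh.HH X E (1 - j))) := by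
  haveI : EnoughInjectives X.Modules := inferInstanceAs (EnoughInjectives (SheafOfModules _))
  haveI : HasExt.{u} X.Modules := inferInstance
  haveI : IsLocallyNoetherian X := LocallyOfFiniteType.isLocallyNoetherian (X ↘ Spec (CommRingCat.of k))
  obtain ⟨N, ι, hι, hιf⟩ := exists_embedding (k := k) hdim.le
  let ι' : X ⟶ PnVan.P k N := ι
  haveI : IsClosedImmersion ι' := hι
  have hc := isCoh_dualizing hdim.le hω
  obtain ⟨e⟩ := (ExtShX.duality_cm ι' hιf (n := 1) hdim hCM hc tr (fun G hG => hω.2 G hG.1)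
    (QCoh.isCoh_iff_isFP.2 (QCoh.isFP_of_isFinLocFree hE)) j).1 hj
  obtain ⟨a⟩ := PnDual.nonempty_ext_linearEquiv_HH (A := k) hE ω j
  obtain ⟨b⟩ := ExtShX.nonempty_HH_equiv_of_iso (A := k) (ExtShX.dualTensorIso hE ω) j
  exact ⟨b.trans (a.symm.trans e)⟩

end

end Groth.Agent.CanonDual
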