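import Groth.Agent.CanonDual.Basic
import Groth.Agent.ExtShX.DualClosed
import Groth.Agent.ExtShX.TraceBij

/-!
# Dualizing pairs of projective schemes over a field
-/

set_option autoImplicit false
set_option linter.style.haveILetI false
set_option linter.unusedSectionVars false
set_option backward.isDefEq.respectTransparency false
set_option backward.isDefEq.respectTransparency.types false

universe u

open CategoryTheory CategoryTheory.Limits AlgebraicGeometry TopologicalSpace Opposite

noncomputable section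

namespace Groth.Agent.CanonDual

open Groth.Agent

/-- A projective scheme of dimension `≤ r` over a field has a coherent `r`-dualizing pair. -/
theorem exists_isCoh_isRDualOver (k : Type u) [Field k] (n r : ℕ)
    (X : Scheme.{u}) [X.Over (Spec (CommRingCat.of k))]
    (ι : X ⟶ CohB1.ProjSpace n k) [IsClosedImmersion ι]
    (hι : ι ≫ CohB1.ProjSpace.toSpec n k = X ↘ Spec (CommRingCat.of k))
    (hdim : topologicalKrullDim ↥X ≤ (r : WithBot ℕ∞)) :
    ∃ (ω : X.Modules) (tr : Coh.HH X ω r →ₗ[k] k), Coh.IsCoh ω ∧ Canon.IsRDualOver k X r ω tr := by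
  haveI hP : IsNoetherian (CohB1.ProjSpace n k) := PnVan.noethP (k := k) (r := n)
  haveI : IsLocallyNoetherian X := LocallyOfFiniteType.isLocallyNoetherian ι
  haveI : CompactSpace X := QuasiCompact.compactSpace_of_compactSpace ι
  haveI : IsNoetherian X := { __ := ‹IsLocallyNoetherian X›, __ := ‹CompactSpace X› }
  rcases Nat.lt_or_ge n r with hnr | hnr
  · obtain ⟨e, -⟩ := ExtShX.exists_push_HH k ι hι r
    have hv : ∀ F : X.Modules, Coh.IsQCoh F → Subsingleton (Coh.HH X F r) := fun F hF =>
      haveI := PnDual.subsingleton_HH_above (QCoh.isQCoh_pushforward ι hF) r hnr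
      (e F hF).toEquiv.subsingleton
    obtain ⟨O, hO, hOc⟩ : ∃ O : X.Modules, IsZero O ∧ Coh.IsCoh O :=
      ⟨kernel (𝟙 (Coh.structureModule X)), isZero_kernel_of_mono _,
        QCoh.isCoh_kernel QCoh.isCoh_structureModule' QCoh.isCoh_structureModule' _⟩
    refine ⟨O, 0, hOc, hOc.1, fun F hF => ⟨fun a b _ => hO.eq_of_tgt a b, fun f => ⟨hO.from_ F, ?_⟩⟩⟩
    haveI := hv F hF
    exact LinearMap.ext fun x => by rw [Subsingleton.elim x 0, map_zero, map_zero]
  · obtain ⟨ω, ⟨a⟩⟩ := ExtShX.exists_push_iso_E ι (G := Twist.twistProjSpace n k (-((n : ℤ) + 1)))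
      (ProjSerre.isCoh_twist (𝒜 := CohB1.polyGrading n k) _) (n - r)
    obtain ⟨hωc, t, ht⟩ := ExtShX.exists_dualizing_closed k ι hι (n := r) (c := n - r) (by omega)
      ((add_le_add hdim le_rfl).trans (by exact_mod_cast (by omega : r + (n - r) ≤ n))) a
    exact ⟨ω, t, hωc, hωc.1, fun F hF => PnDual.bijective_of_ftSub hF fun N hN =>
      ht _ ⟨QCoh.isQCoh_of_ftOn hF hN, QCoh.isFT_of_ftOn hF hN⟩⟩

end Groth.Agent.CanonDual
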