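import Groth.Agent.CanonDual.BC
import Groth.Agent.CanonDual.Shriek
import Groth.Agent.CanonDual.Curve
import Groth.Agent.CanonDual.Field

/-!
# Extension of the base field for curves
-/

set_option autoImplicit false
set_option linter.style.haveILetI false
set_option linter.unusedSectionVars false
set_option backward.isDefEq.respectTransparency false
set_option backward.isDefEq.respectTransparency.types false

universe u

open CategoryTheory CategoryTheory.Limits AlgebraicGeometry TopologicalSpace Opposite

noncomputable section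

namespace Groth.Agent.CanonDual

open Groth.Agent

variable {k : Type u} [Field k] {X : Scheme.{u}} [X.Over (Spec (CommRingCat.of k))]
  [IsProper (X ↘ Spec (CommRingCat.of k))]

/-- The dualizing module of a curve is coherent. -/
theorem isCoh_dualizing_curve (hdim : topologicalKrullDim X ≤ 1) {ω : X.Modules} {tr : Coh.HH X ω 1 →ₗ[k] k}
    (hω : Canon.IsRDualOver k X 1 ω tr) : Coh.IsCoh ω := by
  obtain ⟨N, ι, hι, hιf⟩ := exists_embedding (k := k) hdim
  haveI := hι
  obtain ⟨ω₀, tr₀, hc, h₀⟩ := exists_isCoh_isRDualOver k N 1 X ι hιf (by exact_mod_cast hdim)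
  obtain ⟨ρ, hρ⟩ := (hω.2 ω₀ h₀.1).2 tr₀
  haveI := isIso_of_trace hω h₀ ρ hρ
  exact SheafHomX.isCoh_of_iso (asIso ρ) hc

/-- Vanishing above degree one survives the extension of the field. -/
theorem subsingleton_HH_bc {K : Type u} [Field K] [Algebra k K] {X' : Scheme.{u}} [X'.Over (Spec (CommRingCat.of K))]
    [IsProper (X' ↘ Spec (CommRingCat.of K))] {π : X' ⟶ X}
    (hpb : IsPullback π (X' ↘ Spec (CommRingCat.of K)) (X ↘ Spec (CommRingCat.of k))
      (Spec.map (CommRingCat.ofHom (algebraMap k K))))
    (hdim : topologicalKrullDim X ≤ 1) (M : X'.Modules) (hM : Coh.IsQCoh M) (q : ℕ) (hq : 1 < q) :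
    Subsingleton (Coh.HH X' M q) := by
  haveI : IsAffineHom π := MorphismProperty.of_isPullback hpb.flip inferInstance
  obtain ⟨e, -⟩ := BC.exists_pushH hpb q
  haveI := subsingleton_HH_curve k hdim (QCoh.isQCoh_pushforward π hM) hq
  exact (e M hM).toEquiv.subsingleton

end Groth.Agent.CanonDual
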