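import Groth.Agent.QCoh.FlatBC
import Groth.Agent.ExtPowSh.Loc
import Groth.Agent.LCZLib.Depth

/-!
# The direct image of a field extension of a module retracts onto the module
-/

set_option autoImplicit false
set_option linter.style.haveILetI false
set_option linter.unusedSectionVars false
set_option backward.isDefEq.respectTransparency false
set_option backward.isDefEq.respectTransparency.types false

universe u

open CategoryTheory CategoryTheory.Limits AlgebraicGeometry TopologicalSpace Opposite
open scoped TensorProduct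

noncomputable section

namespace Groth.Agent.CanonDual.BC

open Groth.Agent

variable {k K : Type u} [Field k] [Field K] [Algebra k K] {X X' : Scheme.{u}} {pA : X ⟶ Spec (CommRingCat.of k)}
  {pB : X' ⟶ Spec (CommRingCat.of K)} {π : X' ⟶ X}

/-- The unit of the inverse image. -/
abbrev η (π : X' ⟶ X) (M : X.Modules) :
    M ⟶ (Coh.push π).obj ((Scheme.Modules.pullback π).obj M) :=
  (Scheme.Modules.pullbackPushforwardAdjunction π).unit.app M

/-- Multiplication by a scalar upstairs on the direct image. -/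
abbrev pushC (π : X' ⟶ X) (pB : X' ⟶ Spec (CommRingCat.of K)) (M : X.Modules) (c : K) :
    (Coh.push π).obj ((Scheme.Modules.pullback π).obj M) ⟶ (Coh.push π).obj ((Scheme.Modules.pullback π).obj M) :=
  (Coh.push π).map (LCZLib.smulHom (Coh.toGlobal pB c) ((Scheme.Modules.pullback π).obj M))

/-- A functional on the bigger field induces a retraction; together they are jointly injective. -/
theorem exists_retract (h : IsPullback π pB pA (Spec.map (CommRingCat.ofHom (algebraMap k K))))
    {M : X.Modules} (hM : Coh.IsQCoh M) :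
    ∃ r : (K →ₗ[k] k) → ((Coh.push π).obj ((Scheme.Modules.pullback π).obj M) ⟶ M),
      (∀ (l : K →ₗ[k] k) (c : K),
        η π M ≫ pushC π pB M c ≫ r l = LCZLib.smulHom (Coh.toGlobal pA (l c)) M) ∧
      ∀ (U : X.Opens), IsAffineOpen U → ∀ y : Γ((Coh.push π).obj ((Scheme.Modules.pullback π).obj M), U),
        (∀ l, (r l).app U y = 0) → y = 0 := by
  classical
  have hbc : QCoh.IsAffineBC (M := M) (M' := (Scheme.Modules.pullback π).obj M) π (Coh.toGlobal pA) (Coh.toGlobal pB)
      (QCoh.toGlobal_comm pA pB π h.w) (η π M) := QCoh.isAffineBC_of_isPullback h hM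
  let N := (Coh.push π).obj ((Scheme.Modules.pullback π).obj M)
  suffices key : ∀ l : K →ₗ[k] k, ∃ r : N ⟶ M,
      (∀ c : K, η π M ≫ pushC π pB M c ≫ r = LCZLib.smulHom (Coh.toGlobal pA (l c)) M) ∧
      ∀ (U : X.Opens) (hU : IsAffineOpen U),
        letI := QCoh.secModule (Coh.toGlobal pA) M U
        letI := QCoh.secModule (Coh.toGlobal pB) ((Scheme.Modules.pullback π).obj M) (π ⁻¹ᵁ U)
        letI := QCoh.secModule ((Coh.toGlobal pB).comp (algebraMap k K)) ((Scheme.Modules.pullback π).obj M) (π ⁻¹ᵁ U)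
        haveI : IsScalarTower k K Γ((Scheme.Modules.pullback π).obj M, π ⁻¹ᵁ U) := .of_algebraMap_smul fun _ _ => rfl
        ∀ y, r.app U y = (TensorProduct.lid k Γ(M, U)).toLinearMap
          (l.rTensor Γ(M, U) ((hbc U hU).equiv.symm y)) by
    choose r hr1 hr2 using key
    refine ⟨r, hr1, fun U hU y hy => ?_⟩
    letI := QCoh.secModule (Coh.toGlobal pA) M U
    letI := QCoh.secModule (Coh.toGlobal pB) ((Scheme.Modules.pullback π).obj M) (π ⁻¹ᵁ U)
    letI := QCoh.secModule ((Coh.toGlobal pB).comp (algebraMap k K)) ((Scheme.Modules.pullback π).obj M) (π ⁻¹ᵁ U)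
    haveI : IsScalarTower k K Γ((Scheme.Modules.pullback π).obj M, π ⁻¹ᵁ U) := .of_algebraMap_smul fun _ _ => rfl
    let b := Module.Free.chooseBasis k K
    have hz : (hbc U hU).equiv.symm y = 0 := by
      apply (TensorProduct.equivFinsuppOfBasisLeft b).injective
      rw [map_zero]
      ext i
      rw [Finsupp.zero_apply]
      have h1 := (hr2 (b.coord i) U hU y).symm.trans (hy (b.coord i))
      rw [← h1]
      generalize (hbc U hU).equiv.symm y = z
      induction z using TensorProduct.induction_on with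
      | zero => simp
      | tmul c m => simp [TensorProduct.equivFinsuppOfBasisLeft]
      | add a b ha hb => simp only [map_add, Finsupp.add_apply, ha, hb]
    have := congrArg (hbc U hU).equiv hz
    rwa [LinearEquiv.apply_symm_apply, map_zero] at this
  intro l
  have hadd : ∀ U : X.affineOpens, ∃ φ : Γ(N, U.1) →+ Γ(M, U.1),
      (∀ (c : K) (m : Γ(M, U.1)), φ ((pushC π pB M c).app U.1 ((η π M).app U.1 m)) =
          QCoh.rf X (le_top : U.1 ≤ ⊤) (Coh.toGlobal pA (l c)) • m) ∧
      (∀ (P : Γ(N, U.1) → Prop), P 0 → (∀ a b, P a → P b → P (a + b)) →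
        (∀ (c : K) (m : Γ(M, U.1)), P ((pushC π pB M c).app U.1 ((η π M).app U.1 m))) → ∀ y, P y) ∧
      (letI := QCoh.secModule (Coh.toGlobal pA) M U.1
       letI := QCoh.secModule (Coh.toGlobal pB) ((Scheme.Modules.pullback π).obj M) (π ⁻¹ᵁ U.1)
       letI := QCoh.secModule ((Coh.toGlobal pB).comp (algebraMap k K)) ((Scheme.Modules.pullback π).obj M) (π ⁻¹ᵁ U.1)
       haveI : IsScalarTower k K Γ((Scheme.Modules.pullback π).obj M, π ⁻¹ᵁ U.1) := .of_algebraMap_smul fun _ _ => rfl
       ∀ y, φ y = (TensorProduct.lid k Γ(M, U.1)).toLinearMap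
          (l.rTensor Γ(M, U.1) ((hbc U.1 U.2).equiv.symm y))) := by
    intro U
    letI := QCoh.secModule (Coh.toGlobal pA) M U.1
    letI := QCoh.secModule (Coh.toGlobal pB) ((Scheme.Modules.pullback π).obj M) (π ⁻¹ᵁ U.1)
    letI := QCoh.secModule ((Coh.toGlobal pB).comp (algebraMap k K)) ((Scheme.Modules.pullback π).obj M) (π ⁻¹ᵁ U.1)
    haveI : IsScalarTower k K Γ((Scheme.Modules.pullback π).obj M, π ⁻¹ᵁ U.1) := .of_algebraMap_smul fun _ _ => rfl
    let e := (hbc U.1 U.2).equiv
    have he : ∀ (c : K) (m : Γ(M, U.1)), e (c ⊗ₜ m) = ((pushC π pB M c).app U.1 ((η π M).app U.1 m)) := fun c m => by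
      rw [IsBaseChange.equiv_tmul]
      show QCoh.rf X' (le_top : π ⁻¹ᵁ U.1 ≤ ⊤) (Coh.toGlobal pB c) •
        QCoh.secMap (M := M) (M' := (Scheme.Modules.pullback π).obj M) π (η π M) (le_refl (π ⁻¹ᵁ U.1)) m = _
      refine Eq.trans ?_ (LCZLib.smulHom_app (Coh.toGlobal pB c) ((Scheme.Modules.pullback π).obj M) (π ⁻¹ᵁ U.1) _).symm
      congr 1
      exact ConcreteCategory.congr_hom (((Scheme.Modules.pullback π).obj M).presheaf.map_id _) _
    refine ⟨((TensorProduct.lid k Γ(M, U.1)).toLinearMap.comp (l.rTensor Γ(M, U.1))).toAddMonoidHom.comp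
      e.symm.toAddEquiv.toAddMonoidHom, fun c m => ?_, fun P h0 ha hg y => ?_, fun y => rfl⟩
    · rw [← he]
      show TensorProduct.lid k Γ(M, U.1) (l.rTensor Γ(M, U.1) (e.symm (e (c ⊗ₜ m)))) = _
      rw [LinearEquiv.symm_apply_apply, LinearMap.rTensor_tmul, TensorProduct.lid_tmul]
      rfl
    · obtain ⟨z, rfl⟩ := e.surjective y
      induction z using TensorProduct.induction_on with
      | zero => rw [map_zero]; exact h0
      | tmul c m => rw [he]; exact hg c m
      | add a b iha ihb => rw [map_add]; exact ha _ _ iha ihb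
  choose φ hφ hind hφe using hadd
  have hlin : ∀ (U : X.affineOpens) (s : Γ(X, U.1)) (y : Γ(N, U.1)), φ U (s • y) = s • φ U y := by
    intro U s y
    refine hind U (fun y => φ U (s • y) = s • φ U y) ?_ ?_ (fun c m => ?_) y
    · rw [smul_zero, map_zero, smul_zero]
    · intro a b iha ihb
      rw [smul_add, map_add, map_add, iha, ihb, smul_add]
    · rw [hφ, smul_comm, ← hφ U c (s • m)]
      congr 1
      rw [(η π M).app_smul, (pushC π pB M c).app_smul]
  obtain ⟨r, hr⟩ := ExtPowSh.exists_hom_of_affine (M := N) (N := M)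
    (fun U => { toFun := fun y => φ U y, map_add' := map_add (φ U), map_smul' := hlin U })
    fun U V hVU y => by
      show M.presheaf.map (homOfLE hVU).op (φ U y) = φ V (N.presheaf.map (homOfLE hVU).op y)
      refine hind U (fun y => M.presheaf.map (homOfLE hVU).op (φ U y) =
        φ V (N.presheaf.map (homOfLE hVU).op y)) ?_ ?_ (fun c m => ?_) y
      · simp only [map_zero]
      · intro a b iha ihb
        simp only [map_add, iha, ihb]
      · have e1 : N.presheaf.map (homOfLE hVU).op ((pushC π pB M c).app U.1 ((η π M).app U.1 m)) =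
            (pushC π pB M c).app V.1 ((η π M).app V.1 (M.presheaf.map (homOfLE hVU).op m)) := by
          rw [QCoh.map_app_comm (η π M) (homOfLE hVU) m, QCoh.map_app_comm (pushC π pB M c) (homOfLE hVU)]
        rw [hφ, e1, hφ, Scheme.Modules.map_smul]
        congr 1
        exact (ConcreteCategory.congr_hom (X.presheaf.map_comp _ _) _).symm
  refine ⟨r, fun c => sub_eq_zero.1 (QCoh.hom_eq_zero_of_affine _ fun U hU m => ?_), fun U hU y =>
    (hr ⟨U, hU⟩ y).trans (hφe ⟨U, hU⟩ y)⟩
  show r.app U ((pushC π pB M c).app U ((η π M).app U m)) - (LCZLib.smulHom _ M).app U m = 0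
  rw [sub_eq_zero]
  refine (hr ⟨U, hU⟩ _).trans ?_
  exact hφ ⟨U, hU⟩ c m

end Groth.Agent.CanonDual.BC
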