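import Groth.Agent.CanonDual.Deg
import Groth.Agent.AVEuler.Point

/-! Degrees on subcurves and on their components. -/

set_option autoImplicit false
set_option linter.style.haveILetI false
set_option linter.unusedSectionVars false
set_option backward.isDefEq.respectTransparency false
set_option backward.isDefEq.respectTransparency.types false

universe u

open CategoryTheory CategoryTheory.Limits AlgebraicGeometry TopologicalSpace Opposite

noncomputable section

namespace Groth.Agent.CanonDual

open Groth.Agent

/-- A closed immersion from a reduced scheme is cut out by the vanishing ideal of its image. -/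
theorem ker_eq_vanishingIdeal {Z X : Scheme.{u}} [IsReduced Z] (i : Z ⟶ X) [IsClosedImmersion i]
    {S : Closeds X} (hS : Set.range i = (S : Set X)) : i.ker = Scheme.IdealSheafData.vanishingIdeal S := by
  have h1 : i.ker.support = S := by
    refine SetLike.coe_injective ?_
    rw [Scheme.Hom.support_ker, ← hS]
    exact i.isClosedEmbedding.isClosed_range.closure_eq
  haveI : IsIso i.toImage :=
    IsClosedImmersion.isIso_of_ker_eq i i.imageι i.toImage i.toImage_imageι (Scheme.IdealSheafData.ker_subschemeι _).symm
  haveI : IsReduced i.ker.subscheme := isReduced_of_isOpenImmersion (inv i.toImage)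
  rw [← h1, Scheme.IdealSheafData.vanishingIdeal_support]
  refine le_antisymm i.ker.le_radical fun U => ?_
  rw [Scheme.IdealSheafData.radical_ideal]
  exact H23.RedSub.isRadical_of_isReduced_subscheme U

variable {k : Type u} [Field k] {X : Scheme.{u}} [X.Over (Spec (CommRingCat.of k))]
  [IsProper (X ↘ Spec (CommRingCat.of k))]

variable (k) in
include k in
/-- Two reduced closed subschemes with the same points have the same degrees. -/
theorem deg_pullback_eq {Z : Scheme.{u}} [IsReduced Z] (i : Z ⟶ X) [IsClosedImmersion i] {S : Closeds X}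
    (hS : Set.range i = (S : Set X)) {L : X.Modules} (hL : PicF.IsInvertible L) :
    @Curv2.deg k _ Z ⟨i ≫ (X ↘ Spec (CommRingCat.of k))⟩ ((Scheme.Modules.pullback i).obj L) 1 =
      @Curv2.deg k _ (Scheme.IdealSheafData.vanishingIdeal S).subscheme
        ⟨(Scheme.IdealSheafData.vanishingIdeal S).subschemeι ≫ (X ↘ Spec (CommRingCat.of k))⟩
        ((Scheme.Modules.pullback (Scheme.IdealSheafData.vanishingIdeal S).subschemeι).obj L) 1 := by
  set J := Scheme.IdealSheafData.vanishingIdeal S with hJ
  have hker : J.subschemeι.ker = i.ker := by rw [Scheme.IdealSheafData.ker_subschemeι, ker_eq_vanishingIdeal i hS]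
  letI : Z.Over (Spec (CommRingCat.of k)) := ⟨i ≫ (X ↘ Spec (CommRingCat.of k))⟩
  haveI : IsProper (Z ↘ Spec (CommRingCat.of k)) := inferInstanceAs (IsProper (i ≫ (X ↘ Spec (CommRingCat.of k))))
  let θ : Z ⟶ J.subscheme := IsClosedImmersion.lift J.subschemeι i hker.le
  have hθ : θ ≫ J.subschemeι = i := IsClosedImmersion.lift_fac _ _ _
  haveI : IsIso θ := IsClosedImmersion.isIso_lift J.subschemeι i hker
  letI : J.subscheme.Over (Spec (CommRingCat.of k)) := ⟨J.subschemeι ≫ (X ↘ Spec (CommRingCat.of k))⟩
  haveI : IsProper (J.subscheme ↘ Spec (CommRingCat.of k)) :=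
    inferInstanceAs (IsProper (J.subschemeι ≫ (X ↘ Spec (CommRingCat.of k))))
  have hθk : θ ≫ (J.subscheme ↘ Spec (CommRingCat.of k)) = Z ↘ Spec (CommRingCat.of k) := by
    show θ ≫ J.subschemeι ≫ _ = i ≫ _
    rw [← Category.assoc, hθ]
  obtain ⟨e0⟩ := PicClLib.nonempty_pullback_structureModule θ
  let e1 : (Scheme.Modules.pullback i).obj L ≅
      (Scheme.Modules.pullback θ).obj ((Scheme.Modules.pullback J.subschemeι).obj L) :=
    ((Scheme.Modules.pullbackCongr hθ).app L).symm ≪≫ ((Scheme.Modules.pullbackComp θ J.subschemeι).app L).symm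
  have hL' := PicClLib.isInvertible_pullback J.subschemeι hL
  unfold Curv2.deg
  rw [Euler.euler_congr k e1, ← Euler.euler_congr k e0,
    AVEuler.euler_pullback_iso (k := k) θ hθk (ProjUPX.isQCoh_of_isInvertible hL'),
    AVEuler.euler_pullback_iso (k := k) θ hθk QCoh.isQCoh_structureModule]

variable (k) in
include k in
/-- Components of a subcurve: non-negative degrees add up. -/
theorem deg_subcurve_nonneg (hdim : topologicalKrullDim X ≤ 1) (J : X.IdealSheafData) [IsReduced J.subscheme]
    (hJ : Proj16.ClosedDimOne J.subscheme) {L : X.Modules} (hL : PicF.IsInvertible L)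
    (h : ∀ (C : Set X) (hC : C ∈ irreducibleComponents (X : Type u)), C ⊆ (J.support : Set X) →
      0 ≤ @Curv2.deg k _ (Scheme.IdealSheafData.vanishingIdeal ⟨C, isClosed_of_mem_irreducibleComponents C hC⟩).subscheme
        ⟨(Scheme.IdealSheafData.vanishingIdeal ⟨C, isClosed_of_mem_irreducibleComponents C hC⟩).subschemeι ≫ (X ↘ Spec (CommRingCat.of k))⟩
        ((Scheme.Modules.pullback (Scheme.IdealSheafData.vanishingIdeal ⟨C, isClosed_of_mem_irreducibleComponents C hC⟩).subschemeι).obj L) 1) :
    0 ≤ @Curv2.deg k _ J.subscheme ⟨J.subschemeι ≫ (X ↘ Spec (CommRingCat.of k))⟩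
        ((Scheme.Modules.pullback J.subschemeι).obj L) 1 ∧
    ∀ (C : Set X) (hC : C ∈ irreducibleComponents (X : Type u)), C ⊆ (J.support : Set X) →
      @Curv2.deg k _ (Scheme.IdealSheafData.vanishingIdeal ⟨C, isClosed_of_mem_irreducibleComponents C hC⟩).subscheme
          ⟨(Scheme.IdealSheafData.vanishingIdeal ⟨C, isClosed_of_mem_irreducibleComponents C hC⟩).subschemeι ≫ (X ↘ Spec (CommRingCat.of k))⟩
          ((Scheme.Modules.pullback (Scheme.IdealSheafData.vanishingIdeal ⟨C, isClosed_of_mem_irreducibleComponents C hC⟩).subschemeι).obj L) 1 ≤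
        @Curv2.deg k _ J.subscheme ⟨J.subschemeι ≫ (X ↘ Spec (CommRingCat.of k))⟩
          ((Scheme.Modules.pullback J.subschemeι).obj L) 1 := by
  classical
  letI : J.subscheme.Over (Spec (CommRingCat.of k)) := ⟨J.subschemeι ≫ (X ↘ Spec (CommRingCat.of k))⟩
  haveI : IsProper (J.subscheme ↘ Spec (CommRingCat.of k)) :=
    inferInstanceAs (IsProper (J.subschemeι ≫ (X ↘ Spec (CommRingCat.of k))))
  haveI := CurveCohLib.isNoetherian_of_proper (k := k) (X := J.subscheme)
  haveI : Finite (irreducibleComponents (J.subscheme : Type u)) :=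
    (NoetherianSpace.finite_irreducibleComponents).to_subtype
  letI := Fintype.ofFinite (irreducibleComponents (J.subscheme : Type u))
  have hL' := PicClLib.isInvertible_pullback J.subschemeι hL
  have hJle : topologicalKrullDim J.subscheme ≤ 1 :=
    J.subschemeι.isEmbedding.isInducing.topologicalKrullDim_le.trans hdim
  have hι := J.subschemeι.isClosedEmbedding
  have himg : ∀ C' : irreducibleComponents (J.subscheme : Type u),
      J.subschemeι '' C'.1 ∈ irreducibleComponents (X : Type u) := fun C' => by
    have hcl : IsClosed (J.subschemeι '' C'.1) := hι.isClosedMap _ (isClosed_of_mem_irreducibleComponents _ C'.2)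
    have hirr : IsIrreducible (J.subschemeι '' C'.1) := C'.2.1.image _ J.subschemeι.continuous.continuousOn
    obtain ⟨T, hT, hsub⟩ := exists_mem_irreducibleComponents_subset_of_isIrreducible _ hirr
    obtain ⟨η, hη⟩ := QuasiSober.sober hT.1 (isClosed_of_mem_irreducibleComponents T hT)
    set ξ := J.subschemeι (CurveFinMap.gpt C') with hξdef
    have hξ : IsGenericPoint ξ (J.subschemeι '' C'.1) := by
      have := (CurveFinMap.isGenericPoint_gpt C').image J.subschemeι.continuous
      rwa [hcl.closure_eq] at this
    have hne : ¬ IsClosed ({ξ} : Set X) := fun hc => by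
      have h1 := components_dim_one k hJ C'.1 C'.2
      refine CurveFinMap.not_isClosed_generic (CurveFinMap.isGenericPoint_gpt C') (by exact_mod_cast h1) ?_
      have h3 : ({CurveFinMap.gpt C'} : Set J.subscheme) = J.subschemeι ⁻¹' {ξ} := by
        ext w; simp [hξdef, hι.injective.eq_iff]
      rw [h3]
      exact hc.preimage J.subschemeι.continuous
    have hTe : T = J.subschemeι '' C'.1 := by
      by_cases hηξ : η = ξ
      · rw [← hη.def, hηξ, hξ.def]
      · exact absurd (CurvePsi.isClosed_of_dim_le_one hdim (hη.specializes (hsub hξ.mem)) (Ne.symm hηξ)) hne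
    rwa [← hTe]
  have hterm : ∀ C' : irreducibleComponents (J.subscheme : Type u),
      @Curv2.deg k _ (J.subscheme.irreducibleComponentIdeal C'.1 C'.2).radical.subscheme
        ⟨(J.subscheme.irreducibleComponentIdeal C'.1 C'.2).radical.subschemeι ≫ (J.subscheme ↘ Spec (CommRingCat.of k))⟩
        ((Scheme.Modules.pullback (J.subscheme.irreducibleComponentIdeal C'.1 C'.2).radical.subschemeι).obj
          ((Scheme.Modules.pullback J.subschemeι).obj L)) 1 =
      @Curv2.deg k _ (Scheme.IdealSheafData.vanishingIdeal ⟨_, isClosed_of_mem_irreducibleComponents _ (himg C')⟩).subscheme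
        ⟨(Scheme.IdealSheafData.vanishingIdeal ⟨_, isClosed_of_mem_irreducibleComponents _ (himg C')⟩).subschemeι ≫ (X ↘ Spec (CommRingCat.of k))⟩
        ((Scheme.Modules.pullback (Scheme.IdealSheafData.vanishingIdeal ⟨_, isClosed_of_mem_irreducibleComponents _ (himg C')⟩).subschemeι).obj L) 1 := by
    intro C'
    set I := (J.subscheme.irreducibleComponentIdeal C'.1 C'.2).radical with hI
    have hIv : I = Scheme.IdealSheafData.vanishingIdeal ⟨C'.1, isClosed_of_mem_irreducibleComponents _ C'.2⟩ := by
      rw [hI, ← Scheme.IdealSheafData.vanishingIdeal_support]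
      exact congrArg _ (Closeds.ext rfl)
    haveI : IsReduced I.subscheme := by rw [hIv]; exact H23.RedSub.isReduced_vanishingIdeal _
    have hr : Set.range (I.subschemeι ≫ J.subschemeι) = J.subschemeι '' C'.1 := by
      rw [Scheme.Hom.comp_base, TopCat.coe_comp, Set.range_comp, I.range_subschemeι]
      rfl
    rw [← deg_pullback_eq k (I.subschemeι ≫ J.subschemeι)
      (S := ⟨_, isClosed_of_mem_irreducibleComponents _ (himg C')⟩) hr hL]
    letI : I.subscheme.Over (Spec (CommRingCat.of k)) := ⟨I.subschemeι ≫ (J.subscheme ↘ Spec (CommRingCat.of k))⟩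
    haveI : IsProper (I.subscheme ↘ Spec (CommRingCat.of k)) :=
      inferInstanceAs (IsProper (I.subschemeι ≫ (J.subscheme ↘ Spec (CommRingCat.of k))))
    have e := (Scheme.Modules.pullbackComp I.subschemeι J.subschemeι).app L
    show Curv2.deg k I.subscheme _ 1 = Curv2.deg k I.subscheme _ 1
    unfold Curv2.deg
    rw [← Euler.euler_congr k e]
    rfl
  have hlen : ∀ C' : irreducibleComponents (J.subscheme : Type u),
      (Module.length (J.subscheme.presheaf.stalk (CurveFinMap.gpt C')) (J.subscheme.presheaf.stalk (CurveFinMap.gpt C'))).toNat = 1 := by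
    intro C'
    have hgen : CurveFinMap.gpt C' ∈ genericPoints (J.subscheme : Type u) := by
      unfold genericPoints
      rw [Set.mem_setOf_eq, (CurveFinMap.isGenericPoint_gpt C').def]
      exact C'.2
    have hone : ∀ (R : Type u) [CommRing R], IsField R → (Module.length R R).toNat = 1 := fun R _ hR => by
      letI := hR.toField
      haveI : IsSimpleModule R R := inferInstance
      rw [Module.length_eq_one]
      rfl
    exact hone _ (TFQuot.isField_stalk_generic hgen)
  have hd := CurveFinMap.deg_eq_sum k hJle (InvEnd.isFinLocFreeOfRank_one hL')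
  rw [finsum_eq_sum_of_fintype] at hd
  have hd' : Curv2.deg k J.subscheme ((Scheme.Modules.pullback J.subschemeι).obj L) 1 =
      ∑ C' : irreducibleComponents (J.subscheme : Type u),
        @Curv2.deg k _ (Scheme.IdealSheafData.vanishingIdeal ⟨_, isClosed_of_mem_irreducibleComponents _ (himg C')⟩).subscheme
          ⟨(Scheme.IdealSheafData.vanishingIdeal ⟨_, isClosed_of_mem_irreducibleComponents _ (himg C')⟩).subschemeι ≫ (X ↘ Spec (CommRingCat.of k))⟩
          ((Scheme.Modules.pullback (Scheme.IdealSheafData.vanishingIdeal ⟨_, isClosed_of_mem_irreducibleComponents _ (himg C')⟩).subschemeι).obj L) 1 := by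
    rw [hd]
    refine Finset.sum_congr rfl fun C' _ => ?_
    rw [if_pos (by exact_mod_cast components_dim_one k hJ C'.1 C'.2), hlen C', hterm C']
    simp
  have hnn : ∀ C' : irreducibleComponents (J.subscheme : Type u), J.subschemeι '' C'.1 ⊆ (J.support : Set X) :=
    fun C' => by rw [← J.range_subschemeι]; exact Set.image_subset_range _ _
  refine ⟨hd' ▸ Finset.sum_nonneg fun C' _ => h _ (himg C') (hnn C'), fun C hC hCJ => ?_⟩
  obtain ⟨C', hC'⟩ : ∃ C' : irreducibleComponents (J.subscheme : Type u), J.subschemeι '' C'.1 = C := by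
    obtain ⟨η, hη⟩ := QuasiSober.sober hC.1 (isClosed_of_mem_irreducibleComponents C hC)
    obtain ⟨z, hz⟩ : η ∈ Set.range J.subschemeι := by rw [J.range_subschemeι]; exact hCJ hη.mem
    refine ⟨⟨irreducibleComponent z, irreducibleComponent_mem_irreducibleComponents z⟩, ?_⟩
    have h1 := himg ⟨irreducibleComponent z, irreducibleComponent_mem_irreducibleComponents z⟩
    refine (hC.eq_of_le h1.1 ?_).symm
    rw [← hη.def, ← hz]
    exact closure_minimal (Set.singleton_subset_iff.2 ⟨z, mem_irreducibleComponent, rfl⟩)
      (hι.isClosedMap _ isClosed_irreducibleComponent)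
  subst hC'
  rw [hd']
  exact Finset.single_le_sum (f := fun C' : irreducibleComponents (J.subscheme : Type u) =>
    @Curv2.deg k _ (Scheme.IdealSheafData.vanishingIdeal ⟨_, isClosed_of_mem_irreducibleComponents _ (himg C')⟩).subscheme
      ⟨(Scheme.IdealSheafData.vanishingIdeal ⟨_, isClosed_of_mem_irreducibleComponents _ (himg C')⟩).subschemeι ≫ (X ↘ Spec (CommRingCat.of k))⟩
      ((Scheme.Modules.pullback (Scheme.IdealSheafData.vanishingIdeal ⟨_, isClosed_of_mem_irreducibleComponents _ (himg C')⟩).subschemeι).obj L) 1)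
    (fun C'' _ => h _ (himg C'') (hnn C'')) (Finset.mem_univ C')

end Groth.Agent.CanonDual
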