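import Groth.Agent.CanonDual.Curve
import Groth.Agent.ExtShX.CanonStalk
import Groth.Agent.ExtShX.TraceBij
import Groth.Agent.LC.CanonGor
import Groth.Agent.LC.CanonUnique
import Groth.Agent.PnVan.Depth
import Groth.Agent.ConsPropLib.FibreLocFreeRank
import Groth.Agent.Lib.CurveDualPrep
import Groth.Agent.Proj16.CurveTop

/-!
# The dualizing module of a Gorenstein curve is invertible
-/

set_option autoImplicit false
set_option linter.style.haveILetI false
set_option linter.unusedSectionVars false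
set_option backward.isDefEq.respectTransparency false
set_option backward.isDefEq.respectTransparency.types false

universe u

open CategoryTheory CategoryTheory.Limits AlgebraicGeometry TopologicalSpace Opposite IsLocalRing

noncomputable section

namespace Groth.Agent.CanonDual

open Groth.Agent

/-- The top Ext module of a Gorenstein quotient of a Gorenstein local ring is free of rank one. -/
theorem nonempty_equiv_of_ext_gorenstein {R S : Type u} [CommRing R] [LocCoh.IsGorensteinLocalRing R]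
    [CommRing S] [LocCoh.IsGorensteinLocalRing S] [Algebra S R]
    (hπ : Function.Surjective (algebraMap S R)) {n N c : ℕ} (hn : ringKrullDim R = n) (hN : ringKrullDim S = N)
    (hc : n + c = N) (K : Type u) [AddCommGroup K] [Module R K] [Module.Finite R K] [Module S K] [IsScalarTower S R K]
    (ι : K ≃ₗ[S] Abelian.Ext (ModuleCat.of S R) (ModuleCat.of S S) c) : Nonempty (K ≃ₗ[R] R) := by
  obtain ⟨E, _, _, f, hf⟩ := LC.exists_injectiveHull R (ResidueField R)
  obtain ⟨g, hg⟩ := LC.isInjectiveHull_H_gorenstein (R := R) hn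
  obtain ⟨e, -⟩ := LC.hull_unique hf hg
  obtain ⟨θ⟩ := LC.Canon.canon_of_ext hf hπ hN hc K ι
  exact LC.Canon.nonempty_linearEquiv_of_dualEquiv hf
    ((LinearMap.ringLmapEquivSelf R R E).trans (e.trans θ.symm))

/-- A coherent module whose stalks at closed points are free of rank one is invertible. -/
theorem isInvertible_of_closed_stalks {k : Type u} [Field k] {X : Scheme.{u}} [X.Over (Spec (CommRingCat.of k))]
    [LocallyOfFiniteType (X ↘ Spec (CommRingCat.of k))] {M : X.Modules} (hM : CohB1.IsFP M)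
    (h : ∀ x : X, IsClosed ({x} : Set X) → Nonempty (M.presheaf.stalk x ≃ₗ[X.presheaf.stalk x] X.presheaf.stalk x)) :
    PicF.IsInvertible M := by
  haveI : JacobsonSpace X := LocallyOfFiniteType.jacobsonSpace (X ↘ Spec (CommRingCat.of k))
  have hcl : ∀ y : X, ∃ c : X, y ⤳ c ∧ IsClosed ({c} : Set X) := fun y =>
    VarDim.exists_closed_specialization (X ↘ Spec (CommRingCat.of k)) y
  have hlf : FlatMod.IsFinLocFree M := fun y => by
    obtain ⟨c, hyc, hc⟩ := hcl y
    obtain ⟨l⟩ := h c hc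
    haveI : Module.Free (X.presheaf.stalk c) (M.presheaf.stalk c) := Module.Free.of_equiv l.symm
    obtain ⟨U, n, hcU, hU⟩ := QCoh.exists_free_nhd_of_free_stalk hM c
    exact ⟨U, n, hyc.mem_open U.2 hcU, hU⟩
  refine CurveDuality.isInvertible_of_rank_one (ConsPropLib.isFinLocFreeOfRank_iff.2 ⟨hlf, fun y => ?_⟩)
  obtain ⟨c, hyc, hc⟩ := hcl y
  obtain ⟨l⟩ := h c hc
  obtain ⟨V, hV, hcV, hconst⟩ := (IsLocallyConstant.iff_exists_open _).1 (QCoh.isLocallyConstant_rank hlf) c
  rw [hconst y (hyc.mem_open hV hcV), l.finrank_eq, Module.finrank_self]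

section

variable {k : Type u} [Field k] {X : Scheme.{u}} [X.Over (Spec (CommRingCat.of k))]
  [IsProper (X ↘ Spec (CommRingCat.of k))]

/-- The dualizing module of a curve with Gorenstein local rings is invertible. -/
theorem isInvertible_dualizing (hdim : topologicalKrullDim X = 1)
    (hcl : ∀ x : X, IsClosed ({x} : Set X) →
      LocCoh.IsGorensteinLocalRing (X.presheaf.stalk x) ∧ ringKrullDim (X.presheaf.stalk x) = (1 : ℕ))
    {ω : X.Modules} {tr : Coh.HH X ω 1 →ₗ[k] k} (hω : Canon.IsRDualOver k X 1 ω tr) :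
    PicF.IsInvertible ω := by
  obtain ⟨N, ι, hι, hιf⟩ := exists_embedding (k := k) hdim.le
  let ι' : X ⟶ PnVan.P k N := ι
  haveI : IsClosedImmersion ι' := hι
  haveI := hι
  haveI hP : IsNoetherian (PnVan.P k N) := PnVan.noethP (k := k) (r := N)
  haveI : IsLocallyNoetherian X := LocallyOfFiniteType.isLocallyNoetherian (X ↘ Spec (CommRingCat.of k))
  haveI : CompactSpace X := QuasiCompact.compactSpace_of_compactSpace (X ↘ Spec (CommRingCat.of k))
  have hN : 1 ≤ N := PnVan.dim_le ι' (show topologicalKrullDim X = (1 : ℕ) from hdim)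
  obtain ⟨ω', ⟨a⟩⟩ := ExtShX.exists_push_iso_E ι' (G := Twist.twistProjSpace N k (-((N : ℤ) + 1)))
    (ProjSerre.isCoh_twist (𝒜 := CohB1.polyGrading N k) _) (N - 1)
  obtain ⟨hωc, t, ht⟩ := ExtShX.exists_dualizing_closed k ι hιf (n := 1) (c := N - 1) (by omega)
    ((add_le_add hdim.le le_rfl).trans (by exact_mod_cast (by omega : 1 + (N - 1) ≤ N))) a
  have h' : Canon.IsRDualOver k X 1 ω' t := ⟨hωc.1, fun F hF => PnDual.bijective_of_ftSub hF fun G hG =>
      ht _ ⟨QCoh.isQCoh_of_ftOn hF hG, QCoh.isFT_of_ftOn hF hG⟩⟩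
  obtain ⟨ρ, hρ⟩ := (hω.2 ω' hωc.1).2 t
  haveI := isIso_of_trace hω h' ρ hρ
  refine H23.PicMul.isInvertible_of_iso (asIso ρ) (isInvertible_of_closed_stalks (k := k)
    (QCoh.isCoh_iff_isFP.1 hωc) fun x hx => ?_)
  obtain ⟨A, e, σ, M, φ, hσ, ⟨eM⟩, hφ⟩ := ExtShX.exists_canon_stalk ι' (PnVan.invertible_twist _) ⟨a⟩ x
  obtain ⟨hG, hd⟩ := hcl x hx
  haveI := hG
  haveI : IsRegularLocalRing A := IsRegularLocalRing.of_ringEquiv e
  haveI : LocCoh.IsGorensteinLocalRing A := LC.gorenstein_of_isRegularLocalRing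
  letI : Algebra A (X.presheaf.stalk x) := σ.toAlgebra
  letI : Module A (ω'.presheaf.stalk x) := Module.compHom _ σ
  haveI : IsScalarTower A (X.presheaf.stalk x) (ω'.presheaf.stalk x) := ⟨fun p q r => by
    show (σ p * q) • r = σ p • q • r
    rw [mul_smul]⟩
  haveI : Module.Finite (X.presheaf.stalk x) (ω'.presheaf.stalk x) :=
    QCoh.finite_stalk_of_isFT hωc.1 hωc.2 x
  have hιx : IsClosed ({ι' x} : Set (PnVan.P k N)) := by
    rw [← Set.image_singleton]
    exact ι'.isClosedEmbedding.isClosedMap _ hx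
  have hA : ringKrullDim A = N := (ringKrullDim_eq_of_ringEquiv e).symm.trans (PnVan.dim_closed hιx)
  let eR : M ≅ ModuleCat.of A (X.presheaf.stalk x) :=
    (eM.trans ((Ideal.quotientKerAlgEquivOfSurjective (f := Algebra.ofId A (X.presheaf.stalk x)) hσ).toLinearEquiv)).toModuleIso
  let ψ : Abelian.Ext M (ModuleCat.of A A) (N - 1) →ₗ[A]
      Abelian.Ext (ModuleCat.of A (X.presheaf.stalk x)) (ModuleCat.of A A) (N - 1) :=
    { toFun := fun z => (Abelian.Ext.mk₀ eR.inv).comp z (zero_add _)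
      map_add' := fun z z' => Abelian.Ext.comp_add _ _ _ _
      map_smul' := fun s z => Abelian.Ext.comp_smul _ _ _ _ }
  have hψ : Function.Bijective ψ :=
    Function.bijective_iff_has_inverse.2 ⟨fun z => (Abelian.Ext.mk₀ eR.hom).comp z (zero_add _),
      fun z => by
        show (Abelian.Ext.mk₀ eR.hom).comp ((Abelian.Ext.mk₀ eR.inv).comp z (zero_add _)) (zero_add _) = z
        rw [Abelian.Ext.mk₀_comp_mk₀_assoc, eR.hom_inv_id, Abelian.Ext.mk₀_id_comp],
      fun z => by
        show (Abelian.Ext.mk₀ eR.inv).comp ((Abelian.Ext.mk₀ eR.hom).comp z (zero_add _)) (zero_add _) = z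
        rw [Abelian.Ext.mk₀_comp_mk₀_assoc, eR.inv_hom_id, Abelian.Ext.mk₀_id_comp]⟩
  let j : ω'.presheaf.stalk x ≃ₗ[A] Abelian.Ext M (ModuleCat.of A A) (N - 1) := φ.toLinearEquiv fun s w => hφ s w
  exact nonempty_equiv_of_ext_gorenstein hσ hd hA (by omega : 1 + (N - 1) = N) _
    (j.trans (LinearEquiv.ofBijective ψ hψ))

end

end Groth.Agent.CanonDual
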