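import Groth.Agent.CanonDual.Subcurve
import Groth.Agent.CanonDual.Gor
import Groth.Agent.NodalLib.Gor
import Groth.Agent.FBaseLib.Basic
import Groth.Agent.HTopAwn.SchemeProps
import Groth.Agent.CurveGenusCmp.OneDim
import Groth.Agent.PnCoh.PushNat

/-!
# Nodal curves: the dualizing module on components
-/

set_option autoImplicit false
set_option linter.style.haveILetI false
set_option linter.unusedSectionVars false
set_option backward.isDefEq.respectTransparency false
set_option backward.isDefEq.respectTransparency.types false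

universe u

open CategoryTheory CategoryTheory.Limits AlgebraicGeometry TopologicalSpace Opposite

attribute [local instance] HasDerivedCategory.standard

noncomputable section

namespace Groth.Agent.CanonDual

open Groth.Agent

/-- On a reduced scheme the scheme-theoretic closure of an open is the reduced closure. -/
theorem ker_opens_ι {X : Scheme.{u}} [IsReduced X] [IsNoetherian X] (U : X.Opens) :
    U.ι.ker = Scheme.IdealSheafData.vanishingIdeal ⟨closure (U : Set X), isClosed_closure⟩ := by
  have hs : (U.ι.ker.support : Set X) = closure (U : Set X) := by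
    rw [Scheme.Hom.support_ker, Scheme.Opens.range_ι]
  refine le_antisymm (Scheme.IdealSheafData.le_support_iff_le_vanishingIdeal.1 (fun x hx => ?_)) ?_
  · show x ∈ (U.ι.ker.support : Set X)
    rw [hs]; exact hx
  · refine Scheme.IdealSheafData.le_ofIdeals_iff.2 fun W r hr => ?_
    rw [RingHom.mem_ker]
    refine (AlgebraicGeometry.basicOpen_eq_bot_iff (X := U.toScheme) _).1 (le_bot_iff.1 fun y hy => ?_)
    rw [← Scheme.preimage_basicOpen] at hy
    have hyW : U.ι y ∈ W.1 := X.basicOpen_le _ hy
    obtain ⟨p, hp⟩ : U.ι y ∈ Set.range W.2.fromSpec := by rw [W.2.range_fromSpec]; exact hyW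
    rw [Scheme.IdealSheafData.vanishingIdeal_ideal, PrimeSpectrum.mem_vanishingIdeal] at hr
    have hmem : r ∈ p.asIdeal := hr p (show W.2.fromSpec p ∈ closure (U : Set X) by
      rw [hp]; exact subset_closure y.2)
    have h2 : p ∈ W.2.fromSpec ⁻¹ᵁ X.basicOpen r := by
      show W.2.fromSpec p ∈ X.basicOpen r
      rw [hp]; exact hy
    rw [W.2.fromSpec_preimage_basicOpen] at h2
    exact absurd hmem h2

section

variable {k : Type u} [Field k] {X : Scheme.{u}} [X.Over (Spec (CommRingCat.of k))]
  [IsProper (X ↘ Spec (CommRingCat.of k))]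

variable (k) in
include k in
theorem isReduced_of_nodal (hdim : topologicalKrullDim X ≤ 1) (hX : Curv2.AtWorstNodal k X) : IsReduced X := by
  let gk := Spec.map (CommRingCat.ofHom (algebraMap k (AlgebraicClosure k)))
  haveI : Surjective (Curv2.bcFst k X (AlgebraicClosure k)) := by
    haveI : Surjective gk :=
      ⟨fun t => ⟨IsLocalRing.closedPoint (AlgebraicClosure k), Subsingleton.elim (α := PrimeSpectrum k) _ _⟩⟩
    exact MorphismProperty.pullback_fst _ _ inferInstance
  haveI : Flat (Curv2.bcFst k X (AlgebraicClosure k)) :=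
    MorphismProperty.pullback_fst (X ↘ Spec (CommRingCat.of k)) gk inferInstance
  haveI := NodalLib.isReduced_bc k X hdim hX
  exact FBaseLib.isReduced_of_flat_surjective (Curv2.bcFst k X (AlgebraicClosure k))

variable (k) in
include k in
theorem closedDimOne_of_h0 (hdim : topologicalKrullDim X = 1)
    (h0 : Module.finrank k (Coh.HH X (Coh.structureModule X) 0) = 1) : Proj16.ClosedDimOne X := by
  obtain ⟨hconn, -, -⟩ := CurveGenusCmp.oneDim_props k hdim h0
  haveI := hconn
  exact closedDimOne_of_connected k hdim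

/-- The dualizing module of a nodal curve is invertible. -/
theorem isInvertible_dualizing_nodal (hdim : topologicalKrullDim X = 1)
    (h0 : Module.finrank k (Coh.HH X (Coh.structureModule X) 0) = 1) (hX : Curv2.AtWorstNodal k X)
    {ω : X.Modules} {tr : Coh.HH X ω 1 →ₗ[k] k} (hω : Canon.IsRDualOver k X 1 ω tr) :
    PicF.IsInvertible ω :=
  isInvertible_dualizing hdim (fun x hx => ⟨NodalLib.gorenstein_stalk k X hdim.le hX x, by
    rw [closedDimOne_of_h0 k hdim h0 x hx]; rfl⟩) hω

/-- Adjunction for the dualizing module of a nodal curve. -/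
theorem deg_dualizingMod_restrict (hdim : topologicalKrullDim X = 1)
    (h0 : Module.finrank k (Coh.HH X (Coh.structureModule X) 0) = 1) (hX : Curv2.AtWorstNodal k X)
    [DCoh.HasRpush (X ↘ Spec (CommRingCat.of k))] (h : DCoh.RpushPreservesQCoh (X ↘ Spec (CommRingCat.of k)))
    [DCoh.HasShriek (X ↘ Spec (CommRingCat.of k)) h]
    (OY : DCoh.DQCoh (Spec (CommRingCat.of k)))
    (hOY : Nonempty (OY.obj ≅ DCoh.inD (Spec (CommRingCat.of k)) (Coh.structureModule (Spec (CommRingCat.of k)))))
    (J : X.IdealSheafData) [IsReduced J.subscheme] [ConnectedSpace J.subscheme]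
    (hJ1 : topologicalKrullDim J.subscheme = 1) :
    @Curv2.deg k _ J.subscheme ⟨J.subschemeι ≫ (X ↘ Spec (CommRingCat.of k))⟩
        ((Scheme.Modules.pullback J.subschemeι).obj (DCoh.dualizingMod (X ↘ Spec (CommRingCat.of k)) h OY 1)) 1 =
      -2 * @Curv2.euler k _ J.subscheme ⟨J.subschemeι ≫ (X ↘ Spec (CommRingCat.of k))⟩
          (Coh.structureModule J.subscheme) +
        (Module.finrank k (Coh.HH X (ClSub.quotMod (J ⊔ compl J)) 0) : ℤ) := by
  haveI := isReduced_of_nodal k hdim.le hX
  obtain ⟨tr, hω⟩ := exists_isRDualOver_dualizingMod h OY hOY (d := 1)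
    (fun M hM q hq => subsingleton_HH_curve k hdim.le hM hq)
  letI : J.subscheme.Over (Spec (CommRingCat.of k)) := ⟨J.subschemeι ≫ (X ↘ Spec (CommRingCat.of k))⟩
  haveI : IsProper (J.subscheme ↘ Spec (CommRingCat.of k)) := inferInstanceAs (IsProper (J.subschemeι ≫ _))
  exact deg_dualizing_restrict hdim (closedDimOne_of_h0 k hdim h0) hω
    (isInvertible_dualizing_nodal hdim h0 hX hω) J hJ1 (closedDimOne_of_connected k hJ1)

variable (k) in
include k in
/-- The complementary subcurve of a component, as used for rational tails and bridges. -/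
theorem compl_component [IsReduced X] (C : Set X) (hC : IsClosed C) :
    (Scheme.Opens.ι (⟨Cᶜ, hC.isOpen_compl⟩ : X.Opens)).ker =
      compl (Scheme.IdealSheafData.vanishingIdeal ⟨C, hC⟩) := by
  haveI : IsLocallyNoetherian X := LocallyOfFiniteType.isLocallyNoetherian (X ↘ Spec (CommRingCat.of k))
  haveI : CompactSpace X := QuasiCompact.compactSpace_of_compactSpace (X ↘ Spec (CommRingCat.of k))
  haveI : IsNoetherian X := { __ := ‹IsLocallyNoetherian X›, __ := ‹CompactSpace X› }
  rw [ker_opens_ι]
  unfold compl
  simp only [Scheme.IdealSheafData.coe_support_vanishingIdeal]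
  rfl

theorem finrank_HH_quotMod (I : X.IdealSheafData) (n : ℕ) :
    Module.finrank k (Coh.HH X (ClSub.quotMod I) n) =
      @Module.finrank k (Coh.HH I.subscheme (Coh.structureModule I.subscheme) n) _ _
        (@Coh.moduleOver k _ I.subscheme ⟨I.subschemeι ≫ (X ↘ Spec (CommRingCat.of k))⟩ _ _) := by
  letI : I.subscheme.Over (Spec (CommRingCat.of k)) := ⟨I.subschemeι ≫ (X ↘ Spec (CommRingCat.of k))⟩
  obtain ⟨e⟩ := PnCoh.exists_linearEquiv_push k I.subschemeι rfl
    (QCoh.isQCoh_structureModule (X := I.subscheme)) n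
  exact e.finrank_eq.symm

end

/-- Global functions restrict bijectively to a reduced point carrying all of them. -/
theorem bijective_appTop_point {P C : Scheme.{u}} (i : P ⟶ C) [IsClosedImmersion i] [Subsingleton P]
    [IsReduced P] (c : P) (h : Function.Bijective (C.Γevaluation (i c))) : Function.Bijective i.appTop := by
  have hres : Function.Bijective (i.residueFieldMap c) :=
    ⟨RingHom.injective _, HTopAwn.surjective_residueFieldMap_of_isClosedImmersion i c⟩
  have hcomp : ∀ g, P.Γevaluation c (i.appTop g) = i.residueFieldMap c (C.Γevaluation (i c) g) := fun g =>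
    (congr($(Scheme.Γevaluation_naturality i c) g)).symm
  have hinj : Function.Injective (P.Γevaluation c) := by
    refine (injective_iff_map_eq_zero _).2 fun g hg => ?_
    refine (AlgebraicGeometry.basicOpen_eq_bot_iff (X := P) g).1 (le_bot_iff.1 fun y hy => ?_)
    obtain rfl : y = c := Subsingleton.elim _ _
    exact absurd hg ((P.evaluation_ne_zero_iff_mem_basicOpen (U := ⊤) y trivial g).2 hy)
  constructor
  · intro a b hab
    refine h.1 (hres.1 ?_)
    rw [← hcomp, ← hcomp, hab]
  · intro g
    obtain ⟨z, hz⟩ := hres.2 (P.Γevaluation c g)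
    obtain ⟨a, rfl⟩ := h.2 z
    exact ⟨a, hinj ((hcomp a).trans hz)⟩

/-- `H⁰(C, O) = H⁰(P, O)` for such a point. -/
theorem finrank_H0_point (k : Type u) [Field k] {P C : Scheme.{u}} [C.Over (Spec (CommRingCat.of k))]
    [P.Over (Spec (CommRingCat.of k))] (i : P ⟶ C) [IsClosedImmersion i]
    (hi : i ≫ (C ↘ Spec (CommRingCat.of k)) = P ↘ Spec (CommRingCat.of k))
    (h : Function.Bijective i.appTop) :
    Module.finrank k (Coh.HH P (Coh.structureModule P) 0) =
      Module.finrank k (Coh.HH C (Coh.structureModule C) 0) := by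
  obtain ⟨e⟩ := PnCoh.exists_linearEquiv_push k i hi (QCoh.isQCoh_structureModule (X := P)) 0
  rw [e.finrank_eq]
  refine (LinearEquiv.finrank_eq (LinearEquiv.ofBijective (Canon.HHlin k (ClSub.unitToPush i) 0) ?_)).symm
  let e₁ := Sheaf.H.equiv₀ (Coh.toAb (Coh.structureModule C)) isTerminalTop
  let e₂ := Sheaf.H.equiv₀ (Coh.toAb ((Coh.push i).obj (Coh.structureModule P))) isTerminalTop
  have key : ∀ x, e₂ (Canon.HHlin k (ClSub.unitToPush i) 0 x) = i.appTop (e₁ x) := fun x =>
    (Sheaf.H.equiv₀_naturality isTerminalTop ((QCoh.toAbFunctor C).map (ClSub.unitToPush i)) x).symm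
  exact (Function.Bijective.of_comp_iff' e₂.bijective _).1 (by
    rw [show (⇑e₂ ∘ ⇑(Canon.HHlin k (ClSub.unitToPush i) 0)) = i.appTop ∘ e₁ from funext key]
    exact h.comp e₁.bijective)

end Groth.Agent.CanonDual

namespace Groth.Agent.CanonDual

open Groth.Agent

/-- The reduced subscheme on an irreducible component of a one-dimensional equidimensional scheme. -/
theorem component_props {X : Scheme.{u}}
    (hequi : ∀ Z ∈ irreducibleComponents (X : Type u), topologicalKrullDim Z = 1)
    (C : Set X) (hC : C ∈ irreducibleComponents (X : Type u)) :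
    ConnectedSpace (Scheme.IdealSheafData.vanishingIdeal ⟨C, isClosed_of_mem_irreducibleComponents C hC⟩).subscheme ∧
      topologicalKrullDim
        (Scheme.IdealSheafData.vanishingIdeal ⟨C, isClosed_of_mem_irreducibleComponents C hC⟩).subscheme = 1 := by
  let i := (Scheme.IdealSheafData.vanishingIdeal ⟨C, isClosed_of_mem_irreducibleComponents C hC⟩).subschemeι
  let e : _ ≃ₜ C := i.isClosedEmbedding.isEmbedding.toHomeomorph.trans
    (Homeomorph.setCongr (H23.RedSub.range_vanishingIdeal _))
  refine ⟨?_, (e.isHomeomorph.topologicalKrullDim_eq).trans (hequi C hC)⟩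
  haveI : ConnectedSpace C := isConnected_iff_connectedSpace.1 hC.1.isConnected
  exact e.symm.surjective.connectedSpace e.symm.continuous

end Groth.Agent.CanonDual
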