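import Groth.Agent.CanonDual.GGCrit
import Groth.Agent.CanonDual.DegSub
import Groth.Agent.CanonDual.Nodal
import Groth.Agent.AmpleDev.Nef
import Groth.Prelude

/-!
# Degrees of balanced modules on Gorenstein curves
-/

set_option autoImplicit false
set_option linter.style.haveILetI false
set_option backward.isDefEq.respectTransparency false
set_option backward.isDefEq.respectTransparency.types false

universe u

open CategoryTheory CategoryTheory.Limits AlgebraicGeometry TopologicalSpace
attribute [local instance] HasDerivedCategory.standard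
open Curves

namespace Groth.Agent.CanonDual

variable (k : Type u) [Field k] {X : Scheme.{u}} [X.Over (Spec (CommRingCat.of k))]
  [IsProper (X ↘ Spec (CommRingCat.of k))]

/-- The numbers of a connected subcurve. -/
theorem subcurve_numbers [IsAlgClosed k] [IsReduced X] [ConnectedSpace X] (hdim : topologicalKrullDim X = 1)
    {ω : X.Modules} {tr : Coh.HH X ω 1 →ₗ[k] k} (hω : Canon.IsRDualOver k X 1 ω tr) (hinv : PicF.IsInvertible ω)
    {L : X.Modules} (hL : PicF.IsInvertible L)
    (J : X.IdealSheafData) [IsReduced J.subscheme] [ConnectedSpace J.subscheme]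
    (hJ : topologicalKrullDim J.subscheme = 1) :
    @Curv2.deg k _ J.subscheme ⟨J.subschemeι ≫ (X ↘ Spec (CommRingCat.of k))⟩
        ((Scheme.Modules.pullback J.subschemeι).obj ω) 1 =
      2 * (@Curv2.genus k _ J.subscheme ⟨J.subschemeι ≫ (X ↘ Spec (CommRingCat.of k))⟩ : ℤ) - 2 +
        (Module.finrank k (Coh.HH X (ClSub.quotMod (J ⊔ compl J)) 0) : ℤ) ∧
    (Module.finrank k (Coh.HH X (ClSub.quotMod (J ⊔ compl J)) 0) = 0 →
      @Curv2.deg k _ J.subscheme ⟨J.subschemeι ≫ (X ↘ Spec (CommRingCat.of k))⟩
          ((Scheme.Modules.pullback J.subschemeι).obj ω) 1 = 2 * (Curv2.genus k X : ℤ) - 2 ∧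
      @Curv2.deg k _ J.subscheme ⟨J.subschemeι ≫ (X ↘ Spec (CommRingCat.of k))⟩
          ((Scheme.Modules.pullback J.subschemeι).obj L) 1 = Curv2.deg k X L 1) := by
  letI : J.subscheme.Over (Spec (CommRingCat.of k)) := ⟨J.subschemeι ≫ (X ↘ Spec (CommRingCat.of k))⟩
  haveI : IsProper (J.subscheme ↘ Spec (CommRingCat.of k)) :=
    inferInstanceAs (IsProper (J.subschemeι ≫ (X ↘ Spec (CommRingCat.of k))))
  obtain ⟨he, h0⟩ := deg_dualizing_subcurve (k := k) hdim hω hinv J hJ
  refine ⟨?_, fun hz => ⟨h0 hz, ?_⟩⟩
  · rw [he, euler_two hJ.le QCoh.isQCoh_structureModule, SurfRR.finrank_h0_reduced k]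
    unfold Curv2.genus
    push_cast
    ring
  have huniv := support_eq_univ_of_inter_zero (k := k) J hz
  have h1 := deg_pullback_eq k J.subschemeι (S := (⊤ : Closeds X)) (by rw [J.range_subschemeι, huniv]; rfl) hL
  have h2 := deg_pullback_eq k (𝟙 X) (S := (⊤ : Closeds X)) (by simp) hL
  refine (h1.trans h2.symm).trans ?_
  rw [show (⟨𝟙 X ≫ (X ↘ Spec (CommRingCat.of k))⟩ : X.Over (Spec (CommRingCat.of k))) = ‹X.Over (Spec (CommRingCat.of k))› from by
    simp only [Category.id_comp]; rfl]
  unfold Curv2.deg
  rw [Euler.euler_congr k ((Scheme.Modules.pullbackId X).app L)]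
  rfl

/-- An ample module has positive degree on every subcurve. -/
theorem deg_pos_restrict_of_ample {L : X.Modules} (hamp : CohB1.IsAmple L) (J : X.IdealSheafData)
    (hJ : topologicalKrullDim J.subscheme = 1) :
    0 < @Curv2.deg k _ J.subscheme ⟨J.subschemeι ≫ (X ↘ Spec (CommRingCat.of k))⟩
      ((Scheme.Modules.pullback J.subschemeι).obj L) 1 := by
  letI : J.subscheme.Over (Spec (CommRingCat.of k)) := ⟨J.subschemeι ≫ (X ↘ Spec (CommRingCat.of k))⟩
  haveI : IsProper (J.subscheme ↘ Spec (CommRingCat.of k)) :=
    inferInstanceAs (IsProper (J.subschemeι ≫ (X ↘ Spec (CommRingCat.of k))))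
  exact deg_pos_of_ample k hJ (AmpleDev.isAmple_pullback_finite k J.subschemeι hamp)

/-- A curve with an ample module of degree one is irreducible. -/
theorem irreducibleSpace_of_deg_one (hdim : topologicalKrullDim X = 1) (hX : Proj16.ClosedDimOne X) {L : X.Modules}
    (hamp : CohB1.IsAmple L) (hd : Curv2.deg k X L 1 = 1) : IrreducibleSpace X := by
  classical
  haveI := CurveCohLib.isNoetherian_of_proper (k := k) (X := X)
  haveI : Finite (irreducibleComponents (X : Type u)) :=
    (NoetherianSpace.finite_irreducibleComponents).to_subtype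
  letI := Fintype.ofFinite (irreducibleComponents (X : Type u))
  have hsum := CurveFinMap.deg_eq_sum k hdim.le (InvEnd.isFinLocFreeOfRank_one hamp.1)
  rw [finsum_eq_sum_of_fintype, hd] at hsum
  have hterm : ∀ C : irreducibleComponents (X : Type u),
      (1 : ℤ) ≤ (if topologicalKrullDim (C.1 : Set X) = 1 then
        ((Module.length (X.presheaf.stalk (CurveFinMap.gpt C)) (X.presheaf.stalk (CurveFinMap.gpt C))).toNat : ℤ) *
          @Curv2.deg k _ (X.irreducibleComponentIdeal C.1 C.2).radical.subscheme
            ⟨(X.irreducibleComponentIdeal C.1 C.2).radical.subschemeι ≫ (X ↘ Spec (CommRingCat.of k))⟩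
            ((Scheme.Modules.pullback (X.irreducibleComponentIdeal C.1 C.2).radical.subschemeι).obj L) 1
        else 0) := by
    intro C
    have hC1 : topologicalKrullDim (C.1 : Set X) = 1 := by exact_mod_cast components_dim_one k hX C.1 C.2
    rw [if_pos hC1]
    have hlen : 0 < (Module.length (X.presheaf.stalk (CurveFinMap.gpt C)) (X.presheaf.stalk (CurveFinMap.gpt C))).toNat := by
      have hfin : Module.length (X.presheaf.stalk (CurveFinMap.gpt C)) ((Coh.structureModule X).presheaf.stalk (CurveFinMap.gpt C)) < ⊤ :=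
        CycLib.length_stalk_lt_top _ (QCoh.isCoh_structureModule' (X := X)) fun y _ hy =>
          CurveFinMap.eq_of_specializes_generic C.2 (CurveFinMap.isGenericPoint_gpt C) hy
      rw [H23.ClosedPushLen.length_structureModule] at hfin
      rw [Nat.pos_iff_ne_zero, ne_eq, ENat.toNat_eq_zero, not_or]
      exact ⟨fun h => not_subsingleton (X.presheaf.stalk (CurveFinMap.gpt C)) (Module.length_eq_zero_iff.1 h), hfin.ne⟩
    have hdim' : topologicalKrullDim (X.irreducibleComponentIdeal C.1 C.2).radical.subscheme = 1 := by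
      rw [AmpleDev.dim_subscheme (k := k)]
      exact_mod_cast hC1
    have hpos := deg_pos_restrict_of_ample k hamp _ hdim'
    exact one_le_mul_of_one_le_of_one_le (by exact_mod_cast hlen) (Int.add_one_le_iff.2 hpos)
  have hcard : Fintype.card (irreducibleComponents (X : Type u)) ≤ 1 := by
    have h1 := Finset.sum_le_sum (s := Finset.univ) fun C _ => hterm C
    rw [← hsum, Finset.sum_const, Finset.card_univ, nsmul_eq_mul, mul_one] at h1
    exact_mod_cast h1
  haveI := Fintype.card_le_one_iff_subsingleton.1 hcard
  have hne : Nonempty X := by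
    by_contra hne
    rw [not_nonempty_iff] at hne
    have h0 : topologicalKrullDim X ≤ 0 := topologicalKrullDim_zero_of_discreteTopology X
    rw [hdim] at h0
    exact absurd h0 (by norm_num)
  obtain ⟨x⟩ := hne
  have huniv : (Set.univ : Set X) = irreducibleComponent x := by
    refine (Set.eq_univ_of_forall fun y => ?_).symm
    have : (⟨irreducibleComponent y, irreducibleComponent_mem_irreducibleComponents y⟩ : irreducibleComponents (X : Type u)) =
        ⟨irreducibleComponent x, irreducibleComponent_mem_irreducibleComponents x⟩ := Subsingleton.elim _ _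
    have h2 : irreducibleComponent y = irreducibleComponent x := congrArg Subtype.val this
    exact h2 ▸ mem_irreducibleComponent
  have hirr : IsIrreducible (Set.univ : Set X) := huniv ▸ isIrreducible_irreducibleComponent
  haveI : PreirreducibleSpace X := ⟨hirr.2⟩
  exact ⟨⟨x⟩⟩

end Groth.Agent.CanonDual
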