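import Groth.Agent.CanonDual.H1Crit
import Groth.Agent.CanonDual.Nodal
import Groth.Agent.CurveCohLib.GlobGen
import Groth.Agent.Lib.CurvePsi
import Groth.Agent.HilbSnap.Basic
import Groth.Agent.SurfRR.Connected

/-! Global generation by degrees on subcurves of a reduced curve. -/

set_option autoImplicit false
set_option linter.style.haveILetI false
set_option linter.unusedSectionVars false
set_option backward.isDefEq.respectTransparency false
set_option backward.isDefEq.respectTransparency.types false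

universe u

open CategoryTheory CategoryTheory.Limits AlgebraicGeometry TopologicalSpace Opposite
open Groth.Agent.PnCoh.Finite (mapLin deltaLin)

noncomputable section

namespace Groth.Agent.CanonDual

open Groth.Agent

variable {k : Type u} [Field k] {X : Scheme.{u}} [X.Over (Spec (CommRingCat.of k))]
  [IsProper (X ↘ Spec (CommRingCat.of k))]

variable (k) in
include k in
/-- Global generation from sections not vanishing at closed points. -/
theorem isGloballyGenerated_of_point_sections {L : X.Modules} (hL : PicF.IsInvertible L)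
    (h : ∀ (x : X) (hx : IsClosed ({x} : Set X)),
      ∃ t, mapLin k ((DCoh.tensorBi.obj L).map (ClSub.toSubscheme (Scheme.IdealSheafData.vanishingIdeal ⟨{x}, hx⟩))) 0 t ≠ 0) :
    Curv2.IsGloballyGenerated L := by
  haveI := CurveCohLib.isNoetherian_of_proper (k := k) (X := X)
  have hL1 := InvEnd.isFinLocFreeOfRank_one hL
  have hLf : FlatMod.IsFinLocFree L := fun y => let ⟨W, hy, he⟩ := hL1 y; ⟨W, 1, hy, he⟩
  let M := (DCoh.tensorBi.obj L).obj (Coh.structureModule X)
  have hMc : Coh.IsCoh M := CurveTensor.isCoh_tensor hLf QCoh.isCoh_structureModule'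
  let e : M ≅ L := KFlatLib.tensorUnitIso L
  suffices hGG : Euler.GG M by
    refine Euler.GG.isGloballyGenerated (fun T g hg => ?_)
    have := hGG T (e.hom ≫ g) fun s => by simpa using hg (s ≫ e.hom)
    rw [← cancel_epi e.hom, this, Limits.comp_zero]
  refine CurveCohLib.GlobGen.gg_of_span fun y => ?_
  obtain ⟨x, hyx, hx⟩ := IsClosed.exists_closed_singleton (isClosed_closure (s := ({y} : Set X)))
    (Set.singleton_nonempty y).closure
  set Z := Scheme.IdealSheafData.vanishingIdeal ⟨{x}, hx⟩ with hZdef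
  have hsupp : (Z.support : Set X) = {x} := by
    rw [hZdef]
    simp [Scheme.IdealSheafData.coe_support_vanishingIdeal, hx.closure_eq]
  obtain ⟨t, ht⟩ := h x hx
  let T : Γ(M, ⊤) := Sheaf.H.equiv₀ (Coh.toAb M) isTerminalTop t
  let π := ((DerSch.stalkFunctor X x).map ((DCoh.tensorBi.obj L).map (ClSub.toSubscheme Z))).hom
  have hπ : π (M.presheaf.germ ⊤ x trivial T) ≠ 0 := by
    intro h0
    refine ht ((Sheaf.H.equiv₀ (Coh.toAb ((DCoh.tensorBi.obj L).obj (ClSub.quotMod Z))) isTerminalTop).injective ?_)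
    rw [map_zero]
    refine (Sheaf.H.equiv₀_naturality isTerminalTop ((QCoh.toAbFunctor X).map ((DCoh.tensorBi.obj L).map (ClSub.toSubscheme Z))) t).symm.trans ?_
    refine TopCat.Presheaf.section_ext ⟨((DCoh.tensorBi.obj L).obj (ClSub.quotMod Z)).presheaf, ((DCoh.tensorBi.obj L).obj (ClSub.quotMod Z)).isSheaf⟩ ⊤ _ _ fun z _ => ?_
    change ((DCoh.tensorBi.obj L).obj (ClSub.quotMod Z)).presheaf.germ ⊤ z trivial
      (((DCoh.tensorBi.obj L).map (ClSub.toSubscheme Z)).app ⊤ T) = ((DCoh.tensorBi.obj L).obj (ClSub.quotMod Z)).presheaf.germ ⊤ z trivial 0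
    rw [map_zero]
    by_cases hz : z = x
    · subst hz
      exact (TopCat.Presheaf.stalkFunctor_map_germ_apply ⊤ _ trivial ((Scheme.Modules.toPresheaf X).map ((DCoh.tensorBi.obj L).map (ClSub.toSubscheme Z))) T).symm.trans h0
    · refine CurveCohLib.germ_eq_zero_of_notMem_support (U := ⊤) _ trivial fun hs => ?_
      have hz' : z ∈ (Z.support : Set X) :=
        not_not.1 fun h => (CurveTensor.support_tensor_subset hs) (ParShLib.subsingleton_stalk_quotMod Z h)
      rw [hsupp] at hz'
      exact hz hz'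
  obtain ⟨b⟩ := CurveTensor.exists_basis_stalk (InvEnd.isFinLocFreeOfRank_one (InvX.isInvertible_tensorMod hL CurveDeg.isInvertible_structureModule : PicF.IsInvertible M)) x
  set m := M.presheaf.germ ⊤ x trivial T with hm
  have hmb : m = b.repr m 0 • b 0 := by
    conv_lhs => rw [← b.sum_repr m]
    simp
  have hu : IsUnit (b.repr m 0) := IsLocalRing.notMem_maximalIdeal.1 fun ha => hπ (by
    rw [hmb, map_smul]
    exact CurveCohLib.GlobGen.smul_stalk_twist_eq_zero L hx ha _)
  let φ : Coh.structureModule X ⟶ M := QCoh.homOfTop T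
  have hone : ∀ z : X, ((DerSch.stalkFunctor X z).map φ).hom
      ((Coh.structureModule X).presheaf.germ ⊤ z trivial (1 : Γ(X, ⊤))) = M.presheaf.germ ⊤ z trivial T := fun z => by
    refine (TopCat.Presheaf.stalkFunctor_map_germ_apply ⊤ z trivial ((Scheme.Modules.toPresheaf X).map φ) (1 : Γ(X, ⊤))).trans ?_
    refine congrArg (M.presheaf.germ ⊤ z trivial) ?_
    change (QCoh.homOfTop T).app ⊤ (1 : Γ(X, ⊤)) = T
    rw [QCoh.homOfTop_app, one_smul]
    exact ConcreteCategory.congr_hom (M.presheaf.map_id _) T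
  have hQ : Coh.IsCoh (cokernel φ) := QCoh.isCoh_cokernel QCoh.isQCoh_structureModule hMc φ
  let F := DerSch.stalkFunctor X x
  haveI : Epi (F.map φ) := by
    refine (ModuleCat.epi_iff_surjective _).2 fun v => ?_
    obtain ⟨u, hu⟩ := hu
    refine ⟨(b.repr v 0 * ↑u⁻¹) • (Coh.structureModule X).presheaf.germ ⊤ x trivial (1 : Γ(X, ⊤)), ?_⟩
    rw [map_smul, hone x, ← hm, hmb, ← hu, smul_smul, mul_assoc, Units.inv_mul, mul_one]
    conv_rhs => rw [← b.sum_repr v]
    simp
  have hxQ : x ∉ CohB1.support (cokernel φ) := fun hne =>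
    hne (ModuleCat.subsingleton_of_isZero
      ((isZero_cokernel_of_epi (F.map φ)).of_iso (PreservesCokernel.iso F φ)))
  have hyQ : y ∉ CohB1.support (cokernel φ) := fun hy =>
    hxQ ((QCoh.isClosed_support_of_isFT hQ.1 hQ.2).closure_subset_iff.2 (Set.singleton_subset_iff.2 hy) hyx)
  let G := DerSch.stalkFunctor X y
  haveI : Epi (G.map φ) := by
    haveI : Subsingleton (G.obj (cokernel φ)) := not_not.1 hyQ
    exact Preadditive.epi_of_isZero_cokernel _
      ((ModuleCat.isZero_of_subsingleton (G.obj (cokernel φ))).of_iso (PreservesCokernel.iso G φ).symm)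
  refine eq_top_iff.2 fun v _ => ?_
  obtain ⟨w, rfl⟩ := (ModuleCat.epi_iff_surjective (G.map φ)).1 inferInstance v
  obtain ⟨a, rfl⟩ := CurveCohLib.GlobGen.exists_smul_one y w
  rw [map_smul]
  exact Submodule.smul_mem _ a (Submodule.subset_span ⟨T, (hone y).symm⟩)

variable (k) in
include k in
/-- Global generation from vanishing of `H¹` of the twists at closed points. -/
theorem isGloballyGenerated_of_twist {L : X.Modules} (hL : PicF.IsInvertible L)
    (h1 : ∀ (x : X) (hx : IsClosed ({x} : Set X)),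
      Subsingleton (Coh.HH X (CurveCohLib.Nonspecial.twist (Scheme.IdealSheafData.vanishingIdeal ⟨{x}, hx⟩) L) 1)) :
    Curv2.IsGloballyGenerated L := by
  refine isGloballyGenerated_of_point_sections k hL fun x hx => ?_
  haveI := CurveCohLib.isNoetherian_of_proper (k := k) (X := X)
  have hL1 := InvEnd.isFinLocFreeOfRank_one hL
  have hLf : FlatMod.IsFinLocFree L := fun y => let ⟨W, hy, he⟩ := hL1 y; ⟨W, 1, hy, he⟩
  set Z := Scheme.IdealSheafData.vanishingIdeal ⟨{x}, hx⟩ with hZdef
  have hsupp : (Z.support : Set X) = {x} := by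
    rw [hZdef]
    simp [Scheme.IdealSheafData.coe_support_vanishingIdeal, hx.closure_eq]
  haveI := epi_toSubscheme Z
  have hS0 : (ShortComplex.mk (ClSub.idealModι Z) (ClSub.toSubscheme Z) (kernel.condition _)).ShortExact :=
    CurveSlope.shortExact_kernel_of_epi _
  have hS := CurveTensor.shortExact_tensor hLf _ _ _ hS0
  let C := (DCoh.tensorBi.obj L).obj (ClSub.quotMod Z)
  have hCc : Coh.IsCoh C := CurveTensor.isCoh_tensor hLf (ParShLib.isCoh_quotMod Z)
  have hCs : CohB1.support C ⊆ {x} := fun y hy => by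
    rw [← hsupp]
    exact not_not.1 fun h => (CurveTensor.support_tensor_subset hy) (ParShLib.subsingleton_stalk_quotMod Z h)
  obtain ⟨e, -⟩ := CurveCohLib.exists_h0Equiv (k := k) hCc
    (fun y hy => Set.mem_singleton_iff.1 (hCs hy) ▸ hx) {x} (by simpa using hCs)
  obtain ⟨b⟩ := CurveTensor.exists_basis_stalk hL1 x
  haveI : Nontrivial (C.presheaf.stalk x) := by
    haveI : Nontrivial ((DerSch.stalkFunctor X x).obj (ClSub.quotMod Z)) :=
      not_subsingleton_iff_nontrivial.1
        (CurveCohLib.GlobGen.nontrivial_stalk_quotMod Z (show x ∈ (Z.support : Set X) by rw [hsupp]; rfl))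
    let e₁ := ((KFlatLib.stalkTensorLeftIso L x).app (ClSub.quotMod Z)).toLinearEquiv
    let e₂ := (TensorProduct.congr (b.equivFun ≪≫ₗ LinearEquiv.funUnique (Fin 1) _ _)
      (LinearEquiv.refl (X.presheaf.stalk x) ((DerSch.stalkFunctor X x).obj (ClSub.quotMod Z)))) ≪≫ₗ
      TensorProduct.lid _ _
    exact (e₁.toEquiv.trans e₂.toEquiv).nontrivial
  obtain ⟨v, hv⟩ := exists_ne (0 : C.presheaf.stalk x)
  have hc : e.symm (Pi.single (⟨x, Finset.mem_singleton_self x⟩ : ({x} : Finset X)) v) ≠ 0 := by
    rw [ne_eq, LinearEquiv.map_eq_zero_iff, Pi.single_eq_zero_iff]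
    exact hv
  haveI := h1 x hx
  obtain ⟨t, ht⟩ := (CurveCohLib.ker_deltaLin k hS 0).le
    (LinearMap.mem_ker.2 (Subsingleton.elim (deltaLin k hS 0 (e.symm (Pi.single (⟨x, Finset.mem_singleton_self x⟩ : ({x} : Finset X)) v))) 0))
  exact ⟨t, fun h0 => hc (ht.symm.trans h0)⟩

variable (k) in
include k in
/-- A reduced point contributes at most one function. -/
theorem finrank_point_sup_le [IsAlgClosed k] (x : X) (hx : IsClosed ({x} : Set X)) (J : X.IdealSheafData) :
    Module.finrank k (Coh.HH X (ClSub.quotMod (Scheme.IdealSheafData.vanishingIdeal ⟨{x}, hx⟩ ⊔ J)) 0) ≤ 1 := by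
  set Z := Scheme.IdealSheafData.vanishingIdeal ⟨{x}, hx⟩ with hZdef
  have hsupp : (Z.support : Set X) = {x} := by
    rw [hZdef]
    simp [Scheme.IdealSheafData.coe_support_vanishingIdeal, hx.closure_eq]
  by_cases hxJ : x ∈ J.support
  · rw [sup_of_le_left (Scheme.IdealSheafData.le_support_iff_le_vanishingIdeal.1
      (show (⟨{x}, hx⟩ : Closeds X) ≤ J.support from Set.singleton_subset_iff.2 hxJ))]
    rw [finrank_HH_quotMod]
    letI : Z.subscheme.Over (Spec (CommRingCat.of k)) := ⟨Z.subschemeι ≫ (X ↘ Spec (CommRingCat.of k))⟩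
    haveI : IsProper (Z.subscheme ↘ Spec (CommRingCat.of k)) :=
      inferInstanceAs (IsProper (Z.subschemeι ≫ (X ↘ Spec (CommRingCat.of k))))
    haveI : IsReduced Z.subscheme := H23.RedSub.isReduced_vanishingIdeal _
    haveI : ConnectedSpace Z.subscheme := by
      let e : Z.subscheme ≃ₜ ({x} : Set X) := Z.subschemeι.isEmbedding.toHomeomorph.trans
        (Homeomorph.setCongr (Z.range_subschemeι.trans hsupp))
      exact e.symm.surjective.connectedSpace e.symm.continuous
    exact (SurfRR.finrank_h0_reduced k).le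
  · rw [CurveCohLib.finrank_HH_zero_eq_zero_of_isZero
      (CurveCohLib.isZero_of_subsingleton_stalks fun y => ParShLib.subsingleton_stalk_quotMod _ fun hy => ?_)]
    · exact zero_le_one
    · rw [Scheme.IdealSheafData.support_sup] at hy
      exact hxJ ((Set.mem_singleton_iff.1 (hsupp.subset hy.1)) ▸ hy.2)

/-- Global generation from degrees on subcurves. -/
theorem isGloballyGenerated_of_subcurves [IsAlgClosed k] [IsReduced X] (hdim : topologicalKrullDim X = 1)
    (hX : Proj16.ClosedDimOne X) {L : X.Modules} (hL : PicF.IsInvertible L)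
    (hdeg : ∀ J : X.IdealSheafData, IsReduced J.subscheme → ConnectedSpace J.subscheme →
      topologicalKrullDim J.subscheme = 1 →
      -2 * @Curv2.euler k _ J.subscheme ⟨J.subschemeι ≫ (X ↘ Spec (CommRingCat.of k))⟩
          (Coh.structureModule J.subscheme) + 1 <
        @Curv2.deg k _ J.subscheme ⟨J.subschemeι ≫ (X ↘ Spec (CommRingCat.of k))⟩
          ((Scheme.Modules.pullback J.subschemeι).obj L) 1) :
    Subsingleton (Coh.HH X L 1) ∧ Curv2.IsGloballyGenerated L := by
  refine ⟨subsingleton_H1_of_subcurves hdim hX hL fun J h₁ h₂ h₃ => lt_trans (lt_add_one _) (hdeg J h₁ h₂ h₃),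
    isGloballyGenerated_of_twist k hL fun x hx => ?_⟩
  rw [← not_nontrivial_iff_subsingleton]
  intro h1
  obtain ⟨N, ι, hι, hιf⟩ := exists_embedding (k := k) hdim.le
  haveI := hι
  obtain ⟨ω, tr, -, hω⟩ := exists_isCoh_isRDualOver k N 1 X ι hιf (by exact_mod_cast hdim.le)
  have hdim0 : topologicalKrullDim ((Scheme.IdealSheafData.vanishingIdeal ⟨{x}, hx⟩).support : Set X) ≤ 0 := by
    rw [Scheme.IdealSheafData.coe_support_vanishingIdeal]
    change topologicalKrullDim ({x} : Set X) ≤ 0
    haveI : Subsingleton (IrreducibleCloseds ({x} : Set X)) := ⟨fun A B => by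
      refine SetLike.coe_injective ?_
      haveI : Subsingleton ({x} : Set X) := Set.subsingleton_singleton.coe_sort
      exact (Set.subsingleton_of_subsingleton.eq_singleton_of_mem A.isIrreducible.nonempty.some_mem).trans
        (by
          rw [Subsingleton.elim A.isIrreducible.nonempty.some B.isIrreducible.nonempty.some]
          exact (Set.subsingleton_of_subsingleton.eq_singleton_of_mem B.isIrreducible.nonempty.some_mem).symm)⟩
    exact Order.krullDim_nonpos_of_subsingleton
  obtain ⟨J, h₁, h₂, h₃, h₄⟩ := exists_subcurve_deg_le hdim hX hω hL _ hdim0 h1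
  have := hdeg J h₁ h₂ h₃
  have hc : (Module.finrank k (Coh.HH X (ClSub.quotMod (Scheme.IdealSheafData.vanishingIdeal ⟨{x}, hx⟩ ⊔ J)) 0) : ℤ) ≤ 1 := by
    exact_mod_cast finrank_point_sup_le k x hx J
  linarith

/-- Degree is multiplicative on tensor powers. -/
theorem deg_tensorPow (hdim : topologicalKrullDim X ≤ 1) {A : X.Modules} (hA : PicF.IsInvertible A) :
    ∀ m : ℕ, Curv2.deg k X (CohB1.tensorPow A m) 1 = m * Curv2.deg k X A 1
  | 0 => by
    show Curv2.euler k X (Coh.structureModule X) - ((1 : ℕ) : ℤ) * Curv2.euler k X (Coh.structureModule X) = _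
    simp
  | m + 1 => by
    haveI := CurveCohLib.isNoetherian_of_proper (k := k) (X := X)
    have h := CurvePsi.deg_tensor_locFree k hdim
      (InvEnd.isFinLocFreeOfRank_one (InvX.isInvertible_tensorPow hA m)) (InvEnd.isFinLocFreeOfRank_one hA)
    have ih := deg_tensorPow hdim hA m
    simp only [Nat.cast_one, mul_one, one_mul] at h
    change Curv2.deg k X ((DCoh.tensorBi.obj (CohB1.tensorPow A m)).obj A) 1 = _
    rw [h, ih]
    push_cast
    ring

theorem deg_restrict_tensorPow (J : X.IdealSheafData) (hJ : topologicalKrullDim J.subscheme = 1)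
    {A : X.Modules} (hA : PicF.IsInvertible A) (m : ℕ) :
    @Curv2.deg k _ J.subscheme ⟨J.subschemeι ≫ (X ↘ Spec (CommRingCat.of k))⟩
        ((Scheme.Modules.pullback J.subschemeι).obj (CohB1.tensorPow A m)) 1 =
      m * @Curv2.deg k _ J.subscheme ⟨J.subschemeι ≫ (X ↘ Spec (CommRingCat.of k))⟩
        ((Scheme.Modules.pullback J.subschemeι).obj A) 1 := by
  letI : J.subscheme.Over (Spec (CommRingCat.of k)) := ⟨J.subschemeι ≫ (X ↘ Spec (CommRingCat.of k))⟩
  haveI : IsProper (J.subscheme ↘ Spec (CommRingCat.of k)) :=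
    inferInstanceAs (IsProper (J.subschemeι ≫ (X ↘ Spec (CommRingCat.of k))))
  obtain ⟨e⟩ := HilbSnap.pullback_tensorPow J.subschemeι A m
  have h : Curv2.deg k J.subscheme ((Scheme.Modules.pullback J.subschemeι).obj (CohB1.tensorPow A m)) 1 =
      Curv2.deg k J.subscheme (CohB1.tensorPow ((Scheme.Modules.pullback J.subschemeι).obj A) m) 1 := by
    unfold Curv2.deg
    rw [Euler.euler_congr k e]
  exact h.trans (deg_tensorPow hJ.le (PicClLib.isInvertible_pullback J.subschemeι hA) m)

/-- A subcurve without contact with its complement is everything. -/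
theorem support_eq_univ_of_inter_zero [IsReduced X] [ConnectedSpace X] (J : X.IdealSheafData)
    [Nonempty J.subscheme] (h : Module.finrank k (Coh.HH X (ClSub.quotMod (J ⊔ compl J)) 0) = 0) :
    (J.support : Set X) = Set.univ := by
  set K := J ⊔ compl J with hK
  have hempty : (K.support : Set X) = ∅ := by
    by_contra hne
    rw [finrank_HH_quotMod] at h
    letI : K.subscheme.Over (Spec (CommRingCat.of k)) := ⟨K.subschemeι ≫ (X ↘ Spec (CommRingCat.of k))⟩
    haveI : IsProper (K.subscheme ↘ Spec (CommRingCat.of k)) :=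
      inferInstanceAs (IsProper (K.subschemeι ≫ (X ↘ Spec (CommRingCat.of k))))
    haveI : Nonempty K.subscheme := by
      obtain ⟨x, hx⟩ := Set.nonempty_iff_ne_empty.2 hne
      rw [← K.range_subschemeι] at hx
      exact ⟨hx.choose⟩
    haveI := CurveCohLib.isNoetherian_of_proper (k := k) (X := K.subscheme)
    haveI := CurveCohLib.finite_HH (k := k) (QCoh.isCoh_structureModule' (X := K.subscheme)) 0
    haveI : Nonempty (⊤ : K.subscheme.Opens) := ⟨⟨Classical.arbitrary _, trivial⟩⟩
    haveI : Nontrivial Γ(K.subscheme, ⊤) := Scheme.component_nontrivial _ ⊤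
    haveI : Nontrivial ↑((Coh.toAb (Coh.structureModule K.subscheme)).obj.obj (op ⊤)) :=
      inferInstanceAs (Nontrivial Γ(K.subscheme, ⊤))
    haveI : Nontrivial (Coh.HH K.subscheme (Coh.structureModule K.subscheme) 0) :=
      (Sheaf.H.equiv₀ (Coh.toAb (Coh.structureModule K.subscheme)) isTerminalTop).toEquiv.nontrivial
    exact Module.finrank_pos.ne' h
  have hclo : IsClopen (J.support : Set X) := by
    refine ⟨J.support.isClosed, ?_⟩
    rw [← isClosed_compl_iff]
    refine closure_subset_iff_isClosed.1 fun x hx hxJ => ?_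
    have : x ∈ (K.support : Set X) := by
      rw [hK, Scheme.IdealSheafData.support_sup]
      refine ⟨hxJ, ?_⟩
      rw [SetLike.mem_coe]
      show x ∈ ((compl J).support : Set X)
      rw [Scheme.IdealSheafData.coe_support_vanishingIdeal]
      exact hx
    rw [hempty] at this
    exact this
  exact hclo.eq_univ ((J.range_subschemeι).symm ▸ Set.range_nonempty _)

/-- A scheme isomorphism gives an isomorphism of structure modules. -/
theorem isIso_toSubscheme_bot {W : Scheme.{u}} : IsIso (ClSub.toSubscheme (⊥ : W.IdealSheafData)) := by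
  rw [Scheme.Modules.Hom.isIso_iff_isIso_app]
  intro U
  rw [ConcreteCategory.isIso_iff_bijective]
  exact ConcreteCategory.bijective_of_isIso ((⊥ : W.IdealSheafData).subschemeι.app U)

/-- The degree of the dualizing module on a subcurve, and on everything. -/
theorem deg_dualizing_subcurve [IsAlgClosed k] [IsReduced X] [ConnectedSpace X] (hdim : topologicalKrullDim X = 1)
    {ω : X.Modules} {tr : Coh.HH X ω 1 →ₗ[k] k} (hω : Canon.IsRDualOver k X 1 ω tr) (hinv : PicF.IsInvertible ω)
    (J : X.IdealSheafData) [IsReduced J.subscheme] [ConnectedSpace J.subscheme]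
    (hJ : topologicalKrullDim J.subscheme = 1) :
    @Curv2.deg k _ J.subscheme ⟨J.subschemeι ≫ (X ↘ Spec (CommRingCat.of k))⟩
        ((Scheme.Modules.pullback J.subschemeι).obj ω) 1 =
      -2 * @Curv2.euler k _ J.subscheme ⟨J.subschemeι ≫ (X ↘ Spec (CommRingCat.of k))⟩
          (Coh.structureModule J.subscheme) +
        (Module.finrank k (Coh.HH X (ClSub.quotMod (J ⊔ compl J)) 0) : ℤ) ∧
    (Module.finrank k (Coh.HH X (ClSub.quotMod (J ⊔ compl J)) 0) = 0 →
      @Curv2.deg k _ J.subscheme ⟨J.subschemeι ≫ (X ↘ Spec (CommRingCat.of k))⟩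
        ((Scheme.Modules.pullback J.subschemeι).obj ω) 1 = 2 * (Curv2.genus k X : ℤ) - 2) := by
  letI : J.subscheme.Over (Spec (CommRingCat.of k)) := ⟨J.subschemeι ≫ (X ↘ Spec (CommRingCat.of k))⟩
  haveI : IsProper (J.subscheme ↘ Spec (CommRingCat.of k)) :=
    inferInstanceAs (IsProper (J.subschemeι ≫ (X ↘ Spec (CommRingCat.of k))))
  have hX := closedDimOne_of_connected k hdim
  have hd := deg_dualizing_restrict hdim hX hω hinv J hJ (closedDimOne_of_connected k hJ)
  refine ⟨hd, fun h0 => ?_⟩
  have huniv := support_eq_univ_of_inter_zero (k := k) J h0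
  have hbot : J = ⊥ := by
    refine le_antisymm ?_ bot_le
    have h1 : J ≤ Scheme.IdealSheafData.vanishingIdeal (⊤ : Closeds X) :=
      Scheme.IdealSheafData.le_support_iff_le_vanishingIdeal.1 (fun x _ => huniv.ge trivial)
    rwa [Scheme.IdealSheafData.vanishingIdeal_top, Scheme.nilradical_eq_bot] at h1
  rw [hd, h0]
  subst hbot
  haveI := isIso_toSubscheme_bot (W := X)
  have he : Curv2.euler k (⊥ : X.IdealSheafData).subscheme (Coh.structureModule (⊥ : X.IdealSheafData).subscheme) =
      Curv2.euler k X (Coh.structureModule X) := by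
    rw [euler_two hJ.le QCoh.isQCoh_structureModule, euler_two hdim.le QCoh.isQCoh_structureModule,
      ← finrank_HH_quotMod, ← finrank_HH_quotMod,
      ← (CurveCohLib.hhEquiv (k := k) (asIso (ClSub.toSubscheme (⊥ : X.IdealSheafData))) 0).finrank_eq,
      ← (CurveCohLib.hhEquiv (k := k) (asIso (ClSub.toSubscheme (⊥ : X.IdealSheafData))) 1).finrank_eq]
  rw [he, euler_two hdim.le QCoh.isQCoh_structureModule, SurfRR.finrank_h0_reduced k]
  unfold Curv2.genus
  push_cast
  ring

end Groth.Agent.CanonDual
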