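import Groth.Agent.CanonDual.BCCurve
import Groth.Agent.CanonDual.GGCrit
import Groth.Agent.CanonDual.Nodal
import Groth.Agent.NodalLib.BaseChange
import Groth.Agent.CurveBC.Geometry
import Groth.Agent.HilbSnap.GeClosed

/-!
# Nodal curves over the algebraic closure
-/

set_option autoImplicit false
set_option linter.style.haveILetI false
set_option linter.unusedSectionVars false
set_option backward.isDefEq.respectTransparency false
set_option backward.isDefEq.respectTransparency.types false

universe u

open CategoryTheory CategoryTheory.Limits AlgebraicGeometry TopologicalSpace Opposite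

attribute [local instance] HasDerivedCategory.standard

noncomputable section

namespace Groth.Agent.CanonDual

open Groth.Agent

variable (k : Type u) [Field k] (X : Scheme.{u}) [X.Over (Spec (CommRingCat.of k))]
  [IsProper (X ↘ Spec (CommRingCat.of k))]

local notation "K" => AlgebraicClosure k

/-- The structure map of the curve over the algebraic closure. -/
@[reducible] def barOver : (Curv2.bc k X K).Over (Spec (CommRingCat.of K)) := ⟨Curv2.bcSnd k X K⟩

attribute [local instance] barOver

theorem isPullback_barOver :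
    IsPullback (Curv2.bcFst k X K) ((Curv2.bc k X K) ↘ Spec (CommRingCat.of K))
      (X ↘ Spec (CommRingCat.of k)) (Spec.map (CommRingCat.ofHom (algebraMap k K))) :=
  IsPullback.of_hasPullback _ _

theorem isProper_barOver : IsProper ((Curv2.bc k X K) ↘ Spec (CommRingCat.of K)) :=
  MorphismProperty.of_isPullback (isPullback_barOver k X) inferInstance

/-- The curve over the algebraic closure with the pullback of the dualizing module. -/
theorem bar_data (hdim : topologicalKrullDim X = 1)
    (h0 : Module.finrank k (Coh.HH X (Coh.structureModule X) 0) = 1) (hX : Curv2.AtWorstNodal k X)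
    {ω : X.Modules} {tr : Coh.HH X ω 1 →ₗ[k] k} (hω : Canon.IsRDualOver k X 1 ω tr)
    [IsProper ((Curv2.bc k X K) ↘ Spec (CommRingCat.of K))] :
    IsReduced (Curv2.bc k X K) ∧ ConnectedSpace (Curv2.bc k X K) ∧ topologicalKrullDim (Curv2.bc k X K) = 1 ∧ Curv2.AtWorstNodal K (Curv2.bc k X K) ∧
    Proj16.ClosedDimOne (Curv2.bc k X K) ∧ PicF.IsInvertible ω ∧
    (∀ J : (Curv2.bc k X K).IdealSheafData, IsReduced J.subscheme → ConnectedSpace J.subscheme →
      topologicalKrullDim J.subscheme = 1 →
      @Curv2.deg K _ J.subscheme ⟨J.subschemeι ≫ ((Curv2.bc k X K) ↘ Spec (CommRingCat.of K))⟩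
          ((Scheme.Modules.pullback J.subschemeι).obj ((Scheme.Modules.pullback (Curv2.bcFst k X K)).obj ω)) 1 =
        -2 * @Curv2.euler K _ J.subscheme ⟨J.subschemeι ≫ ((Curv2.bc k X K) ↘ Spec (CommRingCat.of K))⟩
            (Coh.structureModule J.subscheme) +
          (Module.finrank K (Coh.HH (Curv2.bc k X K) (ClSub.quotMod (J ⊔ compl J)) 0) : ℤ) ∧
      (Module.finrank K (Coh.HH (Curv2.bc k X K) (ClSub.quotMod (J ⊔ compl J)) 0) = 0 →
        @Curv2.deg K _ J.subscheme ⟨J.subschemeι ≫ ((Curv2.bc k X K) ↘ Spec (CommRingCat.of K))⟩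
          ((Scheme.Modules.pullback J.subschemeι).obj ((Scheme.Modules.pullback (Curv2.bcFst k X K)).obj ω)) 1 =
            2 * (Curv2.genus k X : ℤ) - 2)) := by
  let X' := Curv2.bc k X K
  let π := Curv2.bcFst k X K
  have hpb := isPullback_barOver k X
  haveI := isReduced_of_nodal k hdim.le hX
  have hXc := closedDimOne_of_h0 k hdim h0
  have hdim' := CurveBC.topologicalKrullDim_eq k K π hpb hdim
  have hh0 := CurveBC.finrank_h0 k K π hpb h0
  haveI hconn := CurveBC.connectedSpace_of_h0 K X' hh0
  let hc := fun Z hZ => (components_dim_one (k := k) hXc Z hZ).trans (Nat.cast_one : ((1 : ℕ) : WithBot ℕ∞) = 1)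
  have hX' : Curv2.AtWorstNodal K X' := (NodalLib.nodal_bc k X K hc hX).2
  haveI hred := isReduced_of_nodal K hdim'.le hX'
  obtain ⟨N, ι, hι, hιf⟩ := exists_embedding (k := K) hdim'.le
  haveI := hι
  obtain ⟨ω', tr', -, hω'⟩ := exists_isCoh_isRDualOver K N 1 X' ι hιf (by exact_mod_cast hdim'.le)
  have hinv' := isInvertible_dualizing_nodal hdim' hh0 hX' hω'
  obtain ⟨e⟩ := BC.nonempty_iso hpb hω (isCoh_dualizing_curve hdim.le hω) hω'
  refine ⟨hred, hconn, hdim', hX', closedDimOne_of_connected K hdim', isInvertible_dualizing_nodal hdim h0 hX hω,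
    fun J h₁ h₂ h₃ => ?_⟩
  haveI := h₁
  haveI := h₂
  letI : J.subscheme.Over (Spec (CommRingCat.of K)) := ⟨J.subschemeι ≫ (X' ↘ Spec (CommRingCat.of K))⟩
  haveI : IsProper (J.subscheme ↘ Spec (CommRingCat.of K)) :=
    inferInstanceAs (IsProper (J.subschemeι ≫ (X' ↘ Spec (CommRingCat.of K))))
  obtain ⟨f1, f2⟩ := deg_dualizing_subcurve hdim' hω' hinv' J h₃
  have he : Curv2.deg K J.subscheme ((Scheme.Modules.pullback J.subschemeι).obj ((Scheme.Modules.pullback π).obj ω)) 1 =
      Curv2.deg K J.subscheme ((Scheme.Modules.pullback J.subschemeι).obj ω') 1 := by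
    unfold Curv2.deg
    rw [Euler.euler_congr K ((Scheme.Modules.pullback J.subschemeι).mapIso e)]
  haveI := quasiSeparatedSpace_of_quasiSeparated (X ↘ Spec (CommRingCat.of k))
  haveI := QuasiCompact.compactSpace_of_compactSpace (X ↘ Spec (CommRingCat.of k))
  refine ⟨he.trans f1, fun hz => ?_⟩
  rw [← CurveBC.genus_eq k K π hpb]
  exact he.trans (f2 hz)

end Groth.Agent.CanonDual
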