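import Groth.Agent.BlowExc.Nonsingular
import Groth.Agent.LC.ExtDim
import Groth.Agent.Alg6.LocLoc
import Groth.Agent.S2604
import Groth.Agent.FlatLoc6.RegCM
import Groth.Agent.Codepth5.Field
import Groth.Agent.RegImmLib.RegStalk
import Groth.Agent.SmoothReg.Scheme
import Groth.Agent.LC.GorHull
import Groth.Agent.Hensel.DepthFlat

/-!
# Cohen–Macaulayness of blow-ups in regularly generated ideals
-/

set_option autoImplicit false
set_option linter.style.haveILetI false
set_option linter.unusedSectionVars false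
set_option backward.isDefEq.respectTransparency false
set_option backward.isDefEq.respectTransparency.types false
set_option maxHeartbeats 1000000

universe u

open CategoryTheory Limits AlgebraicGeometry IsLocalRing RingTheory.Sequence TensorProduct

noncomputable section

namespace Groth.Agent.CanonDual.BlowCM

open Groth.Agent

variable {R : Type u} [CommRing R] [IsLocalRing R] [IsNoetherianRing R]

theorem cm_iff : LocCoh.IsCohenMacaulayLocalRing R ↔ LocCoh.IsCohenMacaulayModule R R :=
  ⟨fun h => h.supportDim_eq_depth, fun h => { supportDim_eq_depth := h }⟩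

omit [IsLocalRing R] [IsNoetherianRing R] in
theorem cm_transfer {A B : Type u} [CommRing A] [CommRing B] [LocCoh.IsCohenMacaulayLocalRing A] (e : A ≃+* B) :
    LocCoh.IsCohenMacaulayLocalRing B := by
  haveI : IsNoetherianRing B := isNoetherianRing_of_ringEquiv A e
  haveI : Nontrivial B := e.injective.nontrivial
  haveI : IsLocalRing B := IsLocalRing.of_surjective' e.toRingHom e.surjective
  refine cm_iff.2 ?_
  have h : LocCoh.IsCohenMacaulayModule A A := cm_iff.1 inferInstance
  unfold LocCoh.IsCohenMacaulayModule at h ⊢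
  have he : ∀ (r x : A), e.toAddEquiv (r • x) = e.toRingHom r • e.toAddEquiv x := fun r x => map_mul e r x
  rwa [← Alg6.supportDim_eq_of_semilinear e.toRingHom e.surjective e.toAddEquiv he,
    ← Alg6.depth_eq_of_semilinear e.toRingHom e.surjective e.toAddEquiv he]

/-- Cohen–Macaulayness of a quotient by an ideal, as a module and as a ring. -/
theorem cm_quotient_iff (I : Ideal R) [Nontrivial (R ⧸ I)] :
    (haveI : IsLocalRing (R ⧸ I) := EGA4.isLocalRing_quotient R I
     LocCoh.IsCohenMacaulayLocalRing (R ⧸ I)) ↔ LocCoh.IsCohenMacaulayModule R (R ⧸ (I • ⊤ : Submodule R R)) := by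
  haveI : IsLocalRing (R ⧸ I) := EGA4.isLocalRing_quotient R I
  rw [cm_iff]
  have hI : (I • ⊤ : Submodule R R) = I := by rw [Ideal.smul_eq_mul, Ideal.mul_top]
  let e : (R ⧸ (I • ⊤ : Submodule R R)) ≃ₗ[R] (R ⧸ I) := Submodule.quotEquivOfEq _ _ hI
  have he : ∀ (r : R) (x : R ⧸ (I • ⊤ : Submodule R R)),
      e.toAddEquiv (r • x) = Ideal.Quotient.mk I r • e.toAddEquiv x := fun r x => by
    show e (r • x) = _
    rw [map_smul]; rfl
  unfold LocCoh.IsCohenMacaulayModule
  rw [Alg6.supportDim_eq_of_semilinear (Ideal.Quotient.mk I) Ideal.Quotient.mk_surjective e.toAddEquiv he,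
    Alg6.depth_eq_of_semilinear (Ideal.Quotient.mk I) Ideal.Quotient.mk_surjective e.toAddEquiv he]

/-- A local ring is Cohen–Macaulay if its quotient by a regular sequence is. -/
theorem cm_of_quot_ofList {rs : List R} (h : IsWeaklyRegular R rs) (hmem : ∀ r ∈ rs, r ∈ maximalIdeal R)
    (hq : LocCoh.IsCohenMacaulayModule R (R ⧸ (Ideal.ofList rs • ⊤ : Submodule R R))) :
    LocCoh.IsCohenMacaulayModule R R := by
  have := LC.nontrivial_quot_ofList (M := R) (LC.ofList_le (maximalIdeal R) hmem)
  have hreg : IsRegular R rs := IsRegular.of_isWeaklyRegular_of_mem_maximalIdeal R hmem h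
  have h1 := Module.supportDim_add_length_eq_supportDim_of_isRegular rs hreg
  have h2 := LC.idealDepth_quot_ofList (maximalIdeal R) h hmem
  obtain ⟨D, hD⟩ := LC.exists_supportDim_eq_nat (R := R) (R ⧸ (Ideal.ofList rs • ⊤ : Submodule R R))
  obtain ⟨e, he⟩ := LC.exists_depth_eq_nat (R := R) (R ⧸ (Ideal.ofList rs • ⊤ : Submodule R R))
  unfold LocCoh.IsCohenMacaulayModule at hq ⊢
  rw [hD, he] at hq
  rw [hD] at h1
  rw [show LocCoh.idealDepth (maximalIdeal R) (R ⧸ (Ideal.ofList rs • ⊤ : Submodule R R)) = (e : ℕ∞) from he,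
    show LocCoh.idealDepth (maximalIdeal R) R = LocCoh.depth R R from rfl] at h2
  rw [← h1, ← h2]
  have : D = e := by exact_mod_cast hq
  subst this
  push_cast
  rfl

/-- Cohen–Macaulay base and Cohen–Macaulay closed fibre give a Cohen–Macaulay ring. -/
theorem cm_of_flat (A B : Type u) [CommRing A] [CommRing B] [LocCoh.IsCohenMacaulayLocalRing A] [IsNoetherianRing B]
    [IsLocalRing B] [Algebra A B] [IsLocalHom (algebraMap A B)] [Module.Flat A B]
    (hfib : haveI : Nontrivial (B ⧸ EGA4.mB A B) :=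
        Ideal.Quotient.nontrivial_iff.mpr (ne_top_of_le_ne_top (maximalIdeal.isMaximal B).ne_top (map_maximalIdeal_le _))
      LocCoh.IsCohenMacaulayLocalRing (B ⧸ EGA4.mB A B)) :
    LocCoh.IsCohenMacaulayLocalRing B := by
  haveI : Nontrivial (B ⧸ EGA4.mB A B) :=
    Ideal.Quotient.nontrivial_iff.mpr (ne_top_of_le_ne_top (maximalIdeal.isMaximal B).ne_top (map_maximalIdeal_le _))
  haveI : IsLocalRing (B ⧸ EGA4.mB A B) := EGA4.isLocalRing_quotient B _
  have h := (S2604.result A B A B).2 ⟨cm_iff.1 inferInstance, ?_⟩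
  · rw [cm_iff]
    unfold LocCoh.IsCohenMacaulayModule at h ⊢
    rw [Module.supportDim_eq_of_equiv (AlgebraTensorModule.rid A B B),
      Hensel.depth_congr (AlgebraTensorModule.rid A B B)] at h
    exact h
  · have hI : (EGA4.mB A B • ⊤ : Submodule B B) = EGA4.mB A B := by rw [Ideal.smul_eq_mul, Ideal.mul_top]
    let e : EGA4.FibMod A B B ≃ₗ[B] (B ⧸ EGA4.mB A B) := Submodule.quotEquivOfEq _ _ hI
    have hf := cm_iff.1 hfib
    unfold LocCoh.IsCohenMacaulayModule at hf ⊢
    have he : ∀ (r : EGA4.FibRing A B) (x : EGA4.FibMod A B B), e.toAddEquiv (r • x) = RingHom.id _ r • e.toAddEquiv x := by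
      intro r x
      obtain ⟨r, rfl⟩ := Ideal.Quotient.mk_surjective r
      show e (r • x) = _
      rw [map_smul]; rfl
    rwa [Alg6.supportDim_eq_of_semilinear (RingHom.id _) Function.surjective_id e.toAddEquiv he,
      Alg6.depth_eq_of_semilinear (RingHom.id _) Function.surjective_id e.toAddEquiv he]

omit [IsLocalRing R] [IsNoetherianRing R] in
/-- Cohen–Macaulayness ascends along smooth morphisms. -/
theorem cm_stalk_of_smooth {X Y : Scheme.{u}} [IsLocallyNoetherian Y] (f : X ⟶ Y) [Smooth f] (x : X)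
    [LocCoh.IsCohenMacaulayLocalRing (Y.presheaf.stalk (f x))] :
    LocCoh.IsCohenMacaulayLocalRing (X.presheaf.stalk x) := by
  haveI : IsLocallyNoetherian X := LocallyOfFiniteType.isLocallyNoetherian f
  letI := (f.stalkMap x).hom.toAlgebra
  haveI : IsLocalHom (algebraMap (Y.presheaf.stalk (f x)) (X.presheaf.stalk x)) := f.toLRSHom.prop x
  haveI : Module.Flat (Y.presheaf.stalk (f x)) (X.presheaf.stalk x) := Flat.stalkMap f x
  refine cm_of_flat (Y.presheaf.stalk (f x)) (X.presheaf.stalk x) ?_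
  obtain ⟨e⟩ := Codepth5.nonempty_fibre_stalk_equiv f x (f x) (f.asFiber x) (f.fiberι_asFiber x)
  haveI hsm : Smooth (f.fiberToSpecResidueField (f x)) := MorphismProperty.pullback_snd f _ inferInstance
  haveI : IsRegularLocalRing ((f.fiber (f x)).presheaf.stalk (f.asFiber x)) :=
    SmoothReg.isRegularLocalRing_stalk_of_mem_smoothLocus (f.fiberToSpecResidueField (f x))
      (((f.fiberToSpecResidueField (f x)).smoothLocus_eq_top_iff.2 hsm).ge trivial)
  haveI := LC.gorenstein_of_isRegularLocalRing (R := (f.fiber (f x)).presheaf.stalk (f.asFiber x))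
  haveI := LC.isCohenMacaulayLocalRing_of_gorenstein (R := (f.fiber (f x)).presheaf.stalk (f.asFiber x))
  exact cm_transfer e.symm

omit [IsLocalRing R] [IsNoetherianRing R] in
theorem cm_blowUp {W T : Scheme.{u}} [IsLocallyNoetherian W]
    (hcm : ∀ w : W, LocCoh.IsCohenMacaulayLocalRing (W.presheaf.stalk w))
    (I : W.IdealSheafData) (hI : RegImm.IsRegularIdeal RegImm.Kind.regular I)
    (b : T ⟶ W) (hb : BlowUp.IsBlowUp b I) (t : T) : LocCoh.IsCohenMacaulayLocalRing (T.presheaf.stalk t) := by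
  have hft : BlowUp.IsFiniteTypeIdeal I := fun U => by
    haveI : IsNoetherianRing Γ(W, U) := IsLocallyNoetherian.component_noetherian U
    exact IsNoetherian.noetherian _
  haveI : IsProper b := BlowUpLib.isProper_of_isBlowUp I hb hft
  haveI : IsLocallyNoetherian T := LocallyOfFiniteType.isLocallyNoetherian b
  by_cases ht : b t ∈ I.support
  swap
  · let U : W.Opens := I.support.compl
    haveI : IsIso (b ∣_ U) := BlowUpX.isIso_restrict hb
    let w : ↥(b ⁻¹ᵁ U) := ⟨t, ht⟩
    haveI := hcm (U.ι ((b ∣_ U) w))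
    exact cm_transfer (((asIso (U.ι.stalkMap ((b ∣_ U) w))).commRingCatIsoToRingEquiv.trans
      (asIso ((b ∣_ U).stalkMap w)).commRingCatIsoToRingEquiv).trans
        (asIso ((b ⁻¹ᵁ U).ι.stalkMap w)).commRingCatIsoToRingEquiv.symm)
  obtain ⟨d, rfl⟩ : t ∈ Set.range (BlowUp.exceptional b I).subschemeι := by
    rw [Scheme.IdealSheafData.range_subschemeι, BlowUp.exceptional, Scheme.IdealSheafData.support_comap]
    exact ht
  let i := I.subschemeι
  have hker : i.ker = I := Scheme.IdealSheafData.ker_subschemeι I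
  have hi : Mor2.IsRegularClosedImmersion i := ⟨inferInstance, fun z => by
    obtain ⟨U, hzU, rs, hrs, hrsI⟩ := hI (i z) (I.range_subschemeι.le ⟨z, rfl⟩)
    exact ⟨U.1, U.2, hzU, rs, hrs, by rw [hker]; exact hrsI⟩⟩
  let g₀ := IsClosedImmersion.lift i ((BlowUp.exceptional b I).subschemeι ≫ b) (by
    rw [Scheme.Hom.ker_comp, Scheme.IdealSheafData.ker_subschemeι, Scheme.IdealSheafData.ker_subschemeι]
    exact Scheme.IdealSheafData.le_map_comap _ _)
  have hg₀ : g₀ ≫ i = (BlowUp.exceptional b I).subschemeι ≫ b := IsClosedImmersion.lift_fac _ _ _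
  haveI : Smooth g₀ := by
    have main : ∀ (K : W.IdealSheafData) (_ : K = I) (_ : BlowUp.IsBlowUp b K)
        (g : (BlowUp.exceptional b K).subscheme ⟶ I.subscheme),
        g ≫ i = (BlowUp.exceptional b K).subschemeι ≫ b → K = i.ker → Smooth g := by
      intro K _ hK g hg hKi
      subst hKi
      exact BlowExc.smooth_exceptional i hi b hK g hg
    exact main I rfl hb g₀ hg₀ hker.symm
  haveI : IsLocallyNoetherian I.subscheme := LocallyOfFiniteType.isLocallyNoetherian i
  -- the centre
  let z := g₀ d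
  haveI : LocCoh.IsCohenMacaulayLocalRing (I.subscheme.presheaf.stalk z) := by
    obtain ⟨U, hzU, rs, hrs, hrsI⟩ := hI (i z) (I.range_subschemeι.le ⟨z, rfl⟩)
    let γ := (W.presheaf.germ U.1 (i z) hzU).hom
    letI := TopCat.Presheaf.algebra_section_stalk W.presheaf (⟨i z, hzU⟩ : ↥U.1)
    haveI := U.2.isLocalization_stalk ⟨i z, hzU⟩
    haveI : Module.Flat Γ(W, U) (W.presheaf.stalk (i z)) :=
      IsLocalization.flat (W.presheaf.stalk (i z)) (U.2.primeIdealOf ⟨i z, hzU⟩).asIdeal.primeCompl
    have hk : RingHom.ker (i.stalkMap z).hom = Ideal.ofList (rs.map γ) := by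
      rw [RegImmLib.ker_stalkMap_eq_map i U.2 z hzU, ← Scheme.Hom.ker_apply, hker, hrsI, Ideal.map_ofList]
    have hwr : IsWeaklyRegular (W.presheaf.stalk (i z)) (rs.map γ) :=
      IsWeaklyRegular.of_flat hrs.toIsWeaklyRegular
    have hmem : ∀ r ∈ rs.map γ, r ∈ maximalIdeal (W.presheaf.stalk (i z)) := fun r hr =>
      le_maximalIdeal (RingHom.ker_ne_top (i.stalkMap z).hom) (hk ▸ Ideal.subset_span hr)
    haveI := hcm (i z)
    have h := LC.isCM_quot_ofList (W.presheaf.stalk (i z)) (cm_iff.1 inferInstance) hwr hmem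
    haveI : Nontrivial (W.presheaf.stalk (i z) ⧸ Ideal.ofList (rs.map γ)) :=
      Ideal.Quotient.nontrivial_iff.mpr (hk ▸ RingHom.ker_ne_top _)
    haveI : IsLocalRing (W.presheaf.stalk (i z) ⧸ Ideal.ofList (rs.map γ)) := EGA4.isLocalRing_quotient _ _
    haveI := (cm_quotient_iff _).2 h
    exact cm_transfer ((Ideal.quotEquivOfEq hk.symm).trans
      (RingHom.quotientKerEquivOfSurjective (i.stalkMap_surjective z)))
  haveI := cm_stalk_of_smooth g₀ d
  -- up from the exceptional divisor
  obtain ⟨g, hg, hgker⟩ := AlgSpLib.CartierDepth.exists_stalk_generator hb.1 d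
  let φ := ((BlowUp.exceptional b I).subschemeι.stalkMap d).hom
  have hgm : ∀ r ∈ [g], r ∈ maximalIdeal (T.presheaf.stalk ((BlowUp.exceptional b I).subschemeι d)) := fun r hr => by
    obtain rfl := List.mem_singleton.1 hr
    exact le_maximalIdeal (RingHom.ker_ne_top φ) (hgker ▸ Ideal.mem_span_singleton_self r)
  have hwr : IsWeaklyRegular (T.presheaf.stalk ((BlowUp.exceptional b I).subschemeι d)) [g] :=
    IsWeaklyRegular.cons (Module.Flat.isSMulRegular_of_nonZeroDivisors hg) (IsWeaklyRegular.nil _ _)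
  have hk : RingHom.ker φ = Ideal.ofList [g] := by rw [Ideal.ofList_singleton]; exact hgker
  haveI : Nontrivial (T.presheaf.stalk ((BlowUp.exceptional b I).subschemeι d) ⧸ Ideal.ofList [g]) :=
    Ideal.Quotient.nontrivial_iff.mpr (hk ▸ RingHom.ker_ne_top _)
  haveI : IsLocalRing (T.presheaf.stalk ((BlowUp.exceptional b I).subschemeι d) ⧸ Ideal.ofList [g]) :=
    EGA4.isLocalRing_quotient _ _
  refine cm_iff.2 (cm_of_quot_ofList hwr hgm ((cm_quotient_iff _).1 ?_))
  exact cm_transfer ((RingHom.quotientKerEquivOfSurjective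
    ((BlowUp.exceptional b I).subschemeι.stalkMap_surjective d)).symm.trans (Ideal.quotEquivOfEq hk))

end Groth.Agent.CanonDual.BlowCM
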