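import Groth.Agent.NodalLib.CritODP
import Groth.Agent.NodalLib.FieldExt

/-!
# Two sides of a node
-/

set_option autoImplicit false
set_option linter.style.haveILetI false
set_option linter.unusedSectionVars false
set_option backward.isDefEq.respectTransparency false
set_option backward.isDefEq.respectTransparency.types false

universe u

open IsLocalRing

noncomputable section

namespace Groth.Agent.CanonDual.Branch

open Groth.Agent

variable {K : Type u} [Field K]

local notation "P" => MvPowerSeries (Fin 2) K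
local notation "Q" => MvPowerSeries (Fin 2) K ⧸ Ideal.span
  {(MvPowerSeries.X 0 * MvPowerSeries.X 1 : MvPowerSeries (Fin 2) K)}

theorem axis_X {i j : Fin 2} (hij : j ≠ i) : NodalLib.axis i (MvPowerSeries.X j : P) = 0 := by
  classical
  ext n
  show PowerSeries.coeff n (PowerSeries.mk fun n => MvPowerSeries.coeff (Finsupp.single i n) (MvPowerSeries.X j : P)) = _
  rw [PowerSeries.coeff_mk, MvPowerSeries.coeff_X, if_neg, map_zero]
  intro h
  exact hij (((Finsupp.single_eq_single_iff _ _ _ _).1 h).resolve_right (by simp)).1.symm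

theorem axis_xy (i : Fin 2) : NodalLib.axis i (MvPowerSeries.X 0 * MvPowerSeries.X 1 : P) = 0 := by
  rw [map_mul]
  fin_cases i
  · simp [axis_X (K := K) (i := 0) (j := 1) (by decide)]
  · simp [axis_X (K := K) (i := 1) (j := 0) (by decide)]

/-- Restriction to an axis. -/
def qaxis (i : Fin 2) : Q →+* PowerSeries K :=
  Ideal.Quotient.lift _ (NodalLib.axis i) fun f hf => by
    obtain ⟨c, rfl⟩ := Ideal.mem_span_singleton'.1 hf
    rw [map_mul, axis_xy, mul_zero]

theorem eq_zero_of_qaxis (q : Q) (h : ∀ i, qaxis i q = 0) : q = 0 := by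
  classical
  obtain ⟨f, rfl⟩ := Ideal.Quotient.mk_surjective q
  have hcoe : ∀ (i : Fin 2) n, MvPowerSeries.coeff (Finsupp.single i n) f = 0 := fun i n => by
    have := congrArg (PowerSeries.coeff n) (show NodalLib.axis i f = 0 from h i)
    rwa [map_zero, NodalLib.axis, RingHom.coe_mk, MonoidHom.coe_mk, OneHom.coe_mk, PowerSeries.coeff_mk] at this
  rw [Ideal.Quotient.eq_zero_iff_mem, Ideal.mem_span_singleton]
  obtain ⟨g, rfl⟩ : (MvPowerSeries.X 1 : P) ∣ f := MvPowerSeries.X_dvd_iff.2 fun d hd => by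
    have : d = Finsupp.single 0 (d 0) := by
      ext j; fin_cases j <;> simp [hd]
    rw [this]; exact hcoe 0 _
  obtain ⟨w, rfl⟩ : (MvPowerSeries.X 0 : P) ∣ g := MvPowerSeries.X_dvd_iff.2 fun d hd => by
    have hd' : d = Finsupp.single 1 (d 1) := by
      ext j; fin_cases j <;> simp [hd]
    have h := hcoe 1 (d 1 + 1)
    rwa [add_comm, Finsupp.single_add, ← hd', MvPowerSeries.X,
      MvPowerSeries.coeff_add_monomial_mul, one_mul] at h
  exact ⟨w, by ring⟩

/-- Mutual annihilators in the model of a node sum to the maximal ideal. -/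
theorem sup_model (A B : Ideal Q) (hA : ∀ r, r ∈ A ↔ ∀ b ∈ B, r * b = 0) (hB : ∀ r, r ∈ B ↔ ∀ a ∈ A, r * a = 0)
    (hA0 : A ≠ ⊥) (hB0 : B ≠ ⊥) : maximalIdeal Q ≤ A ⊔ B := by
  have two : ∀ i : Fin 2, i = 0 ∨ i = 1 := by decide
  obtain ⟨a, ha, ha0⟩ := Submodule.exists_mem_ne_zero_of_ne_bot hA0
  obtain ⟨b, hb, hb0⟩ := Submodule.exists_mem_ne_zero_of_ne_bot hB0
  obtain ⟨i, hi⟩ : ∃ i, qaxis i a ≠ 0 := by
    by_contra! h
    exact ha0 (eq_zero_of_qaxis a h)
  obtain ⟨j, hj⟩ : ∃ j, qaxis j b ≠ 0 := by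
    by_contra! h
    exact hb0 (eq_zero_of_qaxis b h)
  have hBi : ∀ b' ∈ B, qaxis i b' = 0 := fun b' hb' => by
    have := congrArg (qaxis i) ((hA a).1 ha b' hb')
    rw [map_mul, map_zero] at this
    exact (mul_eq_zero.1 this).resolve_left hi
  have hAj : ∀ a' ∈ A, qaxis j a' = 0 := fun a' ha' => by
    have := congrArg (qaxis j) ((hA a').1 ha' b hb)
    rw [map_mul, map_zero] at this
    exact (mul_eq_zero.1 this).resolve_right hj
  have hij : i ≠ j := fun e => hi (by rw [e]; exact hAj a ha)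
  have hall : ∀ l, l = i ∨ l = j :=
    (by decide : ∀ i j : Fin 2, i ≠ j → ∀ l, l = i ∨ l = j) i j hij
  have hkill : ∀ r, qaxis j r = 0 → r ∈ A := fun r hr => (hA r).2 fun b' hb' => eq_zero_of_qaxis _ fun l => by
    rcases hall l with rfl | rfl
    · rw [map_mul, hBi b' hb', mul_zero]
    · rw [map_mul, hr, zero_mul]
  have hkill' : ∀ r, qaxis i r = 0 → r ∈ B := fun r hr => (hB r).2 fun a' ha' => eq_zero_of_qaxis _ fun l => by
    rcases hall l with rfl | rfl
    · rw [map_mul, hr, zero_mul]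
    · rw [map_mul, hAj a' ha', mul_zero]
  have hX : ∀ l : Fin 2, Ideal.Quotient.mk _ (MvPowerSeries.X l : P) ∈ A ⊔ B := fun l => by
    rcases hall l with rfl | rfl
    · exact Ideal.mem_sup_left (hkill _ (axis_X hij))
    · exact Ideal.mem_sup_right (hkill' _ (axis_X hij.symm))
  rw [← NodalLib.model_span, Ideal.span_le]
  rintro z (rfl | rfl)
  · exact hX 0
  · exact hX 1

/-- Annihilators commute with flat extension. -/
theorem mem_map_of_mul_eq_zero {A C : Type u} [CommRing A] [CommRing C] [Algebra A C] [Module.Flat A C]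
    [IsNoetherianRing A] (a b : Ideal A) (h : ∀ r, r ∈ a ↔ ∀ y ∈ b, r * y = 0) (z : C)
    (hz : ∀ y ∈ b, z * algebraMap A C y = 0) : z ∈ a.map (algebraMap A C) := by
  classical
  obtain ⟨n, g, hg⟩ : ∃ (n : ℕ) (g : Fin n → A), Ideal.span (Set.range g) = b :=
    Submodule.fg_iff_exists_fin_generating_family.1 (IsNoetherian.noetherian b)
  let f : A →ₗ[A] (Fin n → A) := LinearMap.pi fun i => LinearMap.mulRight A (g i)
  have hex : Function.Exact a.subtype f := fun r => by
    rw [Submodule.coe_subtype, Subtype.range_coe_subtype]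
    show f r = 0 ↔ r ∈ a
    rw [h, funext_iff]
    refine ⟨fun hr y hy => ?_, fun hr i => hr _ (hg ▸ Ideal.subset_span ⟨i, rfl⟩)⟩
    rw [← hg] at hy
    induction hy using Submodule.span_induction with
    | mem _ hx => obtain ⟨i, rfl⟩ := hx; exact hr i
    | zero => exact mul_zero _
    | add x y _ _ hx hy => rw [mul_add, hx, hy, add_zero]
    | smul c x _ hx => rw [smul_eq_mul, mul_left_comm, hx, mul_zero]
  have hex' := Module.Flat.lTensor_exact C hex
  have h0 : f.lTensor C (z ⊗ₜ[A] (1 : A)) = 0 := by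
    apply (TensorProduct.piScalarRight A C C (Fin n)).injective
    rw [map_zero]
    funext i
    rw [LinearMap.lTensor_tmul, TensorProduct.piScalarRight_apply, TensorProduct.piScalarRightHom_tmul]
    show (1 * g i) • z = 0
    rw [one_mul, Algebra.smul_def, mul_comm]
    exact hz _ (hg ▸ Ideal.subset_span ⟨i, rfl⟩)
  obtain ⟨t, ht⟩ := (hex' _).1 h0
  have e : ∀ t : TensorProduct A C a,
      (TensorProduct.rid A C) (a.subtype.lTensor C t) ∈ a.map (algebraMap A C) := fun t => by
    induction t using TensorProduct.induction_on with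
    | zero => simp
    | tmul c r =>
      rw [LinearMap.lTensor_tmul, TensorProduct.rid_tmul, Algebra.smul_def]
      exact Ideal.mul_mem_right _ _ (Ideal.mem_map_of_mem _ r.2)
    | add x y hx hy => rw [map_add, map_add]; exact add_mem hx hy
  have := e t
  rwa [ht, TensorProduct.rid_tmul, one_smul] at this

/-- At a node two sides meeting only at the node meet transversally. -/
theorem maximalIdeal_le_sup {A : Type u} [CommRing A] [IsLocalRing A] [IsNoetherianRing A] [Algebra K A]
    (hA : Curv2.IsOrdDoublePt K A) {a b : Ideal A} (ha : a.IsRadical) (hb : b.IsRadical) (hab : a ⊓ b = ⊥)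
    (ha0 : a ≠ ⊥) (hb0 : b ≠ ⊥) (hm : maximalIdeal A ≤ (a ⊔ b).radical) : maximalIdeal A ≤ a ⊔ b := by
  have key : ∀ {a b : Ideal A}, a.IsRadical → a ⊓ b = ⊥ → b ≠ ⊥ → maximalIdeal A ≤ (a ⊔ b).radical →
      ∀ r, r ∈ a ↔ ∀ y ∈ b, r * y = 0 := by
    intro a b ha hab hb0 hm r
    refine ⟨fun hr y hy => (Submodule.mem_bot A).1 (hab ▸ ⟨a.mul_mem_right y hr, b.mul_mem_left r hy⟩), fun hr => ?_⟩
    rw [← ha.radical, Ideal.radical_eq_sInf]
    rw [Submodule.mem_sInf]
    rintro q ⟨hq, hqp⟩
    haveI := hqp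
    by_cases hbq : b ≤ q
    · have h1 : maximalIdeal A ≤ q := hm.trans ((Ideal.IsPrime.radical_le_iff hqp).2 (sup_le hq hbq))
      refine h1 ((mem_maximalIdeal r).2 fun hu => hb0 ((Submodule.eq_bot_iff b).2 fun y hy => ?_))
      exact hu.mul_right_eq_zero.1 (hr y hy)
    · obtain ⟨y, hy, hyq⟩ := SetLike.not_le_iff_exists.1 hbq
      exact (hqp.mem_or_mem (show r * y ∈ q from (hr y hy).symm ▸ zero_mem q)).resolve_right hyq
  have kA := key ha hab hb0 hm
  have kB := key (a := b) (b := a) hb (by rw [inf_comm, hab]) ha0 (by rwa [sup_comm])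
  obtain ⟨e, -⟩ := hA
  let C := AdicCompletion (maximalIdeal A) A
  let φ : A →+* C := algebraMap A C
  haveI : Module.FaithfullyFlat A C := Module.FaithfullyFlat.of_flat_of_isLocalHom
  have hinj : Function.Injective φ := FaithfulSMul.algebraMap_injective A C
  haveI : IsLocalHom (e.symm : Q →+* C) := inferInstance
  let ψ : A →+* Q := (e : C →+* Q).comp φ
  have hann : ∀ {a b : Ideal A}, (∀ r, r ∈ a ↔ ∀ y ∈ b, r * y = 0) →
      ∀ z, z ∈ a.map ψ ↔ ∀ y ∈ b.map ψ, z * y = 0 := by
    intro a b hk z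
    refine ⟨fun hz y hy => ?_, fun hz => ?_⟩
    · have h1 : a.map ψ * b.map ψ = ⊥ := by
        rw [← Ideal.map_mul, ← le_bot_iff, Ideal.map_le_iff_le_comap, Ideal.mul_le]
        intro r hr s hs
        simp [(hk r).1 hr s hs]
      exact (Submodule.mem_bot Q).1 (h1 ▸ Ideal.mul_mem_mul hz hy)
    · have h2 : e.symm z ∈ a.map φ := mem_map_of_mul_eq_zero a b hk _ fun y hy => by
        have := congrArg e.symm (hz (ψ y) (Ideal.mem_map_of_mem ψ hy))
        rw [map_mul, map_zero] at this
        rwa [show e.symm (ψ y) = φ y from e.symm_apply_apply _] at this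
      have := Ideal.mem_map_of_mem (e : C →+* Q) h2
      rw [Ideal.map_map] at this
      rw [show (e : C →+* Q) (e.symm z) = z from e.apply_symm_apply z] at this
      exact this
  have hne : ∀ {a : Ideal A}, a ≠ ⊥ → a.map ψ ≠ ⊥ := fun {a} h0 h => h0 ((Submodule.eq_bot_iff a).2 fun r hr => by
    have : ψ r = 0 := (Submodule.mem_bot Q).1 (h ▸ Ideal.mem_map_of_mem ψ hr)
    exact hinj ((e.injective (this.trans (map_zero e).symm)).trans (map_zero φ).symm))
  have hmodel := sup_model _ _ (hann kA) (hann kB) (hne ha0) (hne hb0)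
  have h1 : maximalIdeal C ≤ (a ⊔ b).map φ := by
    intro z hz
    have hz' : e z ∈ maximalIdeal Q := fun hu => hz (by simpa using hu.map e.symm)
    have h2 := Ideal.mem_map_of_mem (e.symm : Q →+* C) (hmodel hz')
    rw [← Ideal.map_sup, Ideal.map_map] at h2
    have : (e.symm : Q →+* C).comp ψ = φ := RingHom.ext fun r => e.symm_apply_apply _
    rw [this, show (e.symm : Q →+* C) (e z) = z from e.symm_apply_apply z] at h2
    exact h2
  have h3 := Ideal.comap_mono (f := φ) ((NodalLib.completion_map (A := A)).le.trans h1)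
  rwa [Ideal.comap_map_eq_self_of_faithfullyFlat, Ideal.comap_map_eq_self_of_faithfullyFlat] at h3

end Groth.Agent.CanonDual.Branch
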