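import Groth.Agent.CanonDual.GGCrit
import Groth.Agent.CurveEmbed.DegOne
import Groth.Agent.AmpleDev.Nef

/-! The degree of the dualizing module on one component of a nodal curve. -/

set_option autoImplicit false
set_option linter.style.haveILetI false
set_option linter.unusedSectionVars false
set_option backward.isDefEq.respectTransparency false
set_option backward.isDefEq.respectTransparency.types false

universe u

open CategoryTheory CategoryTheory.Limits AlgebraicGeometry TopologicalSpace Opposite

noncomputable section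

namespace Groth.Agent.CanonDual

open Groth.Agent

variable (k : Type u) [Field k]

attribute [local instance] GeomField.globalAlgebra

/-- A proper scheme with finitely many points is affine. -/
theorem isAffine_of_finite_space {P : Scheme.{u}} [P.Over (Spec (CommRingCat.of k))]
    [IsProper (P ↘ Spec (CommRingCat.of k))] [Finite P] : IsAffine P := by
  haveI : LocallyQuasiFinite (P ↘ Spec (CommRingCat.of k)) :=
    (locallyQuasiFinite_iff_finite_preimage_singleton).2 fun y => Set.toFinite _
  haveI : IsFinite (P ↘ Spec (CommRingCat.of k)) := IsFinite.of_locallyQuasiFinite _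
  exact isAffine_of_isAffineHom (P ↘ Spec (CommRingCat.of k))

/-- Functions on a finite scheme over a field of functions. -/
theorem finrank_finite_scheme {P C : Scheme.{u}} [C.Over (Spec (CommRingCat.of k))] [P.Over (Spec (CommRingCat.of k))]
    [IsProper (P ↘ Spec (CommRingCat.of k))] [Finite P]
    (i : P ⟶ C) (hi : i ≫ (C ↘ Spec (CommRingCat.of k)) = P ↘ Spec (CommRingCat.of k))
    (hC : IsField Γ(C, ⊤)) :
    (Module.finrank k (Coh.HH C (Coh.structureModule C) 0) ∣ Module.finrank k (Coh.HH P (Coh.structureModule P) 0)) ∧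
      (Nonempty P →
        Module.finrank k (Coh.HH P (Coh.structureModule P) 0) = Module.finrank k (Coh.HH C (Coh.structureModule C) 0) →
        Subsingleton P ∧ IsReduced P ∧ ∀ c : P, Function.Bijective (C.Γevaluation (i c))) := by
  letI : Field Γ(C, ⊤) := hC.toField
  letI : Algebra Γ(C, ⊤) Γ(P, ⊤) := i.appTop.hom.toAlgebra
  haveI : IsScalarTower k Γ(C, ⊤) Γ(P, ⊤) := IsScalarTower.of_algebraMap_eq' <| by
    show _ = i.appTop.hom.comp ((C ↘ Spec (CommRingCat.of k)).appTop.hom.comp _)
    rw [← RingHom.comp_assoc, ← CommRingCat.hom_comp, ← Scheme.Hom.comp_appTop, hi]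
    rfl
  rw [GeomField.finrank_HH_zero k C, GeomField.finrank_HH_zero k P, ← Module.finrank_mul_finrank k Γ(C, ⊤) Γ(P, ⊤)]
  refine ⟨dvd_mul_right _ _, fun hne heq => ?_⟩
  haveI := isAffine_of_finite_space k (P := P)
  haveI : Nontrivial Γ(P, ⊤) := by
    haveI : Nonempty (⊤ : P.Opens) := ⟨⟨Classical.arbitrary _, trivial⟩⟩
    exact Scheme.component_nontrivial _ ⊤
  have hpos : 0 < Module.finrank k Γ(C, ⊤) * Module.finrank Γ(C, ⊤) Γ(P, ⊤) := by
    haveI := CurveCohLib.isNoetherian_of_proper (k := k) (X := P)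
    haveI := CurveCohLib.finite_HH (k := k) (QCoh.isCoh_structureModule' (X := P)) 0
    haveI : Nontrivial ↑((Coh.toAb (Coh.structureModule P)).obj.obj (op ⊤)) :=
      inferInstanceAs (Nontrivial Γ(P, ⊤))
    haveI : Nontrivial (Coh.HH P (Coh.structureModule P) 0) :=
      (Sheaf.H.equiv₀ (Coh.toAb (Coh.structureModule P)) isTerminalTop).toEquiv.nontrivial
    rw [Module.finrank_mul_finrank, ← GeomField.finrank_HH_zero k P]
    exact Module.finrank_pos
  have h1 : Module.finrank Γ(C, ⊤) Γ(P, ⊤) = 1 := by
    have h2 : Module.finrank k Γ(C, ⊤) ≠ 0 := (Nat.pos_of_mul_pos_right hpos).ne'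
    exact mul_left_cancel₀ h2 (heq.trans (mul_one _).symm)
  have hbij : Function.Bijective (algebraMap Γ(C, ⊤) Γ(P, ⊤)) := by
    refine ⟨RingHom.injective _, fun y => ?_⟩
    obtain ⟨c, hc⟩ := (finrank_eq_one_iff_of_nonzero' (1 : Γ(P, ⊤)) one_ne_zero).1 h1 y
    exact ⟨c, by rw [← hc, Algebra.smul_def, mul_one]⟩
  have hP : IsField Γ(P, ⊤) := MulEquiv.isField hC (RingEquiv.ofBijective _ hbij).symm.toMulEquiv
  letI : Field Γ(P, ⊤) := hP.toField
  haveI : Subsingleton (Spec Γ(P, ⊤)) := inferInstanceAs (Subsingleton (PrimeSpectrum Γ(P, ⊤)))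
  haveI hsub : Subsingleton P := P.isoSpec.hom.homeomorph.injective.subsingleton
  haveI hred : IsReduced P := isReduced_of_isOpenImmersion P.isoSpec.hom
  refine ⟨hsub, hred, fun c => ?_⟩
  have hres : Function.Bijective (P.Γevaluation c) := by
    refine ⟨RingHom.injective _, ?_⟩
    have hrs : Function.Surjective (P.presheaf.germ ⊤ c trivial) := by
      intro y
      obtain ⟨U, hcU, s, rfl⟩ := P.presheaf.exists_germ_eq y
      have hU : U = ⊤ := eq_top_iff.2 fun z _ => by rwa [Subsingleton.elim z c]
      subst hU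
      exact ⟨s, rfl⟩
    exact (P.residue_surjective c).comp hrs
  have hcomp : ∀ g, P.Γevaluation c (i.appTop g) = i.residueFieldMap c (C.Γevaluation (i c) g) := fun g =>
    (congr($(Scheme.Γevaluation_naturality i c) g)).symm
  refine ⟨RingHom.injective _, fun z => ?_⟩
  obtain ⟨w, hw⟩ := hres.2 (i.residueFieldMap c z)
  obtain ⟨g, rfl⟩ := hbij.2 w
  exact ⟨g, (i.residueFieldMap c).hom.injective ((hcomp g).symm.trans hw)⟩

variable {X : Scheme.{u}} [X.Over (Spec (CommRingCat.of k))] [IsProper (X ↘ Spec (CommRingCat.of k))]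

/-- Degree of the dualizing module on a component, with the numerical cases of tails and bridges. -/
theorem component_data (hdim : topologicalKrullDim X = 1)
    (h0 : Module.finrank k (Coh.HH X (Coh.structureModule X) 0) = 1) (hX : Curv2.AtWorstNodal k X)
    [DCoh.HasRpush (X ↘ Spec (CommRingCat.of k))] (h : DCoh.RpushPreservesQCoh (X ↘ Spec (CommRingCat.of k)))
    [DCoh.HasShriek (X ↘ Spec (CommRingCat.of k)) h]
    (OY : DCoh.DQCoh (Spec (CommRingCat.of k)))
    (hOY : Nonempty (OY.obj ≅ DCoh.inD (Spec (CommRingCat.of k)) (Coh.structureModule (Spec (CommRingCat.of k)))))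
    (C : Set X) (hC : C ∈ irreducibleComponents (X : Type u)) :
    ∃ e δ h1 : ℕ, 0 < e ∧ e ∣ δ ∧ e ∣ h1 ∧
      @Curv2.deg k _ (Scheme.IdealSheafData.vanishingIdeal ⟨C, isClosed_of_mem_irreducibleComponents C hC⟩).subscheme
          ⟨(Scheme.IdealSheafData.vanishingIdeal ⟨C, isClosed_of_mem_irreducibleComponents C hC⟩).subschemeι ≫ (X ↘ Spec (CommRingCat.of k))⟩
          ((Scheme.Modules.pullback (Scheme.IdealSheafData.vanishingIdeal ⟨C, isClosed_of_mem_irreducibleComponents C hC⟩).subschemeι).obj
            (DCoh.dualizingMod (X ↘ Spec (CommRingCat.of k)) h OY 1)) 1 = 2 * (h1 : ℤ) - 2 * e + δ ∧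
      (δ = 0 → C = Set.univ ∧ e = 1 ∧ h1 = Curv2.genus k X) ∧
      (h1 = 0 → δ = e → Curv2.IsRationalTail X C hC) ∧
      (h1 = 0 → δ = 2 * e → Curv2.IsRationalBridge k X C hC) := by
  obtain ⟨hXconn, -, hequi⟩ := CurveGenusCmp.oneDim_props k hdim h0
  haveI := hXconn
  haveI := isReduced_of_nodal k hdim.le hX
  haveI := CurveCohLib.isNoetherian_of_proper (k := k) (X := X)
  obtain ⟨hconn, hC1⟩ := component_props hequi C hC
  set IC := Scheme.IdealSheafData.vanishingIdeal ⟨C, isClosed_of_mem_irreducibleComponents C hC⟩ with hICdef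
  letI : IC.subscheme.Over (Spec (CommRingCat.of k)) := ⟨IC.subschemeι ≫ (X ↘ Spec (CommRingCat.of k))⟩
  haveI : IsProper (IC.subscheme ↘ Spec (CommRingCat.of k)) :=
    inferInstanceAs (IsProper (IC.subschemeι ≫ (X ↘ Spec (CommRingCat.of k))))
  haveI hred : IsReduced IC.subscheme := H23.RedSub.isReduced_vanishingIdeal _
  haveI : ConnectedSpace IC.subscheme := hconn
  haveI : IrreducibleSpace IC.subscheme := by
    let e : IC.subscheme ≃ₜ C := IC.subschemeι.isEmbedding.toHomeomorph.trans
      (Homeomorph.setCongr (H23.RedSub.range_vanishingIdeal _))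
    haveI : IrreducibleSpace C := Subtype.irreducibleSpace hC.1
    exact e.symm.surjective.irreducibleSpace e.symm.continuous
  haveI : IsIntegral IC.subscheme := isIntegral_of_irreducibleSpace_of_isReduced _
  have hCl := closedDimOne_of_connected k hC1
  have hdeg := deg_dualizingMod_restrict hdim h0 hX h OY hOY IC hC1
  rw [euler_two hC1.le QCoh.isQCoh_structureModule] at hdeg
  have hker := compl_component k C (isClosed_of_mem_irreducibleComponents C hC)
  rw [← hker] at hdeg
  set IX' := (Scheme.Opens.ι (⟨Cᶜ, (isClosed_of_mem_irreducibleComponents C hC).isOpen_compl⟩ : X.Opens)).ker with hIX'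
  set K := IC ⊔ IX' with hKdef
  have hKs : ∀ y : X, y ∈ (K.support : Set X) → y ∈ (IC.support : Set X) ∧ y ∈ (IX'.support : Set X) := fun y hy => by
    rw [congrArg Scheme.IdealSheafData.support hKdef, Scheme.IdealSheafData.support_sup] at hy
    exact hy
  letI : K.subscheme.Over (Spec (CommRingCat.of k)) := ⟨K.subschemeι ≫ (X ↘ Spec (CommRingCat.of k))⟩
  haveI : IsProper (K.subscheme ↘ Spec (CommRingCat.of k)) :=
    inferInstanceAs (IsProper (K.subschemeι ≫ (X ↘ Spec (CommRingCat.of k))))
  haveI : Finite K.subscheme := by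
    haveI := CurveCohLib.isNoetherian_of_proper (k := k) (X := K.subscheme)
    haveI : T1Space K.subscheme := ⟨fun z => by
      have hz : K.subschemeι z ∈ (K.support : Set X) := by
        rw [← K.range_subschemeι]
        exact ⟨z, rfl⟩
      have h2 : K.subschemeι z ∈ closure ((IC.support : Set X)ᶜ) := by
        have := (hKs _ hz).2
        rw [hker] at this
        exact (Scheme.IdealSheafData.coe_support_vanishingIdeal _).subset this
      have hcl := isClosed_of_mem_inter k (closedDimOne_of_connected k hdim) IC (hKs _ hz).1 h2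
      have h3 : ({z} : Set K.subscheme) = K.subschemeι ⁻¹' {K.subschemeι z} := by
        ext w; simp [K.subschemeι.isEmbedding.injective.eq_iff]
      rw [h3]
      exact hcl.preimage K.subschemeι.continuous⟩
    have hu : (Set.univ : Set K.subscheme) ⊆ ⋃₀ irreducibleComponents (K.subscheme : Type u) := fun z _ =>
      ⟨irreducibleComponent z, irreducibleComponent_mem_irreducibleComponents z, mem_irreducibleComponent⟩
    refine Set.finite_univ_iff.1 ((Set.Finite.sUnion NoetherianSpace.finite_irreducibleComponents fun T hT => ?_).subset hu)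
    obtain ⟨ξ, hξ⟩ := QuasiSober.sober hT.1 (isClosed_of_mem_irreducibleComponents T hT)
    rw [← hξ.def, (isClosed_singleton : IsClosed ({ξ} : Set K.subscheme)).closure_eq]
    exact Set.finite_singleton ξ
  let i : K.subscheme ⟶ IC.subscheme := Scheme.IdealSheafData.inclusion (le_sup_left : IC ≤ K)
  have hi : i ≫ (IC.subscheme ↘ Spec (CommRingCat.of k)) = K.subscheme ↘ Spec (CommRingCat.of k) := by
    show i ≫ IC.subschemeι ≫ _ = K.subschemeι ≫ _
    rw [← Category.assoc, Scheme.IdealSheafData.inclusion_subschemeι]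
  obtain ⟨hdvd, hone⟩ := finrank_finite_scheme k i hi (GeomField.isField_globalFunctions k IC.subscheme)
  rw [finrank_HH_quotMod (k := k) K 0] at hdeg
  set e := Module.finrank k (Coh.HH IC.subscheme (Coh.structureModule IC.subscheme) 0) with hedef
  set δ := Module.finrank k (Coh.HH K.subscheme (Coh.structureModule K.subscheme) 0) with hδdef
  set h1 := Module.finrank k (Coh.HH IC.subscheme (Coh.structureModule IC.subscheme) 1) with hh1def
  have hne : δ ≠ 0 → (IX'.support : Set X).Nonempty ∧ Nonempty K.subscheme := by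
    intro hδ
    have hKne : Nonempty K.subscheme := by
      by_contra hem
      rw [not_nonempty_iff] at hem
      refine hδ ?_
      rw [hδdef, GeomField.finrank_HH_zero k K.subscheme]
      haveI : Subsingleton Γ(K.subscheme, ⊤) := subsingleton_of_forall_eq 0 fun s =>
        K.subscheme.IsSheaf.section_ext fun x _ => (IsEmpty.false x).elim
      exact Module.finrank_zero_of_subsingleton
    refine ⟨?_, hKne⟩
    obtain ⟨z⟩ := hKne
    have hz : K.subschemeι z ∈ (K.support : Set X) := by
      rw [← K.range_subschemeι]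
      exact ⟨z, rfl⟩
    exact ⟨_, (hKs _ hz).2⟩
  have hbundle : Module.finrank k (Coh.HH X (ClSub.quotMod IC) 0) = e := finrank_HH_quotMod (k := k) IC 0
  refine ⟨e, δ, h1, ?_, hdvd, ?_, ?_, fun hd => ?_, fun hh hd => ?_, fun hh hd => ?_⟩
  · exact CurveEmbed.h0_structure_pos k
  · obtain ⟨N, ι, hι, hιf⟩ := exists_embedding (k := k) hC1.le
    haveI := hι
    obtain ⟨ω', tr', -, hω'⟩ := exists_isCoh_isRDualOver k N 1 IC.subscheme ι hιf (by exact_mod_cast hC1.le)
    have := finrank_HH_dualizing hC1 (fun x hx => cm_of_reduced (k := k) hCl x hx) hω' 0 (by omega)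
    rw [hh1def, ← this]
    exact CurveEmbed.h0_structure_dvd k ω'
  · rw [hdeg]
    push_cast
    ring
  · have hd' : Module.finrank k (Coh.HH X (ClSub.quotMod (IC ⊔ compl IC)) 0) = 0 := by
      rw [← hker]
      exact (finrank_HH_quotMod (k := k) K 0).trans hd
    have huniv := support_eq_univ_of_inter_zero (k := k) IC hd'
    rw [hICdef, Scheme.IdealSheafData.coe_support_vanishingIdeal] at huniv
    have hCu : C = Set.univ := huniv
    have hbot : IC = ⊥ := by
      refine le_antisymm ?_ bot_le
      rw [hICdef, show (⟨C, isClosed_of_mem_irreducibleComponents C hC⟩ : Closeds X) = ⊤ from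
        Closeds.ext hCu, Scheme.IdealSheafData.vanishingIdeal_top, Scheme.nilradical_eq_bot]
    haveI := isIso_toSubscheme_bot (W := X)
    have hq : ∀ n, Module.finrank k (Coh.HH X (ClSub.quotMod IC) n) = Module.finrank k (Coh.HH X (Coh.structureModule X) n) :=
      fun n => by
        rw [hbot]
        exact ((CurveCohLib.hhEquiv (k := k) (asIso (ClSub.toSubscheme (⊥ : X.IdealSheafData))) n).finrank_eq).symm
    exact ⟨hCu, by rw [← hbundle, hq 0, h0], (finrank_HH_quotMod (k := k) IC 1).symm.trans (hq 1)⟩
  · obtain ⟨hX', hKne⟩ := hne (by rw [hd]; exact (CurveEmbed.h0_structure_pos k (X := IC.subscheme)).ne')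
    obtain ⟨hsub, hKred, hev⟩ := hone hKne hd
    haveI := CurveCohLib.isNoetherian_of_proper (k := k) (X := IC.subscheme)
    haveI := CurveCohLib.finite_HH (k := k) (QCoh.isCoh_structureModule' (X := IC.subscheme)) 1
    have hs : Subsingleton (Coh.HH IC.subscheme (Coh.structureModule IC.subscheme) 1) := Module.finrank_zero_iff.1 hh
    exact ⟨hX', hKne, hsub, hKred, hev, hs⟩
  · obtain ⟨hX', -⟩ := hne (by
      rw [hd]
      have := CurveEmbed.h0_structure_pos k (X := IC.subscheme)
      omega)
    haveI := CurveCohLib.isNoetherian_of_proper (k := k) (X := IC.subscheme)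
    haveI := CurveCohLib.finite_HH (k := k) (QCoh.isCoh_structureModule' (X := IC.subscheme)) 1
    have hs : Subsingleton (Coh.HH IC.subscheme (Coh.structureModule IC.subscheme) 1) := Module.finrank_zero_iff.1 hh
    refine ⟨hX', ?_, hs⟩
    rw [hbundle, ← hd]
    exact finrank_HH_quotMod (k := k) K 0

end Groth.Agent.CanonDual
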