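import Groth.Agent.CanonDual.Curve
import Groth.Agent.ExtShX.HighTwist
import Groth.Agent.ExtShX.LinearHom
import Groth.Agent.CurveGenusCmp.OneDim
import Groth.Agent.AmpleVan.Tw
import Groth.Agent.GGFF.PicInj
import Groth.Agent.KRRReg.PushOne
import Groth.Agent.Lib.InvEnd
import Groth.Agent.KZ.CycleTensor
import Groth.Prelude.Def_Curv2

/-!
# Duality on proper curves with only constant functions
-/

set_option autoImplicit false
set_option linter.style.haveILetI false
set_option linter.unusedSectionVars false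
set_option backward.isDefEq.respectTransparency false
set_option backward.isDefEq.respectTransparency.types false

universe u

open CategoryTheory CategoryTheory.Limits AlgebraicGeometry TopologicalSpace Opposite

attribute [local instance] HasDerivedCategory.standard

noncomputable section

namespace Groth.Agent.CanonDual

open Groth.Agent

section Modules

variable {X : Scheme.{u}}

theorem twist_comm {M N : X.Modules} (e : CohB1.tensorMod M N ≅ Coh.structureModule X) :
    Nonempty (CohB1.tensorMod N M ≅ Coh.structureModule X) := by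
  obtain ⟨c⟩ := H23.PicMul.comm N M
  exact ⟨c ≪≫ e⟩

/-- The dual of a tensor inverse of `L` is `L`. -/
theorem nonempty_hom_inverse {L N : X.Modules} (e : CohB1.tensorMod L N ≅ Coh.structureModule X) :
    Nonempty ((SheafHomX.hom N).obj (Coh.structureModule X) ≅ L) := by
  obtain ⟨e'⟩ := twist_comm e
  let E : X.Modules ≌ X.Modules := CategoryTheory.Equivalence.mk (AmpleVan.tw N) (AmpleVan.tw L)
    (AmpleVan.twUnit.symm ≪≫ (DCoh.tensorBi (X := X)).flip.mapIso e'.symm ≪≫ (AmpleVan.twComp N L).symm)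
    (AmpleVan.twComp L N ≪≫ (DCoh.tensorBi (X := X)).flip.mapIso e ≪≫ AmpleVan.twUnit)
  obtain ⟨c⟩ := H23.PicMul.comm (Coh.structureModule X) L
  obtain ⟨v⟩ := H23.PicMul.unit L
  exact ⟨(Adjunction.rightAdjointUniq (SheafHomX.adj N) E.toAdjunction).app (Coh.structureModule X) ≪≫ c ≪≫ v⟩

theorem eq_zero_of_conj (F : X.Modules ⥤ X.Modules) [F.Faithful] [F.PreservesZeroMorphisms] {A B A' B' : X.Modules}
    (a : A' ≅ F.obj A) (b : F.obj B ≅ B') (t : A ⟶ B) (h : a.hom ≫ F.map t ≫ b.hom = 0) : t = 0 := by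
  refine F.map_injective ?_
  rw [F.map_zero, ← cancel_epi a.hom, ← cancel_mono b.hom, Category.assoc, h, comp_zero, zero_comp]

theorem exists_hom_of_section {L N : X.Modules} (hL : PicF.IsInvertible L)
    (e : CohB1.tensorMod L N ≅ Coh.structureModule X) (t : Coh.structureModule X ⟶ N) (ht : t ≠ 0) :
    ∃ q : L ⟶ Coh.structureModule X, q ≠ 0 := by
  obtain ⟨e'⟩ := twist_comm e
  obtain ⟨w⟩ := H23.PicMul.comm (Coh.structureModule X) L
  obtain ⟨v⟩ := H23.PicMul.unit L
  let F : X.Modules ⥤ X.Modules := AmpleVan.tw L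
  haveI : F.IsEquivalence := AmpleVan.isEquivalence_tw hL
  let a : L ≅ F.obj (Coh.structureModule X) := (w ≪≫ v).symm
  let b : F.obj N ≅ Coh.structureModule X := e'
  exact ⟨a.hom ≫ F.map t ≫ b.hom, fun h => ht (eq_zero_of_conj F a b t h)⟩

end Modules

variable {k : Type u} [Field k] {X : Scheme.{u}} [X.Over (Spec (CommRingCat.of k))]
  [IsProper (X ↘ Spec (CommRingCat.of k))]

/-- If only the constants are global functions, the local rings at closed points are Cohen–Macaulay
of dimension one. -/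
theorem cm_of_h0 (hdim : topologicalKrullDim X = 1)
    (h0 : Module.finrank k (Coh.HH X (Coh.structureModule X) 0) = 1) :
    ∀ x : X, IsClosed ({x} : Set X) →
      LocCoh.IsCohenMacaulayLocalRing (X.presheaf.stalk x) ∧ ringKrullDim (X.presheaf.stalk x) = (1 : ℕ) := by
  obtain ⟨hconn, hcm, -⟩ := CurveGenusCmp.oneDim_props k hdim h0
  haveI := hconn
  intro x hx
  exact ⟨hcm x, by rw [closedDimOne_of_connected k hdim x hx]; rfl⟩

/-- `H^j(ω) ≅ H^{1-j}(O)^∨` on a Cohen–Macaulay curve. -/
theorem finrank_HH_dualizing (hdim : topologicalKrullDim X = 1)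
    (hCM : ∀ x : X, IsClosed ({x} : Set X) →
      LocCoh.IsCohenMacaulayLocalRing (X.presheaf.stalk x) ∧ ringKrullDim (X.presheaf.stalk x) = (1 : ℕ))
    {ω : X.Modules} {tr : Coh.HH X ω 1 →ₗ[k] k} (hω : Canon.IsRDualOver k X 1 ω tr) (j : ℕ) (hj : j ≤ 1) :
    Module.finrank k (Coh.HH X ω j) = Module.finrank k (Coh.HH X (Coh.structureModule X) (1 - j)) := by
  have hO : FlatMod.IsFinLocFree (Coh.structureModule X) := KRRReg.isFinLocFree_structure X
  obtain ⟨u⟩ := ExtShX.hom_structure_iso ω
  obtain ⟨a⟩ := nonempty_dual_locFree hdim hCM hω hO j hj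
  obtain ⟨b⟩ := ExtShX.nonempty_HH_equiv_of_iso (A := k) (ExtShX.dualTensorIso hO ω ≪≫ u) j
  rw [(b.symm.trans a).finrank_eq, Subspace.dual_finrank_eq]

/-- Endomorphisms of the dualizing module are constants. -/
theorem dualizing_end_scalar (hdim : topologicalKrullDim X = 1)
    (h0 : Module.finrank k (Coh.HH X (Coh.structureModule X) 0) = 1)
    {ω : X.Modules} {tr : Coh.HH X ω 1 →ₗ[k] k} (hω : Canon.IsRDualOver k X 1 ω tr) :
    (𝟙 ω : ω ⟶ ω) ≠ 0 ∧ ∀ g : ω ⟶ ω, ∃ a : k, a • 𝟙 ω = g := by
  have h1 : Module.finrank k (ω ⟶ ω) = 1 := by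
    rw [finrank_hom hω (isCoh_dualizing hdim.le hω).1, finrank_HH_dualizing hdim (cm_of_h0 hdim h0) hω 1 le_rfl]
    exact h0
  have hne : (𝟙 ω : ω ⟶ ω) ≠ 0 := fun e => by
    haveI : Subsingleton (ω ⟶ ω) := ⟨fun a b => by
      rw [← Category.id_comp a, ← Category.id_comp b, e, zero_comp, zero_comp]⟩
    rw [Module.finrank_zero_of_subsingleton] at h1
    exact zero_ne_one h1
  exact ⟨hne, fun g => exists_smul_eq_of_finrank_eq_one h1 hne g⟩

/-- Endomorphisms of the structure sheaf are constants. -/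
theorem structure_end_scalar (h0 : Module.finrank k (Coh.HH X (Coh.structureModule X) 0) = 1) :
    (𝟙 (Coh.structureModule X) : Coh.structureModule X ⟶ _) ≠ 0 ∧
      ∀ g : Coh.structureModule X ⟶ Coh.structureModule X, ∃ a : k, a • 𝟙 (Coh.structureModule X) = g := by
  obtain ⟨e⟩ := ExtShX.exists_hom_HH0 (A := k) (Coh.structureModule X)
  have h1 : Module.finrank k (Coh.structureModule X ⟶ Coh.structureModule X) = 1 := e.finrank_eq.trans h0
  have hne : (𝟙 (Coh.structureModule X) : Coh.structureModule X ⟶ _) ≠ 0 := fun e' => by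
    haveI : Subsingleton (Coh.structureModule X ⟶ Coh.structureModule X) := ⟨fun a b => by
      rw [← Category.id_comp a, ← Category.id_comp b, e', zero_comp, zero_comp]⟩
    rw [Module.finrank_zero_of_subsingleton] at h1
    exact zero_ne_one h1
  exact ⟨hne, fun g => exists_smul_eq_of_finrank_eq_one h1 hne g⟩

/-- A globally generated invertible module with nonzero map to the structure sheaf is trivial. -/
theorem iso_structure_of_gg (h0 : Module.finrank k (Coh.HH X (Coh.structureModule X) 0) = 1)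
    {L : X.Modules} (hL : PicF.IsInvertible L) (hgg : Curv2.IsGloballyGenerated L)
    (q : L ⟶ Coh.structureModule X) (hq : q ≠ 0) : Nonempty (L ≅ Coh.structureModule X) := by
  obtain ⟨ι, p, hp⟩ := hgg
  obtain ⟨-, hsc⟩ := structure_end_scalar (X := X) h0
  obtain ⟨i, hi⟩ : ∃ i, (SheafOfModules.ιFree (R := X.ringCatSheaf) i : Coh.structureModule X ⟶
      (SheafOfModules.free ι : X.Modules)) ≫ p ≫ q ≠ 0 := by
    by_contra hc
    push Not at hc
    refine hq ((cancel_epi p).1 ?_)
    rw [comp_zero]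
    refine Cofan.IsColimit.hom_ext (SheafOfModules.isColimitFreeCofan (R := X.ringCatSheaf) ι) _ _ fun i => ?_
    exact (hc i).trans comp_zero.symm
  obtain ⟨a, ha⟩ := hsc ((SheafOfModules.ιFree (R := X.ringCatSheaf) i : Coh.structureModule X ⟶
      (SheafOfModules.free ι : X.Modules)) ≫ p ≫ q)
  have ha0 : a ≠ 0 := fun e => by
    rw [e, zero_smul] at ha
    exact hi ha.symm
  let j : Coh.structureModule X ⟶ (SheafOfModules.free ι : X.Modules) := SheafOfModules.ιFree i
  let s : Coh.structureModule X ⟶ L := (a⁻¹ : k) • (j ≫ p : Coh.structureModule X ⟶ L)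
  replace ha : a • 𝟙 (Coh.structureModule X) = j ≫ p ≫ q := ha
  haveI : IsSplitEpi q := IsSplitEpi.mk'
    { section_ := s
      id := by
        show ((a⁻¹ : k) • (j ≫ p : Coh.structureModule X ⟶ L)) ≫ q = _
        rw [Linear.smul_comp, Category.assoc, ← ha, smul_smul, inv_mul_cancel₀ ha0, one_smul] }
  haveI := GGFF.isIso_of_epi_invertible hL InvX.isInvertible_structureModule q
  exact ⟨asIso q⟩

/-- `H¹(ω ⊗ L) = 0` for globally generated nontrivial `L`. -/
theorem subsingleton_H1_dualizing_tensor (hdim : topologicalKrullDim X = 1)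
    (h0 : Module.finrank k (Coh.HH X (Coh.structureModule X) 0) = 1)
    {ω : X.Modules} {tr : Coh.HH X ω 1 →ₗ[k] k} (hω : Canon.IsRDualOver k X 1 ω tr)
    {L : X.Modules} (hL : PicF.IsInvertible L) (hgg : Curv2.IsGloballyGenerated L)
    (hnt : IsEmpty (L ≅ Coh.structureModule X)) :
    Subsingleton (Coh.HH X (CohB1.tensorMod ω L) 1) := by
  obtain ⟨N, hN, ⟨e⟩⟩ := H23.PicInv.exists_inverse hL
  obtain ⟨a⟩ := nonempty_dual_locFree hdim (cm_of_h0 hdim h0) hω
    (KZ.CycleClass.isFinLocFree_of_rank (InvEnd.isFinLocFreeOfRank_one hN)) 1 le_rfl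
  obtain ⟨d⟩ := nonempty_hom_inverse e
  obtain ⟨b⟩ := ExtShX.nonempty_HH_equiv_of_iso (A := k) ((DCoh.tensorBi.obj ω).mapIso d) 1
  haveI : Subsingleton (Coh.HH X N (1 - 1)) := by
    obtain ⟨c⟩ := ExtShX.exists_hom_HH0 (A := k) N
    suffices h : ∀ t : Coh.structureModule X ⟶ N, t = 0 by
      haveI : Subsingleton (Coh.structureModule X ⟶ N) := subsingleton_of_forall_eq 0 h
      exact c.symm.toEquiv.subsingleton
    intro t
    by_contra ht
    obtain ⟨t', this⟩ := exists_hom_of_section hL e t ht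
    obtain ⟨iso⟩ := iso_structure_of_gg h0 hL hgg t' this
    exact hnt.false iso
  haveI : Subsingleton (Module.Dual k (Coh.HH X N (1 - 1))) := inferInstance
  exact (b.symm.trans a).toEquiv.subsingleton

end Groth.Agent.CanonDual
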