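import Groth.Agent.CanonDual.GGCrit
import Groth.Agent.CurveFinMap.Mult
import Groth.Agent.AmpleDev.Nef
import Groth.Agent.KFlatLib.Scheme.Pullback

/-! Degrees on reduced curves: ample modules, and modules with a section. -/

set_option autoImplicit false
set_option linter.style.haveILetI false
set_option linter.unusedSectionVars false
set_option backward.isDefEq.respectTransparency false
set_option backward.isDefEq.respectTransparency.types false

universe u

open CategoryTheory CategoryTheory.Limits AlgebraicGeometry TopologicalSpace Opposite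

noncomputable section

namespace Groth.Agent.CanonDual

open Groth.Agent TFQuot

variable {k : Type u} [Field k] {X : Scheme.{u}} [X.Over (Spec (CommRingCat.of k))]
  [IsProper (X ↘ Spec (CommRingCat.of k))]

variable (k) in
include k in
theorem exists_component_dim_one (hdim : topologicalKrullDim X = 1) :
    ∃ C : irreducibleComponents (X : Type u), topologicalKrullDim (C.1 : Set X) = 1 := by
  obtain ⟨y, hy⟩ : ∃ y : X, ¬ IsClosed ({y} : Set X) := by
    by_contra hall
    push Not at hall
    have h0 : topologicalKrullDim X ≤ 0 := Order.krullDim_nonpos_iff_forall_isMax.2 fun A B hAB => by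
      obtain ⟨ξ, hξ⟩ := QuasiSober.sober B.isIrreducible B.isClosed
      have hB : (B : Set X) = {ξ} := by rw [← hξ.def, (hall ξ).closure_eq]
      intro z hz
      obtain ⟨a, ha⟩ := A.isIrreducible.nonempty
      have hz' : z ∈ ({ξ} : Set X) := hB ▸ (SetLike.mem_coe.2 hz)
      have ha' : a ∈ ({ξ} : Set X) := hB ▸ (SetLike.mem_coe.2 (hAB ha))
      rw [Set.mem_singleton_iff.1 hz', ← Set.mem_singleton_iff.1 ha']
      exact ha
    rw [hdim] at h0
    exact absurd h0 (by decide)
  let C : irreducibleComponents (X : Type u) :=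
    ⟨irreducibleComponent y, irreducibleComponent_mem_irreducibleComponents y⟩
  refine ⟨C, CurveFinMap.dim_eq_one hdim.le isClosed_irreducibleComponent
    (CurveFinMap.isGenericPoint_gpt C) fun hc => hy ?_⟩
  have h := (CurveFinMap.isGenericPoint_gpt C).def
  rw [hc.closure_eq] at h
  have hyC : y ∈ ({CurveFinMap.gpt C} : Set X) := h.symm ▸ mem_irreducibleComponent
  rw [Set.mem_singleton_iff.1 hyC]
  exact hc

variable (k) in
include k in
/-- An ample module has positive degree. -/
theorem deg_pos_of_ample (hdim : topologicalKrullDim X = 1) {L : X.Modules} (hL : CohB1.IsAmple L) :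
    0 < Curv2.deg k X L 1 := by
  classical
  haveI := CurveCohLib.isNoetherian_of_proper (k := k) (X := X)
  haveI : Finite (irreducibleComponents (X : Type u)) :=
    (NoetherianSpace.finite_irreducibleComponents).to_subtype
  letI := Fintype.ofFinite (irreducibleComponents (X : Type u))
  rw [CurveFinMap.deg_eq_sum k hdim.le (InvEnd.isFinLocFreeOfRank_one hL.1), finsum_eq_sum_of_fintype]
  have hpos : ∀ C : irreducibleComponents (X : Type u), topologicalKrullDim (C.1 : Set X) = 1 →
      0 < @Curv2.deg k _ (X.irreducibleComponentIdeal C.1 C.2).radical.subscheme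
        ⟨(X.irreducibleComponentIdeal C.1 C.2).radical.subschemeι ≫ (X ↘ Spec (CommRingCat.of k))⟩
        ((Scheme.Modules.pullback (X.irreducibleComponentIdeal C.1 C.2).radical.subschemeι).obj L) 1 := by
    intro C hC
    have hIv : (X.irreducibleComponentIdeal C.1 C.2).radical =
        Scheme.IdealSheafData.vanishingIdeal (Closeds.closure {CurveFinMap.gpt C}) := by
      rw [← Scheme.IdealSheafData.vanishingIdeal_support]
      exact congrArg _ (Closeds.ext (CurveFinMap.isGenericPoint_gpt C).def.symm)
    haveI : IsIntegral (X.irreducibleComponentIdeal C.1 C.2).radical.subscheme :=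
      hIv ▸ QCoh.isIntegral_closure_point _
    exact AmpleDev.deg_pos_on_curve k hL _ hC
  have hlen : ∀ C : irreducibleComponents (X : Type u),
      0 < (Module.length (X.presheaf.stalk (CurveFinMap.gpt C)) (X.presheaf.stalk (CurveFinMap.gpt C))).toNat := by
    intro C
    have hfin : Module.length (X.presheaf.stalk (CurveFinMap.gpt C)) ((Coh.structureModule X).presheaf.stalk (CurveFinMap.gpt C)) < ⊤ :=
      CycLib.length_stalk_lt_top _ (QCoh.isCoh_structureModule' (X := X)) fun y _ hy =>
        CurveFinMap.eq_of_specializes_generic C.2 (CurveFinMap.isGenericPoint_gpt C) hy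
    rw [H23.ClosedPushLen.length_structureModule] at hfin
    rw [Nat.pos_iff_ne_zero, ne_eq, ENat.toNat_eq_zero, not_or]
    exact ⟨fun h => not_subsingleton (X.presheaf.stalk (CurveFinMap.gpt C)) (Module.length_eq_zero_iff.1 h), hfin.ne⟩
  obtain ⟨C₁, hC₁⟩ := exists_component_dim_one k hdim
  refine Finset.sum_pos' (fun C _ => ?_) ⟨C₁, Finset.mem_univ _, ?_⟩
  · split_ifs with hC
    · exact mul_nonneg (Int.natCast_nonneg _) (hpos C hC).le
    · exact le_rfl
  · rw [if_pos hC₁]
    exact mul_pos (Int.natCast_pos.2 (hlen C₁)) (hpos C₁ hC₁)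

/-- Degree is additive. -/
theorem deg_tensorMod (hdim : topologicalKrullDim X ≤ 1) {A B : X.Modules} (hA : PicF.IsInvertible A)
    (hB : PicF.IsInvertible B) :
    Curv2.deg k X (CohB1.tensorMod A B) 1 = Curv2.deg k X A 1 + Curv2.deg k X B 1 := by
  haveI := CurveCohLib.isNoetherian_of_proper (k := k) (X := X)
  have h := CurvePsi.deg_tensor_locFree k hdim
    (InvEnd.isFinLocFreeOfRank_one hA) (InvEnd.isFinLocFreeOfRank_one hB)
  simp only [Nat.cast_one, mul_one, one_mul] at h
  change Curv2.deg k X ((DCoh.tensorBi.obj A).obj B) 1 = _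
  rw [h]
  ring

/-- A section invertible off finitely many closed points has non-negative degree. -/
theorem deg_nonneg_of_iso_off [AlgebraicGeometry.IsReduced X] (hdim : topologicalKrullDim X ≤ 1)
    (hX : Proj16.ClosedDimOne X) {L : X.Modules} (hL : PicF.IsInvertible L)
    (s : Coh.structureModule X ⟶ L) {D : Set X} (hD : ∀ x ∈ D, IsClosed ({x} : Set X))
    (hs : ∀ x ∉ D, Function.Bijective (st s x)) : 0 ≤ Curv2.deg k X L 1 := by
  haveI := CurveCohLib.isNoetherian_of_proper (k := k) (X := X)
  have hLc : Coh.IsCoh L := CurveDeg.isCoh_of_isInvertible hL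
  have hgen : ∀ η ∈ genericPoints X, η ∉ D := fun η hη hηD => by
    have h0 := (VarDim.closedPoint_iff_deg_eq_zero (X ↘ Spec (CommRingCat.of k)) η).1 (hD η hηD)
    rw [(Proj16.closedDimOne_iff_deg (X ↘ Spec (CommRingCat.of k))).1 hX η (isMaximal_of_generic hη)] at h0
    exact one_ne_zero h0
  haveI : Mono s := by
    refine Preadditive.mono_of_kernel_zero (TFQuot.hom_eq_zero QCoh.isQCoh_structureModule
      (torsionFree_invertible InvX.isInvertible_structureModule) _ fun η hη v => ?_)
    refine (hs η (hgen η hη)).1 ?_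
    rw [← TFQuot.st_comp, kernel.condition, TFQuot.st_zero, map_zero]
  have hQ : Coh.IsCoh (cokernel s) := QCoh.isCoh_cokernel QCoh.isQCoh_structureModule hLc s
  have hsupp : ∀ x ∈ CohB1.support (cokernel s), IsClosed ({x} : Set X) := fun x hx => hD x (by
    by_contra hxD
    let F := DerSch.stalkFunctor X x
    haveI : Epi (F.map s) := (ModuleCat.epi_iff_surjective _).2 (hs x hxD).2
    exact hx (ModuleCat.subsingleton_of_isZero
      ((isZero_cokernel_of_epi (F.map s)).of_iso (PreservesCokernel.iso F s))))
  have he := TFQuot.euler_epi k hLc hQ (cokernel.π s)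
  have hk : Curv2.euler k X (Coh.structureModule X) = Curv2.euler k X (kernel (cokernel.π s)) :=
    Euler.euler_congr k (asIso (Abelian.factorThruImage s))
  rw [CurveCohLib.euler_eq_finrank_zero hQ hsupp, ← hk] at he
  unfold Curv2.deg
  rw [he]
  push_cast
  linarith [Nat.cast_nonneg (α := ℤ) (Module.finrank k (Coh.HH X (cokernel s) 0))]

/-- Bijectivity on stalks passes to pullbacks. -/
theorem bijective_st_pullback {Z : Scheme.{u}} (i : Z ⟶ X) {M N : X.Modules} (f : M ⟶ N) (z : Z)
    (h : Function.Bijective (st f (i z))) :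
    Function.Bijective (st ((Scheme.Modules.pullback i).map f) z) := by
  haveI : IsIso (st f (i z)) := (ConcreteCategory.isIso_iff_bijective _).2 h
  haveI : IsIso ((Scheme.Modules.pullback i ⋙ DerSch.stalkFunctor Z z).map f) := by
    rw [NatIso.isIso_map_iff (KFlatLib.stalkPullbackIso i z)]
    exact inferInstanceAs (IsIso ((ModuleCat.extendScalars (i.stalkMap z).hom).map (st f (i z))))
  exact ConcreteCategory.bijective_of_isIso ((Scheme.Modules.pullback i ⋙ DerSch.stalkFunctor Z z).map f)

variable (k) in
include k in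
theorem isClosed_of_mem_finite {D : Set X} (hfin : D.Finite) (hcl : IsClosed D) {x : X} (hx : x ∈ D) :
    IsClosed ({x} : Set X) := by
  haveI : JacobsonSpace X := LocallyOfFiniteType.jacobsonSpace (X ↘ Spec (CommRingCat.of k))
  haveI : JacobsonSpace D := JacobsonSpace.of_isClosedEmbedding hcl.isClosedEmbedding_subtypeVal
  haveI : Finite D := hfin
  have h := hcl.isClosedEmbedding_subtypeVal.isClosedMap _ (isClosed_discrete ({⟨x, hx⟩} : Set D))
  rwa [Set.image_singleton] at h

variable (k) in
include k in
/-- The inverse of an ideal has a section invertible off its support. -/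
theorem exists_section_of_inverse {L : X.Modules} (hL : PicF.IsInvertible L) (I : X.IdealSheafData)
    (hinv : ClSub.IsInverseOf L (ClSub.idealMod I)) :
    ∃ s : Coh.structureModule X ⟶ L, ∀ x ∉ (I.support : Set X), Function.Bijective (st s x) := by
  haveI := CurveCohLib.isNoetherian_of_proper (k := k) (X := X)
  obtain ⟨e⟩ := hinv
  have hLf : FlatMod.IsFinLocFree L := fun y =>
    let ⟨W, hy, he⟩ := InvEnd.isFinLocFreeOfRank_one hL y; ⟨W, 1, hy, he⟩
  haveI := epi_toSubscheme I
  have hS0 : (ShortComplex.mk (ClSub.idealModι I) (ClSub.toSubscheme I) (kernel.condition _)).ShortExact :=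
    CurveSlope.shortExact_kernel_of_epi _
  have hS := CurveTensor.shortExact_tensor hLf _ _ _ hS0
  let s : Coh.structureModule X ⟶ L :=
    e.inv ≫ (DCoh.tensorBi.obj L).map (ClSub.idealModι I) ≫ (KFlatLib.tensorUnitIso L).hom
  refine ⟨s, fun x hx => ?_⟩
  haveI := hS.mono_f
  haveI : IsIso ((DerSch.stalkFunctor X x).map ((DCoh.tensorBi.obj L).map (ClSub.idealModι I))) := by
    refine (ConcreteCategory.isIso_iff_bijective _).2 ⟨TFQuot.st_injective _ x, fun w => ?_⟩
    have hS2 := hS.map_of_exact (DerSch.stalkFunctor X x)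
    haveI : Subsingleton ((DerSch.stalkFunctor X x).obj ((DCoh.tensorBi.obj L).obj (ClSub.quotMod I))) :=
      not_not.1 fun h => CurveTensor.support_tensor_subset h (ParShLib.subsingleton_stalk_quotMod I hx)
    obtain ⟨t, ht⟩ := (ShortComplex.moduleCat_exact_iff _).1 hS2.exact w
      (Subsingleton.elim (α := (DerSch.stalkFunctor X x).obj ((DCoh.tensorBi.obj L).obj (ClSub.quotMod I))) _ _)
    exact ⟨t, ht⟩
  show Function.Bijective ((DerSch.stalkFunctor X x).map s)
  haveI : IsIso ((DerSch.stalkFunctor X x).map s) := by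
    simp only [s, Functor.map_comp]
    infer_instance
  exact ConcreteCategory.bijective_of_isIso _

variable (k) in
include k in
/-- The divisor of finitely many points has non-negative degree on every subcurve. -/
theorem deg_restrict_nonneg_of_inverse {L : X.Modules} (hL : PicF.IsInvertible L) {D : Set X} (hfin : D.Finite)
    (hcl : IsClosed D) (hinv : ClSub.IsInverseOf L (ClSub.idealMod (Scheme.IdealSheafData.vanishingIdeal ⟨D, hcl⟩)))
    (J : X.IdealSheafData) [AlgebraicGeometry.IsReduced J.subscheme] [ConnectedSpace J.subscheme]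
    (hJ : topologicalKrullDim J.subscheme = 1) :
    0 ≤ @Curv2.deg k _ J.subscheme ⟨J.subschemeι ≫ (X ↘ Spec (CommRingCat.of k))⟩
      ((Scheme.Modules.pullback J.subschemeι).obj L) 1 := by
  letI : J.subscheme.Over (Spec (CommRingCat.of k)) := ⟨J.subschemeι ≫ (X ↘ Spec (CommRingCat.of k))⟩
  haveI : IsProper (J.subscheme ↘ Spec (CommRingCat.of k)) :=
    inferInstanceAs (IsProper (J.subschemeι ≫ (X ↘ Spec (CommRingCat.of k))))
  obtain ⟨s, hs⟩ := exists_section_of_inverse k hL _ hinv
  obtain ⟨e⟩ := PicClLib.nonempty_pullback_structureModule J.subschemeι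
  refine deg_nonneg_of_iso_off hJ.le (closedDimOne_of_connected k hJ) (PicClLib.isInvertible_pullback _ hL)
    (e.inv ≫ (Scheme.Modules.pullback J.subschemeι).map s) (D := J.subschemeι ⁻¹' D) (fun z hz => ?_) fun z hz => ?_
  · have h := isClosed_of_mem_finite k hfin hcl hz
    have h2 : ({z} : Set J.subscheme) = J.subschemeι ⁻¹' {J.subschemeι z} :=
      by ext w; simp [J.subschemeι.isEmbedding.injective.eq_iff]
    rw [h2]
    exact h.preimage J.subschemeι.continuous
  · have h1 := bijective_st_pullback J.subschemeι s z (hs _ (by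
      rw [Scheme.IdealSheafData.coe_support_vanishingIdeal]
      exact hz))
    haveI : IsIso (st ((Scheme.Modules.pullback J.subschemeι).map s) z) :=
      (ConcreteCategory.isIso_iff_bijective _).2 h1
    show Function.Bijective ((DerSch.stalkFunctor J.subscheme z).map (e.inv ≫ (Scheme.Modules.pullback J.subschemeι).map s))
    haveI : IsIso ((DerSch.stalkFunctor J.subscheme z).map (e.inv ≫ (Scheme.Modules.pullback J.subschemeι).map s)) := by
      rw [Functor.map_comp]
      infer_instance
    exact ConcreteCategory.bijective_of_isIso _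

end Groth.Agent.CanonDual
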