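import Groth.Agent.CanonDual.CurveOne
import Groth.Agent.Lib.CurveTensor

/-!
# Euler characteristic of the dualizing module
-/

set_option autoImplicit false
set_option linter.style.haveILetI false
set_option linter.unusedSectionVars false
set_option backward.isDefEq.respectTransparency false
set_option backward.isDefEq.respectTransparency.types false

universe u

open CategoryTheory CategoryTheory.Limits AlgebraicGeometry TopologicalSpace Opposite

noncomputable section

namespace Groth.Agent.CanonDual

open Groth.Agent

variable {k : Type u} [Field k] {X : Scheme.{u}} [X.Over (Spec (CommRingCat.of k))]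
  [IsProper (X ↘ Spec (CommRingCat.of k))]

theorem euler_two (hdim : topologicalKrullDim X ≤ 1) {M : X.Modules} (hM : Coh.IsQCoh M) :
    Curv2.euler k X M = (Module.finrank k (Coh.HH X M 0) : ℤ) - Module.finrank k (Coh.HH X M 1) := by
  rw [CurveCohLib.euler_eq_sum (k := k) (N := 2) fun i hi => subsingleton_HH_curve k hdim hM (by omega),
    Finset.sum_range_succ, Finset.sum_range_one]
  simp [sub_eq_add_neg]

/-- `χ(ω) = -χ(O)`. -/
theorem euler_dualizing (hdim : topologicalKrullDim X = 1)
    (hCM : ∀ x : X, IsClosed ({x} : Set X) →
      LocCoh.IsCohenMacaulayLocalRing (X.presheaf.stalk x) ∧ ringKrullDim (X.presheaf.stalk x) = (1 : ℕ))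
    {ω : X.Modules} {tr : Coh.HH X ω 1 →ₗ[k] k} (hω : Canon.IsRDualOver k X 1 ω tr) :
    Curv2.euler k X ω = - Curv2.euler k X (Coh.structureModule X) := by
  rw [euler_two hdim.le hω.1, euler_two hdim.le QCoh.isQCoh_structureModule,
    finrank_HH_dualizing hdim hCM hω 0 (by omega), finrank_HH_dualizing hdim hCM hω 1 le_rfl]
  simp

end Groth.Agent.CanonDual
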