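import Groth.Agent.CanonDual.Deg
import Groth.Agent.CanonDual.Euler
import Groth.Agent.Lib.CurveSection

/-! Pointed nodal curves: degrees of the twisted dualizing module. -/

set_option autoImplicit false
set_option linter.style.haveILetI false
set_option linter.unusedSectionVars false
set_option backward.isDefEq.respectTransparency false
set_option backward.isDefEq.respectTransparency.types false

universe u

open CategoryTheory CategoryTheory.Limits AlgebraicGeometry TopologicalSpace Opposite

noncomputable section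

namespace Groth.Agent.CanonDual

open Groth.Agent

variable {k : Type u} [Field k] {X : Scheme.{u}} [X.Over (Spec (CommRingCat.of k))]
  [IsProper (X ↘ Spec (CommRingCat.of k))]

/-- Near one of finitely many closed points the maximal ideal kills the reduced subscheme on them. -/
theorem smul_stalk_quot_finite {D : Set X} (hfin : D.Finite) (hcl : IsClosed D)
    (hD : ∀ y ∈ D, IsClosed ({y} : Set X)) (x : X)
    {a : X.presheaf.stalk x} (ha : a ∈ IsLocalRing.maximalIdeal (X.presheaf.stalk x))
    (q : (DerSch.stalkFunctor X x).obj (ClSub.quotMod (Scheme.IdealSheafData.vanishingIdeal ⟨D, hcl⟩))) : a • q = 0 := by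
  revert q
  set Z := Scheme.IdealSheafData.vanishingIdeal ⟨D, hcl⟩ with hZ
  intro q
  have hcl' : IsClosed (D \ {x}) := by
    rw [← Set.biUnion_of_singleton (D \ {x})]
    exact (hfin.subset Set.sdiff_subset).isClosed_biUnion fun y hy => hD y hy.1
  obtain ⟨V, hxV, r, rfl⟩ := X.presheaf.exists_germ_eq a
  obtain ⟨U, hxU, s, rfl⟩ := TopCat.Presheaf.exists_germ_eq (ClSub.quotMod Z).presheaf q
  obtain ⟨_, ⟨W, hW, rfl⟩, hxW, hWle⟩ :=
    X.isBasis_affineOpens.exists_subset_of_mem_open
      (show x ∈ (V : Set X) ∩ (U : Set X) ∩ (D \ {x})ᶜ from ⟨⟨hxV, hxU⟩, fun h => h.2 rfl⟩)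
      ((V.2.inter U.2).inter hcl'.isOpen_compl)
  have hWV : W ≤ V := fun y hy => (hWle hy).1.1
  have hWU : W ≤ U := fun y hy => (hWle hy).1.2
  rw [← X.presheaf.germ_res_apply (homOfLE hWV) x hxW r] at ha ⊢
  rw [← (ClSub.quotMod Z).presheaf.germ_res_apply (homOfLE hWU) x hxW s]
  set f := X.presheaf.map (homOfLE hWV).op r
  set s' := (ClSub.quotMod Z).presheaf.map (homOfLE hWU).op s
  have hfx : x ∉ X.basicOpen f := fun h =>
    IsLocalRing.notMem_maximalIdeal.2 ((X.mem_basicOpen f x hxW).1 h) ha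
  have hf : f ∈ Z.ideal ⟨W, hW⟩ := by
    rw [hZ, Scheme.IdealSheafData.vanishingIdeal_ideal, PrimeSpectrum.mem_vanishingIdeal]
    intro P hP
    by_contra hfP
    have h1 : P ∈ hW.fromSpec ⁻¹ᵁ X.basicOpen f := by
      rw [hW.fromSpec_preimage_basicOpen]
      exact hfP
    have hPW : hW.fromSpec P ∈ W := X.basicOpen_le f h1
    have h2 : hW.fromSpec P = x := by
      by_contra hne
      exact (hWle hPW).2 ⟨hP, hne⟩
    exact hfx (h2 ▸ h1)
  have hfs : (f • s' : Γ(ClSub.quotMod Z, W)) = 0 := by
    have h0 : Z.subschemeι.app W f = 0 := by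
      rw [← RingHom.mem_ker]
      exact (Z.ker_subschemeι_app ⟨W, hW⟩).ge hf
    show (Z.subschemeι.app W f * (show Γ(Z.subscheme, Z.subschemeι ⁻¹ᵁ W) from s') :
      Γ(Z.subscheme, Z.subschemeι ⁻¹ᵁ W)) = 0
    rw [h0, zero_mul]
  exact ((QCoh.germ_smul' (ClSub.quotMod Z) hxW f s').symm.trans
    (congrArg ((ClSub.quotMod Z).presheaf.germ W x hxW) hfs)).trans (map_zero _)

variable (k) in
include k in
/-- Reduced points contribute one each. -/
theorem euler_quot_finite [IsAlgClosed k] {D : Set X} (hfin : D.Finite) (hcl : IsClosed D) :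
    Curv2.euler k X (ClSub.quotMod (Scheme.IdealSheafData.vanishingIdeal ⟨D, hcl⟩)) = (Nat.card D : ℤ) := by
  classical
  haveI := CurveCohLib.isNoetherian_of_proper (k := k) (X := X)
  have hD : ∀ y ∈ D, IsClosed ({y} : Set X) := fun y hy => isClosed_of_mem_finite k hfin hcl hy
  set I := Scheme.IdealSheafData.vanishingIdeal ⟨D, hcl⟩ with hI
  let Q := ClSub.quotMod I
  have hI' : (I.support : Set X) = D := by
    rw [hI, Scheme.IdealSheafData.coe_support_vanishingIdeal]
    rfl
  have hsupp : CohB1.support Q ⊆ D := fun y hy => by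
    by_contra h
    exact hy (ParShLib.subsingleton_stalk_quotMod I (show y ∉ (I.support : Set X) by rwa [hI']))
  obtain ⟨h, hfin'⟩ := CurveCohLib.euler_eq_sum_stalks (k := k) (ParShLib.isCoh_quotMod I)
    (fun y hy => hD y (hsupp hy)) hfin.toFinset (by simpa using hsupp)
  rw [h, Nat.card_coe_set_eq, Set.ncard_eq_toFinset_card D hfin]
  have h1 : ∀ p ∈ hfin.toFinset,
      (letI := CurveCohLib.stalkModuleK k Q p; Module.finrank k (Q.presheaf.stalk p)) = 1 := fun p hp => by
    letI := CurveCohLib.stalkModuleK k Q p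
    haveI := hfin' p hp
    have hpD := hfin.mem_toFinset.1 hp
    haveI : Nontrivial (Q.presheaf.stalk p) := not_subsingleton_iff_nontrivial.1
      (CurveCohLib.GlobGen.nontrivial_stalk_quotMod I (show p ∈ (I.support : Set X) by rw [hI']; exact hpD))
    obtain ⟨q₀, hq₀⟩ : ∃ q₀ : Q.presheaf.stalk p, ∀ q, ∃ a : X.presheaf.stalk p, q = a • q₀ :=
      ParShLib.exists_germ_smul I p
    let L : k →ₗ[k] Q.presheaf.stalk p :=
      { toFun := fun c => Curv2.stalkMap k X p c • q₀
        map_add' := fun c d => by rw [map_add, add_smul]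
        map_smul' := fun a c => by
          show Curv2.stalkMap k X p (a * c) • q₀ = Curv2.stalkMap k X p a • (Curv2.stalkMap k X p c • q₀)
          rw [map_mul, mul_smul] }
    have hL : Function.Surjective L := fun q => by
      obtain ⟨a, ha⟩ := hq₀ q
      obtain ⟨c, hc⟩ := CurveSection.exists_stalkMap_sub_mem k (hD p hpD) a
      refine ⟨c, ?_⟩
      have h0 : (a - Curv2.stalkMap k X p c) • q₀ = 0 := smul_stalk_quot_finite hfin hcl hD p hc q₀
      rw [sub_smul, sub_eq_zero] at h0
      exact h0.symm.trans (ha.symm : a • q₀ = q)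
    have h1 := LinearMap.finrank_le_finrank_of_surjective hL
    have h2 : 0 < Module.finrank k (Q.presheaf.stalk p) := Module.finrank_pos
    rw [Module.finrank_self] at h1
    omega
  rw [Finset.sum_congr rfl fun p hp => by rw [h1 p hp]]
  simp

variable (k) in
include k in
theorem deg_inverse_points [IsAlgClosed k] {L : X.Modules} (hL : PicF.IsInvertible L) {D : Set X} (hfin : D.Finite)
    (hcl : IsClosed D) (hinv : ClSub.IsInverseOf L (ClSub.idealMod (Scheme.IdealSheafData.vanishingIdeal ⟨D, hcl⟩))) :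
    Curv2.deg k X L 1 = (Nat.card D : ℤ) := by
  haveI := CurveCohLib.isNoetherian_of_proper (k := k) (X := X)
  set I := Scheme.IdealSheafData.vanishingIdeal ⟨D, hcl⟩ with hI
  obtain ⟨e⟩ := hinv
  have hL1 := InvEnd.isFinLocFreeOfRank_one hL
  have hLf : FlatMod.IsFinLocFree L := fun y => let ⟨W, hy, he⟩ := hL1 y; ⟨W, 1, hy, he⟩
  haveI := epi_toSubscheme I
  have hS0 : (ShortComplex.mk (ClSub.idealModι I) (ClSub.toSubscheme I) (kernel.condition _)).ShortExact :=
    CurveSlope.shortExact_kernel_of_epi _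
  have hS := CurveTensor.shortExact_tensor hLf _ _ _ hS0
  have hQ : Coh.IsCoh (ClSub.quotMod I) := ParShLib.isCoh_quotMod I
  have hsupp : ∀ y ∈ CohB1.support (ClSub.quotMod I), IsClosed ({y} : Set X) := fun y hy => by
    refine isClosed_of_mem_finite k hfin hcl ?_
    by_contra h
    refine hy (ParShLib.subsingleton_stalk_quotMod I (show y ∉ (I.support : Set X) from ?_))
    rw [hI, Scheme.IdealSheafData.coe_support_vanishingIdeal]
    exact h
  have hadd := Euler.euler_add k hS
    (CurveTensor.isCoh_tensor hLf (QCoh.isCoh_kernel QCoh.isCoh_structureModule' hQ _))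
    (CurveTensor.isCoh_tensor hLf QCoh.isCoh_structureModule') (CurveTensor.isCoh_tensor hLf hQ)
  dsimp only at hadd
  rw [Euler.euler_congr k (KFlatLib.tensorUnitIso L),
    show Curv2.euler k X ((DCoh.tensorBi.obj L).obj (ClSub.idealMod I)) = Curv2.euler k X (Coh.structureModule X) from
      Euler.euler_congr k e,
    CurveTensor.euler_tensor_torsion (k := k) hL1 hQ hsupp, euler_quot_finite k hfin hcl] at hadd
  unfold Curv2.deg
  push_cast at hadd ⊢
  linarith

/-- The twisted dualizing module of a pointed nodal curve on a subcurve. -/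
theorem pointed_data [IsAlgClosed k] [ConnectedSpace X] (hdim : topologicalKrullDim X = 1)
    (hX : Curv2.AtWorstNodal k X)
    [DCoh.HasRpush (X ↘ Spec (CommRingCat.of k))] (h : DCoh.RpushPreservesQCoh (X ↘ Spec (CommRingCat.of k)))
    [DCoh.HasShriek (X ↘ Spec (CommRingCat.of k)) h]
    (OY : DCoh.DQCoh (Spec (CommRingCat.of k)))
    (hOY : Nonempty (OY.obj ≅ DCoh.inD (Spec (CommRingCat.of k)) (Coh.structureModule (Spec (CommRingCat.of k)))))
    {D : Set X} (hfin : D.Finite) (hcl : IsClosed D) {LD : X.Modules} (hLD : PicF.IsInvertible LD)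
    (hinv : ClSub.IsInverseOf LD (ClSub.idealMod (Scheme.IdealSheafData.vanishingIdeal ⟨D, hcl⟩))) :
    PicF.IsInvertible (CohB1.tensorMod (DCoh.dualizingMod (X ↘ Spec (CommRingCat.of k)) h OY 1) LD) ∧
    Curv2.deg k X (CohB1.tensorMod (DCoh.dualizingMod (X ↘ Spec (CommRingCat.of k)) h OY 1) LD) 1 =
      2 * (Curv2.genus k X : ℤ) - 2 + (Nat.card D : ℤ) ∧
    ∀ J : X.IdealSheafData, AlgebraicGeometry.IsReduced J.subscheme → ConnectedSpace J.subscheme →
      topologicalKrullDim J.subscheme = 1 →
      -2 * @Curv2.euler k _ J.subscheme ⟨J.subschemeι ≫ (X ↘ Spec (CommRingCat.of k))⟩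
          (Coh.structureModule J.subscheme) ≤
        @Curv2.deg k _ J.subscheme ⟨J.subschemeι ≫ (X ↘ Spec (CommRingCat.of k))⟩
          ((Scheme.Modules.pullback J.subschemeι).obj
            (CohB1.tensorMod (DCoh.dualizingMod (X ↘ Spec (CommRingCat.of k)) h OY 1) LD)) 1 := by
  haveI := isReduced_of_nodal k hdim.le hX
  have h0 := SurfRR.finrank_h0_reduced k (X := X)
  obtain ⟨tr, hω⟩ := exists_isRDualOver_dualizingMod h OY hOY (d := 1)
    (fun M hM q hq => subsingleton_HH_curve k hdim.le hM hq)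
  have hinvω := isInvertible_dualizing_nodal hdim h0 hX hω
  refine ⟨InvX.isInvertible_tensorMod hinvω hLD, ?_, fun J h₁ h₂ h₃ => ?_⟩
  · rw [deg_tensorMod hdim.le hinvω hLD, deg_inverse_points k hLD hfin hcl hinv]
    unfold Curv2.deg
    rw [euler_dualizing hdim (fun x hx => cm_of_reduced (k := k) (closedDimOne_of_connected k hdim) x hx) hω,
      euler_two hdim.le QCoh.isQCoh_structureModule, h0]
    unfold Curv2.genus
    push_cast
    ring
  · haveI := h₁
    haveI := h₂
    letI : J.subscheme.Over (Spec (CommRingCat.of k)) := ⟨J.subschemeι ≫ (X ↘ Spec (CommRingCat.of k))⟩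
    haveI : IsProper (J.subscheme ↘ Spec (CommRingCat.of k)) :=
      inferInstanceAs (IsProper (J.subschemeι ≫ (X ↘ Spec (CommRingCat.of k))))
    obtain ⟨he, -⟩ := deg_dualizing_subcurve (k := k) hdim hω hinvω J h₃
    have hl := deg_restrict_nonneg_of_inverse k hLD hfin hcl hinv J h₃
    obtain ⟨e⟩ := H23.PicMul.pull J.subschemeι (DCoh.dualizingMod (X ↘ Spec (CommRingCat.of k)) h OY 1) LD
    have heq : Curv2.deg k J.subscheme ((Scheme.Modules.pullback J.subschemeι).obj
        (CohB1.tensorMod (DCoh.dualizingMod (X ↘ Spec (CommRingCat.of k)) h OY 1) LD)) 1 =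
      Curv2.deg k J.subscheme ((Scheme.Modules.pullback J.subschemeι).obj (DCoh.dualizingMod (X ↘ Spec (CommRingCat.of k)) h OY 1)) 1 +
        Curv2.deg k J.subscheme ((Scheme.Modules.pullback J.subschemeι).obj LD) 1 := by
      rw [← deg_tensorMod h₃.le (PicClLib.isInvertible_pullback _ hinvω) (PicClLib.isInvertible_pullback _ hLD)]
      unfold Curv2.deg
      rw [Euler.euler_congr k e]
    rw [heq, he]
    have := Int.natCast_nonneg (Module.finrank k (Coh.HH X (ClSub.quotMod (J ⊔ compl J)) 0))
    linarith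

end Groth.Agent.CanonDual
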