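import Groth.Agent.CanonDual.Components
import Groth.Agent.CanonDual.DegSub

/-! Divisibility by the degree of the field of global functions. -/

set_option autoImplicit false
set_option linter.style.haveILetI false
set_option linter.unusedSectionVars false
set_option backward.isDefEq.respectTransparency false
set_option backward.isDefEq.respectTransparency.types false

universe u

open CategoryTheory CategoryTheory.Limits AlgebraicGeometry TopologicalSpace Opposite

noncomputable section

namespace Groth.Agent.CanonDual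

open Groth.Agent

variable (k : Type u) [Field k] {X : Scheme.{u}} [X.Over (Spec (CommRingCat.of k))]
  [IsProper (X ↘ Spec (CommRingCat.of k))]

attribute [local instance] GeomField.globalAlgebra

include k in
/-- `h⁰(O)` divides the dimension of any space of sections, for a reduced connected scheme. -/
theorem h0_dvd [IsReduced X] [ConnectedSpace X] (M : X.Modules) :
    Module.finrank k (Coh.HH X (Coh.structureModule X) 0) ∣ Module.finrank k (Coh.HH X M 0) := by
  letI : Field Γ(X, ⊤) := (GeomField.isField_globalFunctions k X).toField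
  letI : Module k Γ(M, ⊤) := Module.compHom _ (algebraMap k Γ(X, ⊤))
  haveI : IsScalarTower k Γ(X, ⊤) Γ(M, ⊤) := IsScalarTower.of_compHom k Γ(X, ⊤) Γ(M, ⊤)
  have hM : Module.finrank k (Coh.HH X M 0) = Module.finrank k Γ(M, ⊤) := by
    refine LinearEquiv.finrank_eq (LinearEquiv.ofBijective
      { toFun := fun t => (show Γ(M, ⊤) from Sheaf.H.equiv₀ (Coh.toAb M) isTerminalTop t)
        map_add' := fun a b => map_add _ a b
        map_smul' := fun a t => by
          refine (CurveCohLib.h0Equiv_smul M a t).trans ?_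
          exact congrArg (· • _) (ConcreteCategory.congr_hom (X.presheaf.map_id (op ⊤)) _) }
      (Sheaf.H.equiv₀ (Coh.toAb M) isTerminalTop).bijective)
  rw [GeomField.finrank_HH_zero k X, hM, ← Module.finrank_mul_finrank k Γ(X, ⊤) Γ(M, ⊤)]
  exact dvd_mul_right _ _

include k in
/-- The intersection of a subcurve with its complement is finite. -/
theorem finite_inter (hX : Proj16.ClosedDimOne X) (J : X.IdealSheafData) :
    Finite (J ⊔ compl J).subscheme := by
  set K := J ⊔ compl J with hKdef
  letI : K.subscheme.Over (Spec (CommRingCat.of k)) := ⟨K.subschemeι ≫ (X ↘ Spec (CommRingCat.of k))⟩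
  haveI : IsProper (K.subscheme ↘ Spec (CommRingCat.of k)) :=
    inferInstanceAs (IsProper (K.subschemeι ≫ (X ↘ Spec (CommRingCat.of k))))
  haveI := CurveCohLib.isNoetherian_of_proper (k := k) (X := K.subscheme)
  haveI : T1Space K.subscheme := ⟨fun z => by
    have hz : K.subschemeι z ∈ (K.support : Set X) := by
      rw [← K.range_subschemeι]
      exact ⟨z, rfl⟩
    rw [congrArg Scheme.IdealSheafData.support hKdef, Scheme.IdealSheafData.support_sup] at hz
    have h2 : K.subschemeι z ∈ closure ((J.support : Set X)ᶜ) :=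
      (Scheme.IdealSheafData.coe_support_vanishingIdeal _).subset hz.2
    have hcl := isClosed_of_mem_inter k hX J hz.1 h2
    have h3 : ({z} : Set K.subscheme) = K.subschemeι ⁻¹' {K.subschemeι z} := by
      ext w; simp [K.subschemeι.isEmbedding.injective.eq_iff]
    rw [h3]
    exact hcl.preimage K.subschemeι.continuous⟩
  have hu : (Set.univ : Set K.subscheme) ⊆ ⋃₀ irreducibleComponents (K.subscheme : Type u) := fun z _ =>
    ⟨irreducibleComponent z, irreducibleComponent_mem_irreducibleComponents z, mem_irreducibleComponent⟩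
  refine Set.finite_univ_iff.1 ((Set.Finite.sUnion NoetherianSpace.finite_irreducibleComponents fun T hT => ?_).subset hu)
  obtain ⟨ξ, hξ⟩ := QuasiSober.sober hT.1 (isClosed_of_mem_irreducibleComponents T hT)
  rw [← hξ.def, (isClosed_singleton : IsClosed ({ξ} : Set K.subscheme)).closure_eq]
  exact Set.finite_singleton ξ

include k in
/-- `h⁰(O_J)` divides both the genus of a subcurve and its contact with the complement. -/
theorem subcurve_dvd [IsReduced X] (hX : Proj16.ClosedDimOne X) (J : X.IdealSheafData) [IsReduced J.subscheme]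
    [ConnectedSpace J.subscheme] (hJ : topologicalKrullDim J.subscheme = 1) :
    0 < Module.finrank k (Coh.HH X (ClSub.quotMod J) 0) ∧
    Module.finrank k (Coh.HH X (ClSub.quotMod J) 0) ∣ Module.finrank k (Coh.HH X (ClSub.quotMod J) 1) ∧
    Module.finrank k (Coh.HH X (ClSub.quotMod J) 0) ∣ Module.finrank k (Coh.HH X (ClSub.quotMod (J ⊔ compl J)) 0) := by
  letI : J.subscheme.Over (Spec (CommRingCat.of k)) := ⟨J.subschemeι ≫ (X ↘ Spec (CommRingCat.of k))⟩
  haveI : IsProper (J.subscheme ↘ Spec (CommRingCat.of k)) :=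
    inferInstanceAs (IsProper (J.subschemeι ≫ (X ↘ Spec (CommRingCat.of k))))
  set K := J ⊔ compl J with hKdef
  letI : K.subscheme.Over (Spec (CommRingCat.of k)) := ⟨K.subschemeι ≫ (X ↘ Spec (CommRingCat.of k))⟩
  haveI : IsProper (K.subscheme ↘ Spec (CommRingCat.of k)) :=
    inferInstanceAs (IsProper (K.subschemeι ≫ (X ↘ Spec (CommRingCat.of k))))
  haveI : Finite K.subscheme := finite_inter k hX J
  let i : K.subscheme ⟶ J.subscheme := Scheme.IdealSheafData.inclusion (le_sup_left : J ≤ K)
  have hi : i ≫ (J.subscheme ↘ Spec (CommRingCat.of k)) = K.subscheme ↘ Spec (CommRingCat.of k) := by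
    show i ≫ J.subschemeι ≫ _ = K.subschemeι ≫ _
    rw [← Category.assoc, Scheme.IdealSheafData.inclusion_subschemeι]
  rw [finrank_HH_quotMod (k := k) J 0, finrank_HH_quotMod (k := k) J 1, finrank_HH_quotMod (k := k) K 0]
  refine ⟨?_, ?_, (finrank_finite_scheme k i hi (GeomField.isField_globalFunctions k J.subscheme)).1⟩
  · haveI := CurveCohLib.isNoetherian_of_proper (k := k) (X := J.subscheme)
    haveI := CurveCohLib.finite_HH (k := k) (QCoh.isCoh_structureModule' (X := J.subscheme)) 0
    haveI : Nonempty (⊤ : J.subscheme.Opens) := ⟨⟨Classical.arbitrary _, trivial⟩⟩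
    haveI : Nontrivial ↑((Coh.toAb (Coh.structureModule J.subscheme)).obj.obj (op ⊤)) :=
      inferInstanceAs (Nontrivial Γ(J.subscheme, ⊤))
    haveI : Nontrivial (Coh.HH J.subscheme (Coh.structureModule J.subscheme) 0) :=
      (Sheaf.H.equiv₀ (Coh.toAb (Coh.structureModule J.subscheme)) isTerminalTop).toEquiv.nontrivial
    exact Module.finrank_pos
  · obtain ⟨N, ι, hι, hιf⟩ := exists_embedding (k := k) hJ.le
    haveI := hι
    obtain ⟨ω', tr', -, hω'⟩ := exists_isCoh_isRDualOver k N 1 J.subscheme ι hιf (by exact_mod_cast hJ.le)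
    have := finrank_HH_dualizing hJ
      (fun x hx => cm_of_reduced (k := k) (closedDimOne_of_connected k hJ) x hx) hω' 0 (by omega)
    rw [← this]
    exact h0_dvd k ω'

include k in
/-- Without rational tails the dualizing module is nef on proper subcurves. -/
theorem deg_dualizing_nonneg_of_no_tail (hdim : topologicalKrullDim X = 1)
    (h0 : Module.finrank k (Coh.HH X (Coh.structureModule X) 0) = 1) (hX : Curv2.AtWorstNodal k X)
    (hnt : ∀ (C : Set X) (hC : C ∈ irreducibleComponents (X : Type u)), ¬ Curv2.IsRationalTail X C hC)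
    [DCoh.HasRpush (X ↘ Spec (CommRingCat.of k))] (h : DCoh.RpushPreservesQCoh (X ↘ Spec (CommRingCat.of k)))
    [DCoh.HasShriek (X ↘ Spec (CommRingCat.of k)) h]
    (OY : DCoh.DQCoh (Spec (CommRingCat.of k)))
    (hOY : Nonempty (OY.obj ≅ DCoh.inD (Spec (CommRingCat.of k)) (Coh.structureModule (Spec (CommRingCat.of k)))))
    (J : X.IdealSheafData) [IsReduced J.subscheme] [ConnectedSpace J.subscheme]
    (hJ : topologicalKrullDim J.subscheme = 1) (hJne : (J.support : Set X) ≠ Set.univ) :
    0 ≤ @Curv2.deg k _ J.subscheme ⟨J.subschemeι ≫ (X ↘ Spec (CommRingCat.of k))⟩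
      ((Scheme.Modules.pullback J.subschemeι).obj (DCoh.dualizingMod (X ↘ Spec (CommRingCat.of k)) h OY 1)) 1 := by
  letI : J.subscheme.Over (Spec (CommRingCat.of k)) := ⟨J.subschemeι ≫ (X ↘ Spec (CommRingCat.of k))⟩
  haveI : IsProper (J.subscheme ↘ Spec (CommRingCat.of k)) :=
    inferInstanceAs (IsProper (J.subschemeι ≫ (X ↘ Spec (CommRingCat.of k))))
  obtain ⟨tr, hω⟩ := exists_isRDualOver_dualizingMod h OY hOY (d := 1)
    (fun M hM q hq => subsingleton_HH_curve k hdim.le hM hq)
  refine (deg_subcurve_nonneg k hdim.le J (closedDimOne_of_connected k hJ)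
    (isInvertible_dualizing_nodal hdim h0 hX hω) fun C hC hCJ => ?_).1
  obtain ⟨e, δ, h1, he, hed, heh, hdeg, hz, htail, -⟩ := component_data k hdim h0 hX h OY hOY C hC
  rw [hdeg]
  rcases Nat.eq_zero_or_pos δ with hδ | hδ
  · exact absurd (Set.eq_univ_of_univ_subset ((hz hδ).1 ▸ hCJ)) hJne
  · obtain ⟨d, rfl⟩ := hed
    obtain ⟨m, rfl⟩ := heh
    have hd0 : 0 < d := Nat.pos_of_mul_pos_left hδ
    have hkey : 2 ≤ 2 * m + d := by
      by_contra hlt
      have hm : m = 0 := by omega
      have hd : d = 1 := by omega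
      subst hm hd
      exact hnt C hC (htail (mul_zero e) (mul_one e))
    have h4 : (2 : ℤ) ≤ 2 * (m : ℤ) + (d : ℤ) := by exact_mod_cast hkey
    have h5 : (0 : ℤ) ≤ (e : ℤ) := Int.natCast_nonneg e
    push_cast
    nlinarith [mul_le_mul_of_nonneg_left h4 h5]

end Groth.Agent.CanonDual
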