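import Groth.Agent.CanonDual.Pointed
import Groth.Agent.CanonDual.FieldDvd

/-! Marked points on subcurves, and semistable pointed curves. -/

set_option autoImplicit false
set_option linter.style.haveILetI false
set_option linter.unusedSectionVars false
set_option backward.isDefEq.respectTransparency false
set_option backward.isDefEq.respectTransparency.types false

universe u

open CategoryTheory CategoryTheory.Limits AlgebraicGeometry TopologicalSpace Opposite
open scoped TensorProduct

noncomputable section

namespace Groth.Agent.CanonDual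

open Groth.Agent TFQuot

/-- Surjectivity after pullback implies surjectivity for a map of free modules of rank one. -/
theorem surjective_of_pullback {Z X : Scheme.{u}} (i : Z ⟶ X) {L : X.Modules} (hL : PicF.IsInvertible L)
    (f : Coh.structureModule X ⟶ L) (z : Z)
    (h : Function.Surjective (st ((Scheme.Modules.pullback i).map f) z)) : Function.Surjective (st f (i z)) := by
  obtain ⟨l⟩ := H23.InvStalk.exists_stalk_equiv hL (i z)
  let R := X.presheaf.stalk (i z)
  let φ : R →+* Z.presheaf.stalk z := (i.stalkMap z).hom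
  letI : Algebra R (Z.presheaf.stalk z) := φ.toAlgebra
  haveI : IsLocalHom φ := i.toLRSHom.prop z
  haveI : Epi ((Scheme.Modules.pullback i ⋙ DerSch.stalkFunctor Z z).map f) :=
    (ModuleCat.epi_iff_surjective _).2 h
  have hext : Function.Surjective ((ModuleCat.extendScalars φ).map (st f (i z))) := by
    rw [← ModuleCat.epi_iff_surjective]
    exact ((MorphismProperty.epimorphisms _).arrow_mk_iso_iff
      (Arrow.isoMk ((KFlatLib.stalkPullbackIso i z).app _) ((KFlatLib.stalkPullbackIso i z).app _)
        ((KFlatLib.stalkPullbackIso i z).hom.naturality f).symm)).1 ‹_›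
  let e0 := (Coh.structureModule X).presheaf.germ ⊤ (i z) trivial (1 : Γ(X, ⊤))
  let r : R := l (st f (i z) e0)
  have hr : IsUnit r := by
    by_contra hr
    have hmem : ∀ a, l (st f (i z) a) ∈ Ideal.span {r} := fun a => by
      obtain ⟨c, rfl⟩ := CurveCohLib.GlobGen.exists_smul_one (i z) a
      rw [map_smul, map_smul, smul_eq_mul]
      exact Ideal.mul_mem_left _ c (Ideal.mem_span_singleton_self r)
    let ev : (Z.presheaf.stalk z) ⊗[R] ((DerSch.stalkFunctor X (i z)).obj L) →ₗ[R] Z.presheaf.stalk z :=
      (TensorProduct.rid R (Z.presheaf.stalk z)).toLinearMap ∘ₗ LinearMap.lTensor _ l.toLinearMap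
    obtain ⟨w, hw⟩ := hext ((1 : Z.presheaf.stalk z) ⊗ₜ[R] l.symm 1)
    have h1 : ev ((1 : Z.presheaf.stalk z) ⊗ₜ[R] l.symm 1) = 1 := by
      show (l (l.symm 1)) • (1 : Z.presheaf.stalk z) = 1
      rw [LinearEquiv.apply_symm_apply, one_smul]
    have h2 : ∀ w' : (Z.presheaf.stalk z) ⊗[R] ((DerSch.stalkFunctor X (i z)).obj (Coh.structureModule X)),
        ev ((ModuleCat.extendScalars φ).map (st f (i z)) w') ∈ Ideal.span {φ r} := fun w' => by
      induction w' using TensorProduct.induction_on with
      | zero =>
        rw [show ((ModuleCat.extendScalars φ).map (st f (i z))) 0 = 0 from map_zero _]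
        exact (map_zero ev).symm ▸ zero_mem _
      | tmul c a =>
        show ev (c ⊗ₜ[R] st f (i z) a) ∈ _
        obtain ⟨b, hb⟩ := Ideal.mem_span_singleton'.1 (hmem a)
        show (l (st f (i z) a)) • c ∈ _
        rw [← hb, Algebra.smul_def]
        show φ (b * r) * c ∈ _
        rw [map_mul, mul_right_comm]
        exact Ideal.mul_mem_left _ _ (Ideal.mem_span_singleton_self _)
      | add u v hu hv =>
        rw [show ((ModuleCat.extendScalars φ).map (st f (i z))) (u + v) =
          ((ModuleCat.extendScalars φ).map (st f (i z))) u + ((ModuleCat.extendScalars φ).map (st f (i z))) v from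
          map_add _ u v]
        exact (map_add ev _ _).symm ▸ add_mem hu hv
    have h3 := h2 w
    rw [hw, h1, ← Ideal.eq_top_iff_one, Ideal.span_singleton_eq_top] at h3
    exact hr ((isUnit_map_iff φ r).1 h3)
  obtain ⟨u, hu⟩ := hr
  intro v
  refine ⟨(l v * ↑u⁻¹) • e0, l.injective ?_⟩
  rw [map_smul, map_smul, smul_eq_mul]
  show l v * ↑u⁻¹ * r = l v
  rw [← hu, mul_assoc, Units.inv_mul, mul_one]

variable {k : Type u} [Field k] {X : Scheme.{u}} [X.Over (Spec (CommRingCat.of k))]
  [IsProper (X ↘ Spec (CommRingCat.of k))]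

/-- A section vanishing at given points has at least that degree. -/
theorem card_le_deg [AlgebraicGeometry.IsReduced X] (hdim : topologicalKrullDim X ≤ 1)
    (hX : Proj16.ClosedDimOne X) {L : X.Modules} (hL : PicF.IsInvertible L)
    (s : Coh.structureModule X ⟶ L) {D : Set X} (hfin : D.Finite) (hD : ∀ x ∈ D, IsClosed ({x} : Set X))
    (hs : ∀ x ∉ D, Function.Bijective (st s x)) (hz : ∀ x ∈ D, ¬ Function.Surjective (st s x)) :
    (D.ncard : ℤ) ≤ Curv2.deg k X L 1 := by
  classical
  haveI := CurveCohLib.isNoetherian_of_proper (k := k) (X := X)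
  have hLc : Coh.IsCoh L := CurveDeg.isCoh_of_isInvertible hL
  have hgen : ∀ η ∈ genericPoints X, η ∉ D := fun η hη hηD => by
    have h0 := (VarDim.closedPoint_iff_deg_eq_zero (X ↘ Spec (CommRingCat.of k)) η).1 (hD η hηD)
    rw [(Proj16.closedDimOne_iff_deg (X ↘ Spec (CommRingCat.of k))).1 hX η (isMaximal_of_generic hη)] at h0
    exact one_ne_zero h0
  haveI : Mono s := by
    refine Preadditive.mono_of_kernel_zero (TFQuot.hom_eq_zero QCoh.isQCoh_structureModule
      (torsionFree_invertible InvX.isInvertible_structureModule) _ fun η hη v => ?_)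
    refine (hs η (hgen η hη)).1 ?_
    rw [← TFQuot.st_comp, kernel.condition, TFQuot.st_zero, map_zero]
  have hQ : Coh.IsCoh (cokernel s) := QCoh.isCoh_cokernel QCoh.isQCoh_structureModule hLc s
  have hstalk : ∀ x : X, Subsingleton ((cokernel s).presheaf.stalk x) ↔ Function.Surjective (st s x) := fun x => by
    let F := DerSch.stalkFunctor X x
    have e := PreservesCokernel.iso F s
    constructor
    · intro hsub
      haveI : Subsingleton (F.obj (cokernel s)) := hsub
      exact (ModuleCat.epi_iff_surjective _).1 (Preadditive.epi_of_isZero_cokernel _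
        ((ModuleCat.isZero_of_subsingleton (F.obj (cokernel s))).of_iso e.symm))
    · intro hsurj
      haveI : Epi (F.map s) := (ModuleCat.epi_iff_surjective _).2 hsurj
      exact ModuleCat.subsingleton_of_isZero ((isZero_cokernel_of_epi (F.map s)).of_iso e)
  have hsupp : CohB1.support (cokernel s) ⊆ D := fun x hx => by
    by_contra hxD
    exact hx ((hstalk x).2 (hs x hxD).2)
  obtain ⟨hsum, hfinS⟩ := CurveCohLib.euler_eq_sum_stalks (k := k) hQ (fun x hx => hD x (hsupp hx)) hfin.toFinset
    (by simpa using hsupp)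
  have he := TFQuot.euler_epi k hLc hQ (cokernel.π s)
  have hk : Curv2.euler k X (Coh.structureModule X) = Curv2.euler k X (kernel (cokernel.π s)) :=
    Euler.euler_congr k (asIso (Abelian.factorThruImage s))
  rw [hsum, ← hk] at he
  unfold Curv2.deg
  rw [he, Set.ncard_eq_toFinset_card D hfin, Finset.card_eq_sum_ones]
  push_cast
  have : ∀ x ∈ hfin.toFinset, (1 : ℤ) ≤ (letI := CurveCohLib.stalkModuleK k (cokernel s) x;
      (Module.finrank k ((cokernel s).presheaf.stalk x) : ℤ)) := fun x hx => by
    letI := CurveCohLib.stalkModuleK k (cokernel s) x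
    haveI := hfinS x hx
    haveI : Nontrivial ((cokernel s).presheaf.stalk x) :=
      not_subsingleton_iff_nontrivial.1 fun h => hz x (hfin.mem_toFinset.1 hx) ((hstalk x).1 h)
    exact_mod_cast Module.finrank_pos (R := k) (M := (cokernel s).presheaf.stalk x)
  linarith [Finset.sum_le_sum this]

variable (k) in
include k in
/-- The marked points on a subcurve bound the degree of their divisor from below. -/
theorem ncard_le_deg_restrict {L : X.Modules} (hL : PicF.IsInvertible L) {D : Set X} (hfin : D.Finite)
    (hcl : IsClosed D) (hinv : ClSub.IsInverseOf L (ClSub.idealMod (Scheme.IdealSheafData.vanishingIdeal ⟨D, hcl⟩)))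
    (J : X.IdealSheafData) [AlgebraicGeometry.IsReduced J.subscheme]
    (hJc : Proj16.ClosedDimOne J.subscheme) (hJ : topologicalKrullDim J.subscheme ≤ 1) :
    ((D ∩ (J.support : Set X)).ncard : ℤ) ≤ @Curv2.deg k _ J.subscheme ⟨J.subschemeι ≫ (X ↘ Spec (CommRingCat.of k))⟩
      ((Scheme.Modules.pullback J.subschemeι).obj L) 1 := by
  letI : J.subscheme.Over (Spec (CommRingCat.of k)) := ⟨J.subschemeι ≫ (X ↘ Spec (CommRingCat.of k))⟩
  haveI : IsProper (J.subscheme ↘ Spec (CommRingCat.of k)) :=
    inferInstanceAs (IsProper (J.subschemeι ≫ (X ↘ Spec (CommRingCat.of k))))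
  haveI := CurveCohLib.isNoetherian_of_proper (k := k) (X := X)
  set I := Scheme.IdealSheafData.vanishingIdeal ⟨D, hcl⟩ with hI
  have hsI : (I.support : Set X) = D := by
    rw [hI, Scheme.IdealSheafData.coe_support_vanishingIdeal]
    rfl
  obtain ⟨e⟩ := hinv
  have hL1 := InvEnd.isFinLocFreeOfRank_one hL
  have hLf : FlatMod.IsFinLocFree L := fun y => let ⟨W, hy, he⟩ := hL1 y; ⟨W, 1, hy, he⟩
  haveI := epi_toSubscheme I
  have hS0 : (ShortComplex.mk (ClSub.idealModι I) (ClSub.toSubscheme I) (kernel.condition _)).ShortExact :=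
    CurveSlope.shortExact_kernel_of_epi _
  have hS := CurveTensor.shortExact_tensor hLf _ _ _ hS0
  let m := (DCoh.tensorBi.obj L).map (ClSub.idealModι I)
  let s : Coh.structureModule X ⟶ L := e.inv ≫ m ≫ (KFlatLib.tensorUnitIso L).hom
  have hst : ∀ x : X, (Function.Bijective (st s x) ↔ Function.Surjective (st m x)) ∧
      (Function.Surjective (st s x) → Function.Surjective (st m x)) := fun x => by
    let F := DerSch.stalkFunctor X x
    have hb1 : Function.Bijective (st e.inv x) := ConcreteCategory.bijective_of_isIso (F.map e.inv)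
    have hb2 : Function.Bijective (st (KFlatLib.tensorUnitIso L).hom x) := ConcreteCategory.bijective_of_isIso _
    haveI := hS.mono_f
    have heq : ⇑(st s x) = ⇑(st (KFlatLib.tensorUnitIso L).hom x) ∘ ⇑(st m x) ∘ ⇑(st e.inv x) := funext fun v => by
      show st (e.inv ≫ m ≫ (KFlatLib.tensorUnitIso L).hom) x v = _
      rw [TFQuot.st_comp, TFQuot.st_comp]
      rfl
    rw [heq]
    refine ⟨⟨fun h => ?_, fun h => hb2.comp ((Function.Bijective.comp ⟨TFQuot.st_injective m x, h⟩ hb1))⟩, fun h => ?_⟩
    · exact (Function.Surjective.of_comp_left h.2 hb2.1).of_comp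
    · exact (Function.Surjective.of_comp_left h hb2.1).of_comp
  have hoff : ∀ x ∉ D, Function.Bijective (st s x) := fun x hx => by
    refine (hst x).1.2 fun w => ?_
    have hS2 := hS.map_of_exact (DerSch.stalkFunctor X x)
    haveI : Subsingleton ((DerSch.stalkFunctor X x).obj ((DCoh.tensorBi.obj L).obj (ClSub.quotMod I))) :=
      not_not.1 fun h => CurveTensor.support_tensor_subset h
        (ParShLib.subsingleton_stalk_quotMod I (show x ∉ (I.support : Set X) by rwa [hsI]))
    obtain ⟨t, ht⟩ := (ShortComplex.moduleCat_exact_iff _).1 hS2.exact w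
      (Subsingleton.elim (α := (DerSch.stalkFunctor X x).obj ((DCoh.tensorBi.obj L).obj (ClSub.quotMod I))) _ _)
    exact ⟨t, ht⟩
  have hon : ∀ x ∈ D, ¬ Function.Surjective (st s x) := fun x hx hsurj => by
    have hm := (hst x).2 hsurj
    have hS2 := hS.map_of_exact (DerSch.stalkFunctor X x)
    haveI := hS2.epi_g
    haveI : Nontrivial ((DerSch.stalkFunctor X x).obj ((DCoh.tensorBi.obj L).obj (ClSub.quotMod I))) := by
      haveI : Nontrivial ((DerSch.stalkFunctor X x).obj (ClSub.quotMod I)) :=
        not_subsingleton_iff_nontrivial.1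
          (CurveCohLib.GlobGen.nontrivial_stalk_quotMod I (show x ∈ (I.support : Set X) by rwa [hsI]))
      obtain ⟨b⟩ := CurveTensor.exists_basis_stalk hL1 x
      let e₁ := ((KFlatLib.stalkTensorLeftIso L x).app (ClSub.quotMod I)).toLinearEquiv
      let e₂ := (TensorProduct.congr (b.equivFun ≪≫ₗ LinearEquiv.funUnique (Fin 1) _ _)
        (LinearEquiv.refl (X.presheaf.stalk x) ((DerSch.stalkFunctor X x).obj (ClSub.quotMod I)))) ≪≫ₗ
        TensorProduct.lid _ _
      exact (e₁.toEquiv.trans e₂.toEquiv).nontrivial
    obtain ⟨y, hy⟩ := exists_ne (0 : (DerSch.stalkFunctor X x).obj ((DCoh.tensorBi.obj L).obj (ClSub.quotMod I)))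
    obtain ⟨w, rfl⟩ := (ModuleCat.epi_iff_surjective _).1 hS2.epi_g y
    obtain ⟨t, rfl⟩ := hm w
    exact hy (by
      show st ((DCoh.tensorBi.obj L).map (ClSub.toSubscheme I)) x (st m x t) = 0
      rw [← TFQuot.st_comp, ← Functor.map_comp,
        show ClSub.idealModι I ≫ ClSub.toSubscheme I = 0 from kernel.condition _, Functor.map_zero, TFQuot.st_zero])
  obtain ⟨e0⟩ := PicClLib.nonempty_pullback_structureModule J.subschemeι
  have hsJ : ∀ z, (Function.Bijective (st ((Scheme.Modules.pullback J.subschemeι).map s) z) →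
      Function.Bijective (st (e0.inv ≫ (Scheme.Modules.pullback J.subschemeι).map s) z)) ∧
      (Function.Surjective (st (e0.inv ≫ (Scheme.Modules.pullback J.subschemeι).map s) z) →
        Function.Surjective (st ((Scheme.Modules.pullback J.subschemeι).map s) z)) := fun z => by
    have hb : Function.Bijective (st e0.inv z) :=
      ConcreteCategory.bijective_of_isIso ((DerSch.stalkFunctor J.subscheme z).map e0.inv)
    have heq : ⇑(st (e0.inv ≫ (Scheme.Modules.pullback J.subschemeι).map s) z) =
        ⇑(st ((Scheme.Modules.pullback J.subschemeι).map s) z) ∘ ⇑(st e0.inv z) :=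
      funext fun v => TFQuot.st_comp _ _ _ _
    rw [heq]
    exact ⟨fun h => h.comp hb, fun h => h.of_comp⟩
  have hinj := J.subschemeι.isEmbedding.injective
  have hcard : (J.subschemeι ⁻¹' D).ncard = (D ∩ (J.support : Set X)).ncard := by
    rw [← Set.ncard_image_of_injective _ hinj, Set.image_preimage_eq_inter_range, J.range_subschemeι]
  rw [← hcard]
  refine card_le_deg hJ hJc (PicClLib.isInvertible_pullback _ hL)
    (e0.inv ≫ (Scheme.Modules.pullback J.subschemeι).map s) (hfin.preimage hinj.injOn) (fun z hz => ?_)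
    (fun z hz => (hsJ z).1 (bijective_st_pullback J.subschemeι s z (hoff _ hz)))
    (fun z hz hsurj => hon _ hz (surjective_of_pullback J.subschemeι hL s z ((hsJ z).2 hsurj)))
  have h2 : ({z} : Set J.subscheme) = J.subschemeι ⁻¹' {J.subschemeι z} := by ext w; simp [hinj.eq_iff]
  rw [h2]
  exact (isClosed_of_mem_finite k hfin hcl hz).preimage J.subschemeι.continuous

variable (k) in
include k in
/-- The length of the intersection bounds the number of intersection points. -/
theorem ncard_le_finrank_inter [IsAlgClosed k] [AlgebraicGeometry.IsReduced X] (hX : Proj16.ClosedDimOne X)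
    (J : X.IdealSheafData) :
    ((J.support : Set X) ∩ closure ((J.support : Set X)ᶜ)).ncard ≤
      Module.finrank k (Coh.HH X (ClSub.quotMod (J ⊔ compl J)) 0) := by
  haveI := CurveCohLib.isNoetherian_of_proper (k := k) (X := X)
  set K := J ⊔ compl J with hKdef
  haveI : Finite K.subscheme := finite_inter k hX J
  have hsupp : (K.support : Set X) = (J.support : Set X) ∩ closure ((J.support : Set X)ᶜ) := by
    rw [congrArg Scheme.IdealSheafData.support hKdef, Scheme.IdealSheafData.support_sup]
    exact congrArg ((J.support : Set X) ∩ ·) (Scheme.IdealSheafData.coe_support_vanishingIdeal _)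
  have hfin : (K.support : Set X).Finite := by
    rw [← K.range_subschemeι]
    exact Set.finite_range _
  have hcl : IsClosed (K.support : Set X) := K.support.isClosed
  have hD : ∀ x ∈ (K.support : Set X), IsClosed ({x} : Set X) := fun x hx => isClosed_of_mem_finite k hfin hcl hx
  set I := Scheme.IdealSheafData.vanishingIdeal ⟨(K.support : Set X), hcl⟩ with hI
  have hle : K ≤ I := Scheme.IdealSheafData.le_support_iff_le_vanishingIdeal.1 le_rfl
  haveI := epi_toSubscheme K
  haveI := epi_toSubscheme I
  obtain ⟨q, hq⟩ := exists_quotMap hle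
  haveI : Epi (ClSub.toSubscheme K ≫ q) := by rw [hq]; infer_instance
  haveI : Epi q := epi_of_epi (ClSub.toSubscheme K) q
  have hQK := ParShLib.isCoh_quotMod K
  have hQI := ParShLib.isCoh_quotMod I
  have hsK : ∀ x ∈ CohB1.support (ClSub.quotMod K), IsClosed ({x} : Set X) := fun x hx => hD x (by
    by_contra h
    exact hx (ParShLib.subsingleton_stalk_quotMod K h))
  have hsker : ∀ x ∈ CohB1.support (kernel q), IsClosed ({x} : Set X) := fun x hx => hsK x (fun h => hx (by
    have h' : Subsingleton ((DerSch.stalkFunctor X x).obj (ClSub.quotMod K)) := h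
    exact (TFQuot.st_injective (kernel.ι q) x).subsingleton))
  have he := TFQuot.euler_epi k hQK hQI q
  rw [CurveCohLib.euler_eq_finrank_zero hQK hsK,
    CurveCohLib.euler_eq_finrank_zero (QCoh.isCoh_kernel hQK hQI q) hsker, euler_quot_finite k hfin hcl,
    Nat.card_coe_set_eq, hsupp] at he
  omega

end Groth.Agent.CanonDual
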