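import Groth.Agent.CanonDual.NodeCount
import Groth.Agent.CanonDual.Semistable
import Groth.Agent.CanonDual.Pointed
import Groth.Agent.CanonDual.DegSub
import Groth.Agent.SmoothReg.Scheme
import Groth.Agent.RegLoc6.Basic
import Groth.Agent.H23.FinCondSch
import Groth.Prelude

/-!
# Marked points and nodes on the components of a curve
-/

set_option autoImplicit false
set_option linter.style.haveILetI false
set_option backward.isDefEq.respectTransparency false
set_option backward.isDefEq.respectTransparency.types false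

universe u

open CategoryTheory CategoryTheory.Limits AlgebraicGeometry TopologicalSpace
attribute [local instance] HasDerivedCategory.standard
open Curves

namespace Groth.Agent.CanonDual

variable {k : Type u} [Field k] {X : Scheme.{u}} [X.Over (Spec (CommRingCat.of k))]
  [IsProper (X ↘ Spec (CommRingCat.of k))]

/-- A smooth point lies on one component only. -/
theorem unique_component_of_mem_smoothLocus (k : Type u) [Field k] {X : Scheme.{u}}
    [X.Over (Spec (CommRingCat.of k))] [LocallyOfFinitePresentation (X ↘ Spec (CommRingCat.of k))] {x : X}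
    (hx : x ∈ (X ↘ Spec (CommRingCat.of k)).smoothLocus) {Z Z' : Set X}
    (hZ : Z ∈ irreducibleComponents (X : Type u)) (hZ' : Z' ∈ irreducibleComponents (X : Type u))
    (h : x ∈ Z) (h' : x ∈ Z') : Z = Z' := by
  haveI := SmoothReg.isRegularLocalRing_stalk_of_mem_smoothLocus (X ↘ Spec (CommRingCat.of k)) hx
  haveI := RegLoc6.isDomain_of_isRegularLocalRing (X.presheaf.stalk x)
  refine H23.FinCondSch.unique_component ?_ hZ hZ' h h'
  rw [nilradical_eq_zero]
  exact Ideal.isPrime_bot

/-- The locus where an open smooth neighbourhood exists is the smooth locus. -/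
theorem mem_smoothLocus_of_nhd (k : Type u) [Field k] {X : Scheme.{u}}
    [X.Over (Spec (CommRingCat.of k))] [LocallyOfFinitePresentation (X ↘ Spec (CommRingCat.of k))] {x : X}
    {U : X.Opens} (hxU : x ∈ U) (hU : Smooth (U.ι ≫ (X ↘ Spec (CommRingCat.of k)))) :
    x ∈ (X ↘ Spec (CommRingCat.of k)).smoothLocus := by
  have h := Scheme.Hom.preimage_smoothLocus_eq U.ι (X ↘ Spec (CommRingCat.of k))
  rw [Scheme.Hom.smoothLocus_eq_top (U.ι ≫ _)] at h
  exact (SetLike.ext_iff.1 h (⟨x, hxU⟩ : U)).2 trivial

/-- The inverse of the ideal of smooth points has on each component their number as degree. -/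
theorem deg_restrict_points [IsAlgClosed k] [IsReduced X] [ConnectedSpace X] (hdim : topologicalKrullDim X = 1)
    {D : Set X} (hfin : D.Finite) (hcl : IsClosed D)
    (hD : ∀ x ∈ D, x ∈ (X ↘ Spec (CommRingCat.of k)).smoothLocus) {L : X.Modules} (hL : PicF.IsInvertible L)
    (hinv : ClSub.IsInverseOf L (ClSub.idealMod (Scheme.IdealSheafData.vanishingIdeal ⟨D, hcl⟩)))
    (C : Set X) (hC : C ∈ irreducibleComponents (X : Type u)) :
    @Curv2.deg k _ (Scheme.IdealSheafData.vanishingIdeal ⟨C, isClosed_of_mem_irreducibleComponents C hC⟩).subscheme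
        ⟨(Scheme.IdealSheafData.vanishingIdeal ⟨C, isClosed_of_mem_irreducibleComponents C hC⟩).subschemeι ≫ (X ↘ Spec (CommRingCat.of k))⟩
        ((Scheme.Modules.pullback (Scheme.IdealSheafData.vanishingIdeal ⟨C, isClosed_of_mem_irreducibleComponents C hC⟩).subschemeι).obj L) 1 =
      ((D ∩ C).ncard : ℤ) := by
  classical
  haveI := CurveCohLib.isNoetherian_of_proper (k := k) (X := X)
  haveI : Finite (irreducibleComponents (X : Type u)) :=
    (NoetherianSpace.finite_irreducibleComponents).to_subtype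
  letI := Fintype.ofFinite (irreducibleComponents (X : Type u))
  have hXc := closedDimOne_of_connected k hdim
  let IC : irreducibleComponents (X : Type u) → X.IdealSheafData := fun C =>
    Scheme.IdealSheafData.vanishingIdeal ⟨C.1, isClosed_of_mem_irreducibleComponents C.1 C.2⟩
  let d : irreducibleComponents (X : Type u) → ℤ := fun C =>
    @Curv2.deg k _ (IC C).subscheme ⟨(IC C).subschemeι ≫ (X ↘ Spec (CommRingCat.of k))⟩
      ((Scheme.Modules.pullback (IC C).subschemeι).obj L) 1
  have hge : ∀ C, ((D ∩ C.1).ncard : ℤ) ≤ d C := fun C => by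
    haveI : IsReduced (IC C).subscheme := H23.RedSub.isReduced_vanishingIdeal _
    have hs : ((IC C).support : Set X) = C.1 := Scheme.IdealSheafData.coe_support_vanishingIdeal _
    let e : (IC C).subscheme ≃ₜ C.1 := (IC C).subschemeι.isEmbedding.toHomeomorph.trans
      (Homeomorph.setCongr (H23.RedSub.range_vanishingIdeal _))
    haveI : IrreducibleSpace C.1 := Subtype.irreducibleSpace C.2.1
    haveI : IrreducibleSpace (IC C).subscheme := e.symm.surjective.irreducibleSpace e.symm.continuous
    have h1 : topologicalKrullDim (IC C).subscheme = 1 :=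
      e.isHomeomorph.topologicalKrullDim_eq.trans (by exact_mod_cast components_dim_one k hXc C.1 C.2)
    letI : (IC C).subscheme.Over (Spec (CommRingCat.of k)) := ⟨(IC C).subschemeι ≫ (X ↘ Spec (CommRingCat.of k))⟩
    haveI : IsProper ((IC C).subscheme ↘ Spec (CommRingCat.of k)) :=
      inferInstanceAs (IsProper ((IC C).subschemeι ≫ (X ↘ Spec (CommRingCat.of k))))
    have := ncard_le_deg_restrict k hL hfin hcl hinv (IC C) (closedDimOne_of_connected k h1) h1.le
    rwa [hs] at this
  have hlen : ∀ C : irreducibleComponents (X : Type u),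
      0 < (Module.length (X.presheaf.stalk (CurveFinMap.gpt C)) (X.presheaf.stalk (CurveFinMap.gpt C))).toNat := by
    intro C
    have hfin : Module.length (X.presheaf.stalk (CurveFinMap.gpt C)) ((Coh.structureModule X).presheaf.stalk (CurveFinMap.gpt C)) < ⊤ :=
      CycLib.length_stalk_lt_top _ (QCoh.isCoh_structureModule' (X := X)) fun y _ hy =>
        CurveFinMap.eq_of_specializes_generic C.2 (CurveFinMap.isGenericPoint_gpt C) hy
    rw [H23.ClosedPushLen.length_structureModule] at hfin
    rw [Nat.pos_iff_ne_zero, ne_eq, ENat.toNat_eq_zero, not_or]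
    exact ⟨fun h => not_subsingleton (X.presheaf.stalk (CurveFinMap.gpt C)) (Module.length_eq_zero_iff.1 h), hfin.ne⟩
  have hsum := CurveFinMap.deg_eq_sum k hdim.le (InvEnd.isFinLocFreeOfRank_one hL)
  rw [finsum_eq_sum_of_fintype, deg_inverse_points k hL hfin hcl hinv] at hsum
  have hsum' : (Nat.card D : ℤ) = ∑ C : irreducibleComponents (X : Type u),
      ((Module.length (X.presheaf.stalk (CurveFinMap.gpt C)) (X.presheaf.stalk (CurveFinMap.gpt C))).toNat : ℤ) * d C := by
    rw [hsum]
    refine Finset.sum_congr rfl fun C _ => ?_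
    rw [if_pos (by exact_mod_cast components_dim_one k hXc C.1 C.2)]
    have : (X.irreducibleComponentIdeal C.1 C.2).radical = IC C := by
      rw [← Scheme.IdealSheafData.vanishingIdeal_support]
      exact congrArg _ (Closeds.ext rfl)
    rw [this]
  have hpart : (Nat.card D : ℤ) = ∑ C : irreducibleComponents (X : Type u), ((D ∩ C.1).ncard : ℤ) := by
    rw [Nat.card_coe_set_eq, ← Nat.cast_sum]
    congr 1
    haveI := hfin.fintype
    have h1 : D = ⋃ C : irreducibleComponents (X : Type u), D ∩ C.1 := by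
      ext x
      simp only [Set.mem_iUnion, Set.mem_inter_iff]
      exact ⟨fun hx => ⟨⟨irreducibleComponent x, irreducibleComponent_mem_irreducibleComponents x⟩, hx,
        mem_irreducibleComponent⟩, fun ⟨_, hx, _⟩ => hx⟩
    conv_lhs => rw [h1]
    rw [Set.ncard_iUnion_of_finite (fun C => hfin.inter_of_left _) (fun C C' hne => Set.disjoint_left.2
      fun x hx hx' => hne (Subtype.ext (unique_component_of_mem_smoothLocus k (hD x hx.1) C.2 C'.2 hx.2 hx'.2))),
      finsum_eq_sum_of_fintype]
  have hmul : ∀ C, ((D ∩ C.1).ncard : ℤ) ≤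
      ((Module.length (X.presheaf.stalk (CurveFinMap.gpt C)) (X.presheaf.stalk (CurveFinMap.gpt C))).toNat : ℤ) * d C :=
    fun C => (hge C).trans (le_mul_of_one_le_left ((Int.natCast_nonneg _).trans (hge C)) (by exact_mod_cast hlen C))
  have heq := (Finset.sum_eq_sum_iff_of_le fun C _ => hmul C).1 (hpart.symm.trans hsum')
  have h1 : ∀ C₀, d C₀ = ((D ∩ C₀.1).ncard : ℤ) := fun C₀ => by
    have h2 := heq C₀ (Finset.mem_univ _)
    have h3 := hge C₀
    have h4 : (1 : ℤ) ≤ ((Module.length (X.presheaf.stalk (CurveFinMap.gpt C₀)) (X.presheaf.stalk (CurveFinMap.gpt C₀))).toNat : ℤ) :=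
      Int.ofNat_le.2 (hlen C₀)
    generalize ((Module.length (X.presheaf.stalk (CurveFinMap.gpt C₀)) (X.presheaf.stalk (CurveFinMap.gpt C₀))).toNat : ℤ) = m at h2 h4
    generalize d C₀ = e at h2 h3 ⊢
    nlinarith [Int.natCast_nonneg ((D ∩ C₀.1).ncard)]
  exact h1 ⟨C, hC⟩

/-- The intersection of a component with the others is the set of edges at its vertex that are not loops. -/
theorem ncard_inter_eq_edges {V E : Type u} {cv : V → Set X} {ce : E → X} {ends : E → V × V}
    (hΓ : DualGr.IsDualGraph (X ↘ Spec (CommRingCat.of k)) cv ce ends) (v : V) :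
    (cv v ∩ closure (cv v)ᶜ).ncard =
      Nat.card {e : E // (ends e).1 ≠ (ends e).2 ∧ ((ends e).1 = v ∨ (ends e).2 = v)} := by
  haveI := CurveCohLib.isNoetherian_of_proper (k := k) (X := X)
  rw [← Nat.card_coe_set_eq]
  have hmap : ∀ e : {e : E // (ends e).1 ≠ (ends e).2 ∧ ((ends e).1 = v ∨ (ends e).2 = v)},
      ce e.1 ∈ cv v ∩ closure (cv v)ᶜ := fun e => by
    refine ⟨(hΓ.incidence e.1 v).1 e.2.2, ?_⟩
    obtain ⟨w, hw, hwv⟩ : ∃ w, ce e.1 ∈ cv w ∧ w ≠ v := by
      rcases e.2.2 with h | h
      · exact ⟨(ends e.1).2, (hΓ.incidence e.1 _).1 (Or.inr rfl), fun h' => e.2.1 (h.trans h'.symm)⟩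
      · exact ⟨(ends e.1).1, (hΓ.incidence e.1 _).1 (Or.inl rfl), fun h' => e.2.1 (h'.trans h.symm)⟩
    have hne : ¬ cv w ⊆ cv v := fun hs =>
      hwv (hΓ.comp_injective (Set.Subset.antisymm hs ((hΓ.comp_mem w).2 (hΓ.comp_mem v).1 hs)))
    obtain ⟨y, hyw, hyv⟩ := Set.not_subset.1 hne
    have hd := subset_closure_inter_of_isPreirreducible_of_isOpen (hΓ.comp_mem w).1.2
      (isClosed_of_mem_irreducibleComponents _ (hΓ.comp_mem v)).isOpen_compl ⟨y, hyw, hyv⟩
    exact closure_mono Set.inter_subset_right (hd hw)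
  refine (Nat.card_congr (Equiv.ofBijective (fun e => (⟨ce e.1, hmap e⟩ : ↥(cv v ∩ closure (cv v)ᶜ))) ⟨?_, ?_⟩)).symm
  · exact fun e e' h => Subtype.ext (hΓ.pt_injective (congrArg Subtype.val h))
  · intro xx
    obtain ⟨x, hxv, hxc⟩ := xx
    have hsub : closure (cv v)ᶜ ⊆ ⋃₀ (irreducibleComponents (X : Type u) \ {cv v}) := by
      refine closure_minimal (fun y hy => ⟨irreducibleComponent y,
        ⟨irreducibleComponent_mem_irreducibleComponents y, fun h => ?_⟩, mem_irreducibleComponent⟩) ?_
      · exact hy ((show irreducibleComponent y = cv v from h) ▸ mem_irreducibleComponent)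
      · rw [Set.sUnion_eq_biUnion]
        exact (NoetherianSpace.finite_irreducibleComponents.subset Set.sdiff_subset).isClosed_biUnion
          fun Z hZ => isClosed_of_mem_irreducibleComponents Z hZ.1
    obtain ⟨Z, ⟨hZ, hZne⟩, hxZ⟩ := hsub hxc
    obtain ⟨w, rfl⟩ := hΓ.comp_surjective Z hZ
    have hns : x ∈ DualGr.nonsmoothPts (X ↘ Spec (CommRingCat.of k)) := fun hs =>
      hZne (unique_component_of_mem_smoothLocus k hs hZ (hΓ.comp_mem v) hxZ hxv)
    obtain ⟨e, rfl⟩ := hΓ.pt_surjective x hns
    have hv := (hΓ.incidence e v).2 hxv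
    have hw := (hΓ.incidence e w).2 hxZ
    refine ⟨⟨e, fun he => hZne ?_, hv⟩, rfl⟩
    have : w = v := by
      rcases hv with h | h <;> rcases hw with h' | h' <;> simp_all
    exact congrArg cv this

end Groth.Agent.CanonDual
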