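import Groth.Agent.CanonDual.GGTwoHoms
import Groth.Agent.CanonDual.GGCrit
import Groth.Agent.Synt29.ConormalExact

/-!
# Global generation from degree at least twice the genus on subcurves
-/

set_option autoImplicit false
set_option linter.style.haveILetI false
set_option linter.unusedSectionVars false
set_option backward.isDefEq.respectTransparency false
set_option backward.isDefEq.respectTransparency.types false
set_option maxHeartbeats 1000000

universe u

open CategoryTheory CategoryTheory.Limits AlgebraicGeometry TopologicalSpace Opposite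
open Groth.Agent.PnCoh.Finite (mapLin deltaLin)

noncomputable section

namespace Groth.Agent.CanonDual

open Groth.Agent TFQuot ExtShX.ClosedHom

variable (k : Type u) [Field k] {X : Scheme.{u}} [X.Over (Spec (CommRingCat.of k))]
  [IsProper (X ↘ Spec (CommRingCat.of k))]

include k in
theorem one_le_h0 [Nonempty X] : 1 ≤ Module.finrank k (Coh.HH X (Coh.structureModule X) 0) := by
  haveI := CurveCohLib.isNoetherian_of_proper (k := k) (X := X)
  obtain ⟨e⟩ := ExtShX.exists_hom_HH0 (A := k) (Coh.structureModule X)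
  haveI := CurveCohLib.finite_HH (k := k) (QCoh.isCoh_structureModule' (X := X)) 0
  haveI : Nontrivial (Coh.structureModule X ⟶ Coh.structureModule X) := by
    refine ⟨𝟙 _, 0, fun h => ?_⟩
    obtain ⟨x⟩ := ‹Nonempty X›
    obtain ⟨l⟩ := H23.InvStalk.exists_stalk_equiv InvX.isInvertible_structureModule (X := X) x
    have h1 : st (𝟙 (Coh.structureModule X)) x (l.symm 1) = st (0 : Coh.structureModule X ⟶ _) x (l.symm 1) := by
      rw [h]
    rw [st_id, st_zero] at h1
    exact one_ne_zero ((LinearEquiv.apply_symm_apply l 1).symm.trans ((congrArg l h1).trans (map_zero l)))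
  haveI := e.symm.toEquiv.nontrivial
  exact Module.finrank_pos

include k in
/-- If every connected subcurve has degree at least twice its genus, each point has a section not
vanishing there. -/
theorem exists_point_section_of_two_genus [IsReduced X] (hdim : topologicalKrullDim X = 1)
    (hX : Proj16.ClosedDimOne X) {L : X.Modules} (hL : PicF.IsInvertible L)
    (hdeg : ∀ J : X.IdealSheafData, IsReduced J.subscheme → ConnectedSpace J.subscheme →
      topologicalKrullDim J.subscheme = 1 →
      2 * (@Curv2.genus k _ J.subscheme ⟨J.subschemeι ≫ (X ↘ Spec (CommRingCat.of k))⟩ : ℤ) ≤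
        @Curv2.deg k _ J.subscheme ⟨J.subschemeι ≫ (X ↘ Spec (CommRingCat.of k))⟩
          ((Scheme.Modules.pullback J.subschemeι).obj L) 1)
    (x : X) (hx : IsClosed ({x} : Set X)) :
    ∃ t, mapLin k ((DCoh.tensorBi.obj L).map
      (ClSub.toSubscheme (Scheme.IdealSheafData.vanishingIdeal ⟨{x}, hx⟩))) 0 t ≠ 0 := by
  classical
  by_contra hall
  push_neg at hall
  haveI := CurveCohLib.isNoetherian_of_proper (k := k) (X := X)
  set Z := Scheme.IdealSheafData.vanishingIdeal (⟨{x}, hx⟩ : Closeds X) with hZdef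
  have hZsupp : (Z.support : Set X) = {x} := by
    rw [hZdef]
    simp [Scheme.IdealSheafData.coe_support_vanishingIdeal, hx.closure_eq]
  have hZ : topologicalKrullDim (Z.support : Set X) ≤ 0 := by
    rw [hZsupp]
    haveI : Finite ({x} : Set X) := (Set.finite_singleton x).to_subtype
    haveI : Subsingleton ({x} : Set X) := Set.subsingleton_singleton.coe_sort
    exact topologicalKrullDim_zero_of_discreteTopology _
  -- `h¹(L) = 0`
  haveI hL1 : Subsingleton (Coh.HH X L 1) := subsingleton_H1_of_subcurves hdim hX hL fun J h₁ h₂ h₃ => by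
    have h := hdeg J h₁ h₂ h₃
    letI : J.subscheme.Over (Spec (CommRingCat.of k)) := ⟨J.subschemeι ≫ (X ↘ Spec (CommRingCat.of k))⟩
    haveI : IsProper (J.subscheme ↘ Spec (CommRingCat.of k)) :=
      inferInstanceAs (IsProper (J.subschemeι ≫ (X ↘ Spec (CommRingCat.of k))))
    haveI := h₂
    have h0 := one_le_h0 k (X := J.subscheme)
    have he := euler_two (k := k) (X := J.subscheme) h₃.le QCoh.isQCoh_structureModule
    change -2 * Curv2.euler k J.subscheme (Coh.structureModule J.subscheme) < _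
    change 2 * ((Module.finrank k (Coh.HH J.subscheme (Coh.structureModule J.subscheme) 1) : ℕ) : ℤ) ≤ _ at h
    rw [he]
    omega
  let T := CurveCohLib.Nonspecial.twist Z L
  have hLf : FlatMod.IsFinLocFree L := fun y =>
    let ⟨W, hy, he⟩ := InvEnd.isFinLocFreeOfRank_one hL y; ⟨W, 1, hy, he⟩
  have hQ : ∀ I : X.IdealSheafData, Coh.IsCoh (ClSub.quotMod I) := fun I => isCoh_quotMod k I
  have hT : ∀ F : X.Modules, Coh.IsCoh F → Coh.IsCoh ((DCoh.tensorBi.obj L).obj F) := fun F hF =>
    CurveTensor.isCoh_tensor hLf hF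
  have hTc : Coh.IsCoh T := hT _ (QCoh.isCoh_kernel QCoh.isCoh_structureModule' (hQ Z) _)
  have hLO : Coh.IsCoh ((DCoh.tensorBi.obj L).obj (Coh.structureModule X)) := hT _ QCoh.isCoh_structureModule'
  let C := (DCoh.tensorBi.obj L).obj (ClSub.quotMod Z)
  have hC : Coh.IsCoh C := hT _ (hQ Z)
  have hCsupp : ∀ y ∈ CohB1.support C, y = x := fun y hy => by
    have : y ∈ (Z.support : Set X) :=
      not_not.1 fun h => (CurveTensor.support_tensor_subset hy) (ParShLib.subsingleton_stalk_quotMod Z h)
    rwa [hZsupp] at this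
  have hSZ : (ShortComplex.mk (ClSub.idealModι Z) (ClSub.toSubscheme Z) (kernel.condition _)).ShortExact :=
    haveI := epi_toSubscheme Z
    CurveSlope.shortExact_kernel_of_epi _
  have hS := CurveTensor.shortExact_tensor hLf _ _ _ hSZ
  haveI : Mono ((DCoh.tensorBi.obj L).map (ClSub.idealModι Z)) := hS.mono_f
  haveI : Epi ((DCoh.tensorBi.obj L).map (ClSub.toSubscheme Z)) := hS.epi_g
  -- `h¹(T) = h⁰(Z) > 0`
  set d := Module.finrank k (Coh.HH X (ClSub.quotMod Z) 0) with hd
  have hdpos : 0 < d := by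
    have hsupp : ∀ y ∈ CohB1.support (ClSub.quotMod Z), y = x := fun y hy => by
      have : y ∈ (Z.support : Set X) := not_not.1 fun h => hy (ParShLib.subsingleton_stalk_quotMod Z h)
      rwa [hZsupp] at this
    obtain ⟨e, -⟩ := CurveCohLib.exists_h0Equiv (k := k) (hQ Z) (fun y hy => hsupp y hy ▸ hx) {x}
      (fun y hy => by simp [hsupp y hy])
    haveI : Nontrivial ((ClSub.quotMod Z).presheaf.stalk x) := not_subsingleton_iff_nontrivial.1
      (CurveCohLib.GlobGen.nontrivial_stalk_quotMod Z (show x ∈ (Z.support : Set X) by rw [hZsupp]; rfl))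
    obtain ⟨v, hv⟩ := exists_ne (0 : (ClSub.quotMod Z).presheaf.stalk x)
    haveI := CurveCohLib.finite_HH (k := k) (hQ Z) 0
    haveI : Nontrivial (Coh.HH X (ClSub.quotMod Z) 0) := nontrivial_of_ne
      (e.symm (Pi.single (⟨x, Finset.mem_singleton_self x⟩ : ({x} : Finset X)) v)) 0 (by
        rw [ne_eq, LinearEquiv.map_eq_zero_iff, Pi.single_eq_zero_iff]
        exact hv)
    exact Module.finrank_pos
  have hCe : Curv2.euler k X C = d := by
    rw [CurveTensor.euler_tensor_torsion (k := k) (InvEnd.isFinLocFreeOfRank_one hL) (hQ Z),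
      CurveCohLib.euler_eq_finrank_zero (hQ Z), hd]
    · simp
    all_goals exact fun y hy => isClosed_of_dim_zero k Z hZ (by
      by_contra h
      exact hy (ParShLib.subsingleton_stalk_quotMod _ h))
  have hT1 : Module.finrank k (Coh.HH X T 1) = d := by
    have e1 := CurveCohLib.ker_mapLin_g k hS 0
    have e2 := CurveCohLib.mapLin_f_zero_injective k hS
    have e3 : LinearMap.range (mapLin k ((DCoh.tensorBi.obj L).map (ClSub.idealModι Z)) 0) = ⊤ :=
      eq_top_iff.2 fun t _ => e1.le (LinearMap.mem_ker.2 (hall t))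
    have e4 := LinearMap.finrank_range_of_inj e2
    change Module.finrank k (LinearMap.range (mapLin k ((DCoh.tensorBi.obj L).map (ClSub.idealModι Z)) 0)) = _ at e4
    rw [e3, finrank_top, (CurveCohLib.hhEquiv (k := k) (KFlatLib.tensorUnitIso L) 0).finrank_eq] at e4
    change Module.finrank k (Coh.HH X L 0) = Module.finrank k (Coh.HH X T 0) at e4
    have h1 := CurveBundle.euler_add' k _ _ _ hS hTc hLO hC
    have h2 := Euler.euler_congr k (KFlatLib.tensorUnitIso L)
    have h3 := euler_two (k := k) hdim.le hTc.1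
    have h4 := euler_two (k := k) hdim.le (ProjUPX.isQCoh_of_isInvertible hL)
    rw [Module.finrank_zero_of_subsingleton (R := k) (M := Coh.HH X L 1)] at h4
    change Curv2.euler k X ((DCoh.tensorBi.obj L).obj (Coh.structureModule X)) = Curv2.euler k X T + Curv2.euler k X C at h1
    have h2' : Curv2.euler k X ((DCoh.tensorBi.obj L).obj (Coh.structureModule X)) = Curv2.euler k X L := h2
    push_cast at h4
    omega
  obtain ⟨N, ι, hι, hιf⟩ := exists_embedding (k := k) hdim.le
  haveI := hι
  obtain ⟨ω, tr, -, hω⟩ := exists_isCoh_isRDualOver k N 1 X ι hιf (by exact_mod_cast hdim.le)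
  obtain ⟨hωc, hωtf, -⟩ := isTF1_dualizing hdim hX hω
  have hHomL : Subsingleton ((DCoh.tensorBi.obj L).obj (Coh.structureModule X) ⟶ ω) := by
    rw [subsingleton_hom_iff hω hLO.1]
    exact ((CurveCohLib.hhEquiv (k := k) (KFlatLib.tensorUnitIso L) 1).toEquiv.subsingleton_congr).2 hL1
  have hHomT : Module.finrank k (T ⟶ ω) = d := (finrank_hom hω hTc.1).trans hT1
  haveI : Module.Finite k (T ⟶ ω) := Module.finite_of_finrank_pos (hHomT ▸ hdpos)
  let φ := Module.finBasis k (T ⟶ ω)
  let Sg : Set X := {η | η ∈ genericPoints X ∧ ∃ i v, st (φ i) η v ≠ 0}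
  have hfinG : Sg.Finite := finite_genericPoints.subset fun η h => h.1
  obtain ⟨η₀, hη₀⟩ : Sg.Nonempty := by
    by_contra hne
    refine (φ.ne_zero ⟨0, hHomT.symm ▸ hdpos⟩) (hom_eq_zero hωc.1 hωtf _ fun η hη v => ?_)
    by_contra hv
    exact hne ⟨η, hη, _, v, hv⟩
  let S : Set X := ⋃ η ∈ Sg, closure {η}
  have hScl : IsClosed S := hfinG.isClosed_biUnion fun η _ => isClosed_closure
  have hSs : VecSt.IsSubcurve X S := by
    refine ⟨(fun η => closure {η}) '' Sg, ?_, ⟨_, ⟨η₀, hη₀, rfl⟩⟩, by simp [S, Set.sUnion_image]⟩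
    rintro _ ⟨η, hη, rfl⟩
    exact hη.1
  have hmem : ∀ η ∈ genericPoints X, η ∈ S → η ∈ Sg := fun η hη hηS => by
    obtain ⟨η', hη', h⟩ := Set.mem_iUnion₂.1 hηS
    rwa [← eq_of_specializes_generic hη (specializes_iff_mem_closure.2 h)]
  let J : X.IdealSheafData := Scheme.IdealSheafData.vanishingIdeal ⟨S, hScl⟩
  let i := J.subschemeι
  have hrange : Set.range i = S := range_subschι S hScl
  haveI hJred : IsReduced J.subscheme := isReduced_subsch S hScl
  letI : J.subscheme.Over (Spec (CommRingCat.of k)) := ⟨i ≫ (X ↘ Spec (CommRingCat.of k))⟩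
  haveI : IsProper (J.subscheme ↘ Spec (CommRingCat.of k)) := inferInstanceAs (IsProper (i ≫ _))
  haveI : IsLocallyNoetherian J.subscheme := LocallyOfFiniteType.isLocallyNoetherian i
  haveI : CompactSpace J.subscheme := i.isClosedEmbedding.compactSpace
  haveI : IsNoetherian J.subscheme := {}
  have hJX : Proj16.ClosedDimOne J.subscheme := closedDimOne_subcurve k hX hScl hSs
  have hJdim : topologicalKrullDim J.subscheme = 1 := by
    refine le_antisymm (i.isClosedEmbedding.isInducing.topologicalKrullDim_le.trans hdim.le) ?_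
    rw [show (1 : WithBot ℕ∞) = ((1 : ℕ) : WithBot ℕ∞) from rfl, ← components_dim_one k hX _ hη₀.1]
    let e : J.subscheme ≃ₜ S := i.isClosedEmbedding.isEmbedding.toHomeomorph.trans (Homeomorph.setCongr hrange)
    rw [e.isHomeomorph.topologicalKrullDim_eq]
    exact (Topology.IsEmbedding.inclusion (show closure {η₀} ⊆ S from
      Set.subset_biUnion_of_mem (u := fun η => closure ({η} : Set X)) hη₀)).isInducing.topologicalKrullDim_le
  -- the restriction map
  let B := (DCoh.tensorBi.obj L).obj (ClSub.quotMod J)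
  let a : T ⟶ B := (DCoh.tensorBi.obj L).map (ClSub.idealModι Z) ≫ (DCoh.tensorBi.obj L).map (ClSub.toSubscheme J)
  obtain ⟨pe⟩ := AmpleDev.push_tensor_iso i hL (Coh.structureModule J.subscheme)
  let LJ : J.subscheme.Modules := CohB1.tensorMod (Coh.structureModule J.subscheme) ((Scheme.Modules.pullback i).obj L)
  have hLJ : PicF.IsInvertible LJ :=
    InvX.isInvertible_tensorMod InvX.isInvertible_structureModule (PicClLib.isInvertible_pullback _ hL)
  obtain ⟨cm⟩ := H23.PicMul.comm L (ClSub.quotMod J)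
  let εB : B ≅ (Scheme.Modules.pushforward i).obj LJ := cm ≪≫ pe
  have hBtf : TorSh.IsTorsionFree B := by
    haveI : Mono εB.hom := inferInstance
    exact torsionFree_of_mono εB.hom
      (torsionFree_push hScl hSs (ProjUPX.isQCoh_of_isInvertible hLJ) (torsionFree_invertible hLJ))
  have hB0 : ∀ η ∉ S, ∀ v : (DerSch.stalkFunctor X η).obj B, v = 0 := fun η hη v => by
    refine st_injective εB.hom η ?_
    rw [map_zero]
    exact push_stalk_eq_zero (hZ := hScl) LJ hη _
  haveI : Epi ((DCoh.tensorBi.obj L).map (ClSub.toSubscheme J)) := by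
    haveI := epi_toSubscheme J
    exact (CurveTensor.shortExact_tensor hLf _ _ _ (CurveSlope.shortExact_kernel_of_epi (ClSub.toSubscheme J))).epi_g
  have hsurjT : ∀ y : X, y ≠ x → Function.Surjective (st ((DCoh.tensorBi.obj L).map (ClSub.idealModι Z)) y) := by
    intro y hy w
    have hS2 := hS.map_of_exact (DerSch.stalkFunctor X y)
    haveI : Subsingleton ((DerSch.stalkFunctor X y).obj C) :=
      subsingleton_stalk_iff.2 fun h => hy (hCsupp y h)
    obtain ⟨t, ht⟩ := (ShortComplex.moduleCat_exact_iff _).1 hS2.exact w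
      (Subsingleton.elim (α := (DerSch.stalkFunctor X y).obj C) _ _)
    exact ⟨t, ht⟩
  have hgenne : ∀ η ∈ genericPoints X, η ≠ x := fun η hη h => by
    subst h
    have h0 := (VarDim.closedPoint_iff_deg_eq_zero (X ↘ Spec (CommRingCat.of k)) η).1 hx
    rw [(Proj16.closedDimOne_iff_deg (X ↘ Spec (CommRingCat.of k))).1 hX η (isMaximal_of_generic hη)] at h0
    exact one_ne_zero h0
  have ha : ∀ y : X, y ≠ x → Function.Surjective (st a y) := fun y hy w => by
    obtain ⟨w', rfl⟩ := st_surjective ((DCoh.tensorBi.obj L).map (ClSub.toSubscheme J)) y w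
    obtain ⟨t, rfl⟩ := hsurjT y hy w'
    exact ⟨t, st_comp _ _ _ _⟩
  have hTgen : ∀ η ∈ genericPoints X,
      Nonempty ((DerSch.stalkFunctor X η).obj T ≃ₗ[X.presheaf.stalk η] X.presheaf.stalk η) := fun η hη => by
    obtain ⟨l⟩ := H23.InvStalk.exists_stalk_equiv hL η
    exact ⟨(LinearEquiv.ofBijective (st ((DCoh.tensorBi.obj L).map (ClSub.idealModι Z)) η).hom
      ⟨st_injective _ η, hsurjT η (hgenne η hη)⟩).trans
        (((DerSch.stalkFunctor X η).mapIso (KFlatLib.tensorUnitIso L)).toLinearEquiv.trans l)⟩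
  have haS : ∀ η ∈ genericPoints X, η ∈ S → Function.Injective (st a η) := by
    intro η hη hηS
    obtain ⟨l⟩ := hTgen η hη
    obtain ⟨z, rfl⟩ : η ∈ Set.range i := by rw [hrange]; exact hηS
    obtain ⟨e, -⟩ := exists_stalkPushEquiv i z
    obtain ⟨lJ⟩ := H23.InvStalk.exists_stalk_equiv hLJ z
    haveI : Nontrivial ((DerSch.stalkFunctor X (i z)).obj B) := by
      haveI : Nontrivial ((DerSch.stalkFunctor J.subscheme z).obj LJ) := lJ.toEquiv.nontrivial
      exact ((((DerSch.stalkFunctor X (i z)).mapIso εB).toLinearEquiv.toEquiv).trans (e LJ).toEquiv).nontrivial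
    obtain ⟨w, hw⟩ := exists_ne (0 : (DerSch.stalkFunctor X (i z)).obj B)
    obtain ⟨t, rfl⟩ := ha (i z) (hgenne _ hη) w
    exact injective_of_field (isField_stalk_generic hη) l (st a (i z)).hom hw
  -- the coimage, through which all maps factor
  have hKφ : ∀ b, kernel.ι a ≫ φ b = 0 := fun b => by
    refine hom_eq_zero hωc.1 hωtf _ fun η hη v => ?_
    rw [st_comp]
    by_cases hηS : η ∈ S
    · have h0 : st a η (st (kernel.ι a) η v) = 0 := by rw [← st_comp, kernel.condition, st_zero]
      rw [haS η hη hηS (h0.trans (map_zero _).symm), map_zero]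
    · by_contra hv
      exact hηS (Set.mem_biUnion (x := η) ⟨hη, b, _, hv⟩ (subset_closure rfl))
  let G : X.Modules := cokernel (kernel.ι a)
  let π : T ⟶ G := cokernel.π (kernel.ι a)
  let m : G ⟶ B := Abelian.factorThruCoimage a
  haveI : Mono m := inferInstance
  have hπm : π ≫ m = a := Abelian.coimage.fac a
  let φb : Fin (Module.finrank k (T ⟶ ω)) → (G ⟶ ω) := fun b => cokernel.desc _ (φ b) (hKφ b)
  have hπφ : ∀ b, π ≫ φb b = φ b := fun b => cokernel.π_desc _ _ _
  have hBc : Coh.IsCoh B := hT _ (hQ J)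
  have hKc : Coh.IsCoh (kernel a) := QCoh.isCoh_kernel hTc hBc a
  have hGc : Coh.IsCoh G := QCoh.isCoh_cokernel hKc.1 hTc _
  have hm : ∀ y : X, y ≠ x → Function.Surjective (st m y) := fun y hy w => by
    obtain ⟨t, rfl⟩ := ha y hy w
    exact ⟨st π y t, by rw [← st_comp, hπm]⟩
  -- a clopen piece missing `x` is empty
  have key : ∀ z : J.subscheme, ∃ g, g ⤳ z ∧ g ∈ genericPoints J.subscheme := fun z => by
    obtain ⟨g, hg, hmax⟩ := VarDim.exists_maximal_generalization (J.subscheme ↘ Spec (CommRingCat.of k)) z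
    exact ⟨g, hg, VarDim.closure_mem_irreducibleComponents hmax⟩
  have hpiece : ∀ Y : Set J.subscheme, IsClopen Y → (∀ z ∈ Y, i z ≠ x) → Y = ∅ := by
    intro Y hY hYx
    by_contra hne
    obtain ⟨y, hy⟩ := Set.nonempty_iff_ne_empty.2 hne
    obtain ⟨g, hgy, hg⟩ := key y
    have hgY : g ∈ Y := hgy.mem_open hY.isOpen hy
    obtain ⟨ε, hε, hεY⟩ := HensCouple7.exists_idempotent_of_isClopen hY
    let eB : B ⟶ B := εB.hom ≫ (Scheme.Modules.pushforward i).map (LCZLib.smulHom ε LJ) ≫ εB.inv
    have hee : ∀ (z : J.subscheme) (v : (DerSch.stalkFunctor X (i z)).obj B),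
        (z ∈ Y → st eB (i z) v = v) ∧ (z ∉ Y → st eB (i z) v = 0) := by
      intro z v
      obtain ⟨e, he⟩ := exists_stalkPushEquiv i z
      have hcases := germ_idempotent hε z
      constructor
      · intro hz
        have h' : z ∈ J.subscheme.basicOpen ε := by rw [← SetLike.mem_coe, hεY]; exact hz
        have : st ((Scheme.Modules.pushforward i).map (LCZLib.smulHom ε LJ)) (i z) (st εB.hom (i z) v) =
            st εB.hom (i z) v := (e LJ).injective (by
          rw [he, st_smulHom, hcases.1 h', one_smul])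
        rw [st_comp, st_comp, this, ← st_comp, εB.hom_inv_id, st_id]
      · intro hz
        have h' : z ∉ J.subscheme.basicOpen ε := by rw [← SetLike.mem_coe, hεY]; exact hz
        have : st ((Scheme.Modules.pushforward i).map (LCZLib.smulHom ε LJ)) (i z) (st εB.hom (i z) v) = 0 :=
          (e LJ).injective (by rw [he, st_smulHom, hcases.2 h', zero_smul, map_zero])
        rw [st_comp, st_comp, this, map_zero]
    have h0 : eB ≫ cokernel.π m = 0 := by
      refine Synt29.ConormalExact.hom_ext_stalk _ _ fun y v => ?_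
      show st (eB ≫ cokernel.π m) y v = st (0 : B ⟶ cokernel m) y v
      rw [st_comp, st_zero]
      by_cases hyS : y ∈ S
      · obtain ⟨z, rfl⟩ : y ∈ Set.range i := by rw [hrange]; exact hyS
        by_cases hz : z ∈ Y
        · obtain ⟨w, hw⟩ := hm (i z) (hYx z hz) (st eB (i z) v)
          rw [← hw, ← st_comp, cokernel.condition, st_zero]
        · rw [(hee z v).2 hz, map_zero]
      · rw [hB0 y hyS v, map_zero, map_zero]
    let ξ : B ⟶ G := Abelian.monoLift m eB h0
    have hξ : ξ ≫ m = eB := Abelian.monoLift_comp m eB h0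
    have hgen : i g ∈ genericPoints X := map_mem_genericPoints hScl hSs hg
    obtain ⟨-, b, w, hw⟩ := hmem _ hgen (hrange ▸ Set.mem_range_self g)
    have hzero : (DCoh.tensorBi.obj L).map (ClSub.toSubscheme J) ≫ ξ ≫ φb b = 0 := hHomL.elim _ _
    have h1 : a ≫ ξ ≫ φb b = 0 := by
      show ((DCoh.tensorBi.obj L).map (ClSub.idealModι Z) ≫ _) ≫ _ = 0
      rw [Category.assoc, hzero, comp_zero]
    refine hw ?_
    have h2 : st ξ (i g) (st a (i g) w) = st π (i g) w := by
      refine st_injective m (i g) ?_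
      rw [← st_comp, hξ, (hee g _).1 hgY, ← hπm, st_comp]
    have h3 := congrArg (fun f => st f (i g) w) h1
    simp only [st_comp, st_zero] at h3
    rw [h2, ← st_comp, hπφ] at h3
    exact h3
  obtain ⟨zx, hzx⟩ : x ∈ Set.range i := by
    by_contra hn
    obtain ⟨z, -⟩ : η₀ ∈ Set.range i := by
      rw [hrange]; exact Set.mem_biUnion hη₀ (subset_closure rfl)
    exact (Set.eq_empty_iff_forall_notMem.1 (hpiece Set.univ isClopen_univ fun z _ h => hn ⟨z, h⟩)) z trivial
  haveI hconn : ConnectedSpace J.subscheme := by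
    haveI : Nonempty J.subscheme := ⟨zx⟩
    refine connectedSpace_iff_clopen.2 ⟨inferInstance, fun Y hY => ?_⟩
    by_cases hz : zx ∈ Y
    · refine Or.inr (Set.compl_empty_iff.1 (hpiece Yᶜ hY.compl fun z hzY h => hzY ?_))
      rwa [i.isClosedEmbedding.injective (h.trans hzx.symm)]
    · refine Or.inl (hpiece Y hY fun z hzY h => hz ?_)
      rwa [← i.isClosedEmbedding.injective (h.trans hzx.symm)]
  -- the module on `J`
  haveI hu : IsIso ((Scheme.Modules.pullbackPushforwardAdjunction i).unit.app G) :=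
    isIso_unit_of_mono i m hGc.1 (ProjUPX.isQCoh_of_isInvertible hLJ) εB
  let Nm := (Scheme.Modules.pullback i).obj G
  have hNc : Coh.IsCoh Nm := ZClosLib.isCoh_pullback _ hGc
  let u : G ≅ (Scheme.Modules.pushforward i).obj Nm :=
    asIso ((Scheme.Modules.pullbackPushforwardAdjunction i).unit.app G)
  let w : Nm ⟶ LJ := ((Scheme.Modules.pullbackPushforwardAdjunction i).homEquiv G LJ).symm (m ≫ εB.hom)
  have hwe : u.hom ≫ (Scheme.Modules.pushforward i).map w = m ≫ εB.hom :=
    ((Scheme.Modules.pullbackPushforwardAdjunction i).homEquiv_unit G LJ w).symm.trans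
      (Equiv.apply_symm_apply _ _)
  haveI : Mono w := by
    haveI : Mono (u.hom ≫ (Scheme.Modules.pushforward i).map w) := by rw [hwe]; exact mono_comp _ _
    haveI : Mono ((Scheme.Modules.pushforward i).map w) := by
      rw [← u.inv_hom_id_assoc ((Scheme.Modules.pushforward i).map w)]; exact mono_comp _ _
    haveI := AmpleVan.faithful_push i
    exact (Scheme.Modules.pushforward i).mono_of_mono_map (f := w) inferInstance
  have hNt : TorSh.IsTorsionFree Nm := torsionFree_of_mono w (torsionFree_invertible hLJ)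
  obtain ⟨t, ht⟩ := exists_isRDualOver_shriek i rfl hω hωc
  obtain ⟨hωJc, -, hωJ1⟩ := isTF1_dualizing hJdim hJX ht
  let ψ : Fin (Module.finrank k (T ⟶ ω)) → (Nm ⟶ (shriek i).obj ω) := fun b =>
    (shriekAdj i).homEquiv Nm ω (u.inv ≫ φb b)
  have hψne : ∀ z ∈ genericPoints J.subscheme, ∃ b v, st (ψ b) z v ≠ 0 := by
    intro z hz
    obtain ⟨-, b, v, hv⟩ := hmem _ (map_mem_genericPoints hScl hSs hz)
      (show i z ∈ S by rw [← hrange]; exact Set.mem_range_self z)
    obtain ⟨e, he⟩ := exists_stalkPushEquiv i z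
    refine ⟨b, e Nm (st u.hom (i z) (st π (i z) v)), fun h0 => hv ?_⟩
    have hψ : (Scheme.Modules.pushforward i).map (ψ b) ≫ (shriekAdj i).counit.app ω = u.inv ≫ φb b :=
      ((shriekAdj i).homEquiv_counit _ _ (ψ b)).symm.trans (Equiv.symm_apply_apply _ _)
    rw [← he] at h0
    have h1 : st ((Scheme.Modules.pushforward i).map (ψ b)) (i z) (st u.hom (i z) (st π (i z) v)) = 0 :=
      (e ((shriek i).obj ω)).injective (h0.trans (map_zero _).symm)
    rw [← hπφ b, st_comp, ← u.hom_inv_id_assoc (φb b), ← hψ, st_comp, st_comp, h1, map_zero]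
  have hN1 : ∀ z ∈ genericPoints J.subscheme,
      Nonempty ((DerSch.stalkFunctor J.subscheme z).obj Nm ≃ₗ[J.subscheme.presheaf.stalk z] J.subscheme.presheaf.stalk z) := by
    intro z hz
    obtain ⟨b, v, hv⟩ := hψne z hz
    obtain ⟨lJ⟩ := H23.InvStalk.exists_stalk_equiv hLJ z
    have hne : st w z v ≠ 0 := fun h => hv (by
      rw [st_injective w z (h.trans (map_zero _).symm), map_zero])
    exact ⟨(LinearEquiv.ofBijective (st w z).hom ⟨st_injective w z,
      surjective_of_field (isField_stalk_generic hz) lJ (st w z).hom hne⟩).trans lJ⟩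
  have hh0 := h0_le_of_homs k hNc hωJc hNt hN1 hωJ1 ψ hψne
  rw [finrank_HH_dualizing hJdim (cm_of_reduced (k := k) hJX) ht 0 zero_le_one] at hh0
  change _ ≤ Module.finrank k (Coh.HH J.subscheme (Coh.structureModule J.subscheme) 1) at hh0
  -- `h¹(G) = d`
  have hG1 : Module.finrank k (Coh.HH X G 1) = d := by
    rw [← finrank_hom hω hGc.1, ← hHomT]
    refine (LinearEquiv.ofBijective (Linear.leftComp k ω π) ⟨fun f f' h => (cancel_epi π).1 h, fun f => ?_⟩).finrank_eq
    have hf : kernel.ι a ≫ f = 0 := by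
      rw [← φ.sum_repr f, Preadditive.comp_sum]
      exact Finset.sum_eq_zero fun b _ => by rw [Linear.comp_smul, hKφ, smul_zero]
    refine ⟨cokernel.desc (kernel.ι a) f hf, ?_⟩
    exact cokernel.π_desc (kernel.ι a) f hf
  obtain ⟨eP1⟩ := PnCoh.exists_linearEquiv_push k i rfl hNc.1 1
  obtain ⟨eU⟩ := ExtShX.nonempty_HH_equiv_of_iso (A := k) u 1
  have hN1' : Module.finrank k (Coh.HH J.subscheme Nm 1) = d := eP1.finrank_eq.trans (eU.finrank_eq.symm.trans hG1)
  have hGe : Curv2.euler k X G = Curv2.euler k J.subscheme Nm :=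
    (Euler.euler_congr k u).trans (AmpleDev.euler_push k i rfl hNc.1)
  have hSG : (ShortComplex.mk m (cokernel.π m) (cokernel.condition m)).ShortExact :=
    { exact := ShortComplex.exact_of_g_is_cokernel _ (cokernelIsCokernel m) }
  have hKc' : Coh.IsCoh (cokernel m) := QCoh.isCoh_cokernel hGc.1 hBc _
  have e1 := CurveBundle.euler_add' k _ _ _ hSG hGc hBc hKc'
  have eB' : Curv2.euler k X B = @Curv2.deg k _ J.subscheme ⟨i ≫ (X ↘ Spec (CommRingCat.of k))⟩
      ((Scheme.Modules.pullback i).obj L) 1 + Curv2.euler k J.subscheme (Coh.structureModule J.subscheme) := by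
    have h := AmpleDev.euler_sub_eq_deg k J hL
    rw [← Euler.euler_congr k cm, AmpleDev.euler_push k i rfl QCoh.isQCoh_structureModule] at h
    have h' : Curv2.euler k X B - Curv2.euler k J.subscheme (Coh.structureModule J.subscheme) =
        @Curv2.deg k _ J.subscheme ⟨i ≫ (X ↘ Spec (CommRingCat.of k))⟩ ((Scheme.Modules.pullback i).obj L) 1 := h
    linarith
  -- `χ(coker) ≤ d`
  have hcok : Curv2.euler k X (cokernel m) ≤ d := by
    have hkill : (DCoh.tensorBi.obj L).map (ClSub.idealModι Z) ≫
        ((DCoh.tensorBi.obj L).map (ClSub.toSubscheme J) ≫ cokernel.π m) = 0 := by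
      show _ = _
      rw [← Category.assoc]
      show a ≫ cokernel.π m = 0
      rw [← hπm, Category.assoc, cokernel.condition, comp_zero]
    let δ : C ⟶ cokernel m := hS.gIsCokernel.desc (CokernelCofork.ofπ _ hkill)
    have hδ : (DCoh.tensorBi.obj L).map (ClSub.toSubscheme Z) ≫ δ =
        (DCoh.tensorBi.obj L).map (ClSub.toSubscheme J) ≫ cokernel.π m :=
      hS.gIsCokernel.fac (CokernelCofork.ofπ _ hkill) WalkingParallelPair.one
    haveI : Epi ((DCoh.tensorBi.obj L).map (ClSub.toSubscheme J) ≫ cokernel.π m) := epi_comp _ _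
    haveI : Epi δ := epi_of_epi_fac hδ
    have hSd : (ShortComplex.mk (kernel.ι δ) δ (kernel.condition δ)).ShortExact :=
      CurveSlope.shortExact_kernel_of_epi _
    have hKd : Coh.IsCoh (kernel δ) := QCoh.isCoh_kernel hC hKc' δ
    have h := CurveBundle.euler_add' k _ _ _ hSd hKd hC hKc'
    have hsupp : ∀ y ∈ CohB1.support (kernel δ), IsClosed ({y} : Set X) := fun y hy => by
      refine hCsupp y (fun hs => hy ?_) ▸ hx
      haveI : Subsingleton ((DerSch.stalkFunctor X y).obj C) := hs
      exact (st_injective (kernel.ι δ) y).subsingleton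
    rw [CurveCohLib.euler_eq_finrank_zero hKd hsupp, hCe] at h
    omega
  have hd2 := hdeg J hJred hconn hJdim
  change 2 * ((Module.finrank k (Coh.HH J.subscheme (Coh.structureModule J.subscheme) 1) : ℕ) : ℤ) ≤ _ at hd2
  haveI : Nonempty J.subscheme := ⟨zx⟩
  have h0J := one_le_h0 k (X := J.subscheme)
  have e1' : Curv2.euler k X B = Curv2.euler k X G + Curv2.euler k X (cokernel m) := e1
  have e2' := euler_two (k := k) hJdim.le hNc.1
  have e3' := euler_two (k := k) (X := J.subscheme) hJdim.le QCoh.isQCoh_structureModule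
  have eB'' : Curv2.euler k X B = @Curv2.deg k _ J.subscheme ⟨J.subschemeι ≫ (X ↘ Spec (CommRingCat.of k))⟩
      ((Scheme.Modules.pullback J.subschemeι).obj L) 1 + Curv2.euler k J.subscheme (Coh.structureModule J.subscheme) := eB'
  omega

include k in
/-- Degree at least twice the genus on every connected subcurve gives global generation. -/
theorem isGloballyGenerated_of_two_genus [IsReduced X] (hdim : topologicalKrullDim X = 1)
    (hX : Proj16.ClosedDimOne X) {L : X.Modules} (hL : PicF.IsInvertible L)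
    (hdeg : ∀ J : X.IdealSheafData, IsReduced J.subscheme → ConnectedSpace J.subscheme →
      topologicalKrullDim J.subscheme = 1 →
      2 * (@Curv2.genus k _ J.subscheme ⟨J.subschemeι ≫ (X ↘ Spec (CommRingCat.of k))⟩ : ℤ) ≤
        @Curv2.deg k _ J.subscheme ⟨J.subschemeι ≫ (X ↘ Spec (CommRingCat.of k))⟩
          ((Scheme.Modules.pullback J.subschemeι).obj L) 1) :
    Curv2.IsGloballyGenerated L :=
  isGloballyGenerated_of_point_sections k hL fun x hx => exists_point_section_of_two_genus k hdim hX hL hdeg x hx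

end Groth.Agent.CanonDual
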