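import Groth.Agent.CanonDual.CurveOne
import Groth.Agent.SheafHomX.Main
import Groth.Agent.GGFF.Descent
import Groth.Agent.QCoh.SupportFT
import Groth.Agent.Lib.Euler
import Groth.Prelude

/-!
# Extensions by the dualizing module and global sections
-/

set_option autoImplicit false
set_option linter.style.haveILetI false
set_option linter.unusedSectionVars false
set_option backward.isDefEq.respectTransparency false
set_option backward.isDefEq.respectTransparency.types false
set_option maxHeartbeats 1000000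

universe u

open CategoryTheory CategoryTheory.Limits AlgebraicGeometry TopologicalSpace Opposite
open Groth.Agent.PnCoh.Finite (mapLin deltaLin)

noncomputable section

namespace Groth.Agent.CanonDual

variable {k : Type u} [Field k] {X : Scheme.{u}} [X.Over (Spec (CommRingCat.of k))]
  [IsProper (X ↘ Spec (CommRingCat.of k))]

theorem mapLin_cls {F G : X.Modules} (y : Coh.structureModule X ⟶ F) (g : F ⟶ G) :
    mapLin k g 0 (SheafHomX.cls y) = SheafHomX.cls (y ≫ g) :=
  SheafHomX.map_cls y g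

/-- The global sections of an extension by a quotient of the dualizing module hit a generating set. -/
theorem exists_free_comp_epi (hdim : topologicalKrullDim X = 1)
    (h0 : Module.finrank k (Coh.HH X (Coh.structureModule X) 0) = 1)
    {ω : X.Modules} {tr : Coh.HH X ω 1 →ₗ[k] k} (hω : Canon.IsRDualOver k X 1 ω tr)
    {F Q : X.Modules} (hF : Coh.IsCoh F) (hQ : Coh.IsCoh Q)
    (f : ω ⟶ F) (g : F ⟶ Q) [Epi g] (w : f ≫ g = 0) (hex : (ShortComplex.mk f g w).Exact)
    (hQ0 : ∀ x ∈ CohB1.support Q, IsClosed ({x} : Set X)) (hQ2 : 2 ≤ Module.finrank k (Coh.HH X Q 0))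
    (hno : ∀ (Q' : X.Modules) (i : Q' ⟶ F), Mono i → Mono (i ≫ g) → IsZero Q') :
    ∃ (ι : Type u) (p : (SheafOfModules.free ι : X.Modules) ⟶ F), Epi (p ≫ g) := by
  haveI := CurveCohLib.isNoetherian_of_proper (k := k) (X := X)
  have hωc := isCoh_dualizing hdim.le hω
  let ι := (Coh.structureModule X ⟶ F)
  let P : X.Modules := SheafOfModules.free ι
  let p : P ⟶ F := Sigma.desc (f := fun _ : ι => SheafOfModules.unit X.ringCatSheaf) fun s => s
  refine ⟨ι, p, ?_⟩
  by_contra hne
  -- the submodule generated by the sections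
  let π : Q ⟶ cokernel (p ≫ g) := cokernel.π (p ≫ g)
  let Q₁ := kernel π
  let j : Q₁ ⟶ Q := kernel.ι π
  have hC : ¬ IsZero (cokernel (p ≫ g)) := fun hz => hne (Abelian.epi_of_cokernel_π_eq_zero _ (hz.eq_of_tgt _ _))
  have hlift : ∀ s : Coh.structureModule X ⟶ F, (s ≫ g) ≫ π = 0 := fun s => by
    have hs : Sigma.ι (fun _ : ι => SheafOfModules.unit X.ringCatSheaf) s ≫ p = s := Sigma.ι_desc _ _
    rw [← hs, Category.assoc (Sigma.ι _ s), Category.assoc, cokernel.condition, comp_zero]
  have hPq : Coh.IsQCoh P := (inferInstance : (SheafOfModules.free (R := X.ringCatSheaf) ι).IsQuasicoherent)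
  have hCq : Coh.IsCoh (cokernel (p ≫ g)) := QCoh.isCoh_cokernel hPq hQ _
  have hCs : ∀ x ∈ CohB1.support (cokernel (p ≫ g)), IsClosed ({x} : Set X) := fun x hx =>
    hQ0 x (QCoh.support_of_epi hQ.1 hCq.1 π hx)
  have hQ₁ : Coh.IsCoh Q₁ := QCoh.isCoh_kernel hQ hCq π
  have hQ₁s : ∀ x ∈ CohB1.support Q₁, IsClosed ({x} : Set X) := fun x hx =>
    hQ0 x (QCoh.mem_support_of_mono hQ₁.1 hQ.1 j hx)
  -- the quotient short exact sequences
  let S₂ : ShortComplex X.Modules := ShortComplex.mk j π (kernel.condition π)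
  have hS₂ : S₂.ShortExact :=
    { exact := ShortComplex.exact_of_f_is_kernel _ (kernelIsKernel π) }
  let K := kernel g
  let e : ω ⟶ K := kernel.lift g f w
  haveI : Epi e := hex.epi_kernelLift
  have hK : Coh.IsCoh K := QCoh.isCoh_kernel hF hQ g
  let S : ShortComplex X.Modules := ShortComplex.mk (kernel.ι g) g (kernel.condition g)
  have hS : S.ShortExact := { exact := ShortComplex.exact_of_f_is_kernel _ (kernelIsKernel g) }
  -- dimensions
  have hω1 : Module.finrank k (Coh.HH X ω 1) = 1 := by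
    rw [finrank_HH_dualizing hdim (cm_of_h0 hdim h0) hω 1 le_rfl]
    exact h0
  have he1 : Function.Surjective (mapLin k e 1) := by
    let S' : ShortComplex X.Modules := ShortComplex.mk (kernel.ι e) e (kernel.condition e)
    have hS' : S'.ShortExact := { exact := ShortComplex.exact_of_f_is_kernel _ (kernelIsKernel e) }
    haveI : Subsingleton (Coh.HH X S'.X₁ (1 + 1)) := subsingleton_HH_curve k hdim.le (QCoh.isCoh_kernel hωc hK e).1 (by norm_num)
    intro y
    have hy : y ∈ LinearMap.ker (deltaLin k hS' 1) := LinearMap.mem_ker.2 (Subsingleton.elim _ _)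
    rw [CurveCohLib.ker_deltaLin] at hy
    exact hy
  haveI := CurveCohLib.finite_HH (k := k) hωc 1
  haveI := CurveCohLib.finite_HH (k := k) hQ 0
  haveI := CurveCohLib.finite_HH (k := k) hQ₁ 0
  haveI := CurveCohLib.finite_HH (k := k) hK 1
  have hK1 : Module.finrank k (Coh.HH X K 1) ≤ 1 :=
    (LinearMap.finrank_le_finrank_of_surjective (f := mapLin k e 1) he1).trans hω1.le
  let W : Submodule k (Coh.HH X Q 0) := LinearMap.range (mapLin k g 0)
  have hW : Module.finrank k (Coh.HH X Q 0) ≤ Module.finrank k W + Module.finrank k (Coh.HH X K 1) := by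
    have h1 := LinearMap.finrank_range_add_finrank_ker (deltaLin k hS 0)
    rw [CurveCohLib.ker_deltaLin] at h1
    have h2 : Module.finrank k (LinearMap.range (deltaLin k hS 0)) ≤ Module.finrank k (Coh.HH X K 1) := Submodule.finrank_le _
    change Module.finrank k _ + Module.finrank k W = Module.finrank k (Coh.HH X Q 0) at h1
    omega
  let W₁ : Submodule k (Coh.HH X Q 0) := LinearMap.range (mapLin k j 0)
  have hWW : W ≤ W₁ := by
    rintro _ ⟨x, rfl⟩
    obtain ⟨s, rfl⟩ := SheafHomX.cls_surjective x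
    refine ⟨SheafHomX.cls (kernel.lift π (s ≫ g) (hlift s)), ?_⟩
    rw [mapLin_cls, mapLin_cls]
    exact congrArg SheafHomX.cls (kernel.lift_ι _ _ _)
  have hC0 : 0 < Module.finrank k (Coh.HH X (cokernel (p ≫ g)) 0) := by
    refine Nat.pos_of_ne_zero fun hz => hC (CurveCohLib.isZero_of_euler_eq_zero (k := k) hCq hCs ?_)
    rw [CurveCohLib.euler_eq_finrank_zero hCq hCs, hz]
    rfl
  have hlt : Module.finrank k W₁ < Module.finrank k (Coh.HH X Q 0) := by
    have h1 := LinearMap.finrank_range_add_finrank_ker (mapLin k π 0)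
    rw [show LinearMap.ker (mapLin k π 0) = W₁ from CurveCohLib.ker_mapLin_g k hS₂ 0] at h1
    have hsurj : Function.Surjective (mapLin k π 0) := by
      haveI : Subsingleton (Coh.HH X S₂.X₁ (0 + 1)) := S0047.result X Q₁ hQ₁ hQ₁s 1 one_pos
      intro y
      have hy : y ∈ LinearMap.ker (deltaLin k hS₂ 0) := LinearMap.mem_ker.2 (Subsingleton.elim _ _)
      rw [CurveCohLib.ker_deltaLin] at hy
      exact hy
    rw [LinearMap.range_eq_top.2 hsurj, finrank_top] at h1
    omega
  have hWle : Module.finrank k W ≤ Module.finrank k W₁ := Submodule.finrank_mono hWW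
  have heq : W = W₁ := Submodule.eq_of_le_of_finrank_le hWW (by omega)
  have hK1' : Module.finrank k (Coh.HH X K 1) = 1 := by omega
  have heinj : Function.Injective (mapLin k e 1) :=
    ((LinearMap.injective_iff_surjective_of_finrank_eq_finrank (hω1.trans hK1'.symm)).2 he1)
  -- the extension over the submodule
  let F₁ := Limits.pullback g j
  let i₁ : F₁ ⟶ F := pullback.fst g j
  let g₁ : F₁ ⟶ Q₁ := pullback.snd g j
  let l : K ⟶ F₁ := pullback.lift (kernel.ι g) 0 (by rw [kernel.condition, zero_comp])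
  have hli : l ≫ i₁ = kernel.ι g := pullback.lift_fst _ _ _
  have hlg : l ≫ g₁ = 0 := pullback.lift_snd _ _ _
  haveI : Mono l := mono_of_mono_fac hli
  haveI : Epi g₁ := Abelian.epi_pullback_of_epi_f g j
  let S₁ : ShortComplex X.Modules := ShortComplex.mk l g₁ hlg
  have hS₁ : S₁.ShortExact := by
    refine { exact := ShortComplex.exact_of_f_is_kernel _ (KernelFork.IsLimit.ofι' l hlg fun {T} t ht => ?_) }
    have h1 : (t ≫ i₁) ≫ g = 0 := by
      show (t ≫ pullback.fst g j) ≫ g = 0
      rw [Category.assoc, pullback.condition, ← Category.assoc, show t ≫ pullback.snd g j = 0 from ht, zero_comp]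
    refine ⟨kernel.lift g (t ≫ i₁) h1, pullback.hom_ext ?_ ?_⟩
    · show (_ ≫ l) ≫ i₁ = t ≫ i₁
      rw [Category.assoc, hli, kernel.lift_ι]
    · show (_ ≫ l) ≫ g₁ = t ≫ g₁
      rw [Category.assoc, hlg, comp_zero]
      exact ht.symm
  have hsurj₁ : Function.Surjective (mapLin k g₁ 0) := by
    intro y
    obtain ⟨v, rfl⟩ := SheafHomX.cls_surjective y
    have hv : SheafHomX.cls (v ≫ j) ∈ W := heq ▸ ⟨SheafHomX.cls v, mapLin_cls v j⟩
    obtain ⟨x, hx⟩ := hv
    obtain ⟨s, rfl⟩ := SheafHomX.cls_surjective x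
    rw [mapLin_cls] at hx
    refine ⟨SheafHomX.cls (pullback.lift s v (SheafHomX.cls_injective hx)), ?_⟩
    rw [mapLin_cls]
    exact congrArg SheafHomX.cls (pullback.lift_snd _ _ _)
  have hlinj : Function.Injective (mapLin k l 1) := by
    rw [← LinearMap.ker_eq_bot, show LinearMap.ker (mapLin k l 1) = LinearMap.range (deltaLin k hS₁ 0) from
      CurveCohLib.ker_mapLin_f_succ k hS₁ 0, LinearMap.range_eq_bot]
    refine LinearMap.ext fun y => ?_
    obtain ⟨x, rfl⟩ := hsurj₁ y
    have hmem : mapLin k g₁ 0 x ∈ LinearMap.ker (deltaLin k hS₁ 0) := by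
      rw [CurveCohLib.ker_deltaLin]
      exact ⟨x, rfl⟩
    exact LinearMap.mem_ker.1 hmem
  -- splitting by duality
  let T : Coh.HH X ω 1 →ₗ[k] Coh.HH X F₁ 1 := (mapLin k l 1).comp (mapLin k e 1)
  have hT : Function.Injective T := hlinj.comp heinj
  obtain ⟨φ, hφ⟩ := LinearMap.exists_extend (tr.comp (LinearEquiv.ofInjective T hT).symm.toLinearMap)
  have hF₁ : Coh.IsQCoh F₁ := by
    have h3 : Coh.IsCoh S₁.X₃ := hQ₁
    exact QCoh.isQCoh_X₂ hS₁ hK.1 h3.1
  obtain ⟨ψ, hψ⟩ := (hω.2 F₁ hF₁).2 φ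
  have hsplit : (e ≫ l) ≫ ψ = 𝟙 ω := (hω.2 ω hω.1).1 (LinearMap.ext fun x => by
    have h1 : φ (T x) = tr x := by
      have := LinearMap.congr_fun hφ (LinearEquiv.ofInjective T hT x)
      simpa using this
    rw [← hψ] at h1
    have hm : ∀ {A B C : X.Modules} (a : A ⟶ B) (b : B ⟶ C) (z : Coh.HH X A 1),
        mapLin k (a ≫ b) 1 z = mapLin k b 1 (mapLin k a 1 z) := fun a b z => by
      show Sheaf.H.map ((QCoh.toAbFunctor X).map (a ≫ b)) 1 z = _
      rw [Functor.map_comp]
      exact (PnCoh.Finite.map_map (Y := X.toPresheafedSpace.carrier) rfl 1 z).symm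
    show tr (mapLin k ((e ≫ l) ≫ ψ) 1 x) = tr (mapLin k (𝟙 ω) 1 x)
    rw [hm, hm]
    refine h1.trans (congrArg tr ?_)
    show x = Sheaf.H.map ((QCoh.toAbFunctor X).map (𝟙 ω)) 1 x
    rw [CategoryTheory.Functor.map_id]
    exact (Sheaf.H.map_id_apply _).symm)
  haveI : IsSplitMono e := ⟨⟨⟨l ≫ ψ, by rw [← Category.assoc]; exact hsplit⟩⟩⟩
  haveI : IsIso e := isIso_of_epi_of_isSplitMono e
  have hretr : l ≫ (ψ ≫ e) = 𝟙 K := by
    rw [← cancel_epi e, ← Category.assoc, ← Category.assoc, hsplit, Category.id_comp, Category.comp_id]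
  let hsp := ShortComplex.Splitting.ofExactOfRetraction S₁ hS₁.exact (ψ ≫ e) hretr hS₁.epi_g
  haveI : Mono hsp.s := (SplitMono.mono ⟨g₁, hsp.s_g⟩)
  have hmono : Mono ((hsp.s ≫ i₁) ≫ g) := by
    rw [Category.assoc, show i₁ ≫ g = g₁ ≫ j from pullback.condition, ← Category.assoc,
      show hsp.s ≫ g₁ = 𝟙 Q₁ from hsp.s_g, Category.id_comp]
    infer_instance
  have hz : IsZero Q₁ := hno Q₁ (hsp.s ≫ i₁) inferInstance hmono
  have : Module.finrank k (Coh.HH X Q₁ 0) = 0 := CurveCohLib.finrank_HH_zero_eq_zero_of_isZero hz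
  have hW₁ : Module.finrank k W₁ ≤ Module.finrank k (Coh.HH X Q₁ 0) := LinearMap.finrank_range_le _
  omega

end Groth.Agent.CanonDual
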