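import Groth.Agent.CanonDual.H1Crit
import Groth.Agent.CanonDual.LiftSections
import Groth.Agent.ExtShX.LinearHom
import Mathlib.RingTheory.AdjoinRoot
import Mathlib.LinearAlgebra.Matrix.ToLin

/-!
# Sections of a module with enough maps to the dualizing module

Finitely many maps `N → ω`, some nonzero at each generic point, combine through an integral
companion matrix into an injection `N^m → ω^m`, over any ground field.
-/

set_option autoImplicit false
set_option linter.style.haveILetI false
set_option linter.unusedSectionVars false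
set_option backward.isDefEq.respectTransparency false
set_option backward.isDefEq.respectTransparency.types false

universe u

open CategoryTheory CategoryTheory.Limits AlgebraicGeometry TopologicalSpace Opposite

noncomputable section

namespace Groth.Agent.CanonDual

open Groth.Agent TFQuot
open Polynomial (aeval natDegree)

/-- Euclid's sequence of pairwise coprime monic integer polynomials. -/
def euclidP : ℕ → Polynomial ℤ
  | 0 => Polynomial.X
  | n + 1 => euclidP n * (euclidP n + 1)

theorem euclidP_monic : ∀ n, (euclidP n).Monic ∧ 0 < (euclidP n).natDegree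
  | 0 => ⟨Polynomial.monic_X, by simp [euclidP]⟩
  | n + 1 => by
    obtain ⟨hm, hd⟩ := euclidP_monic n
    have h1 : (euclidP n + 1).Monic := hm.add_of_left (by
      rw [Polynomial.degree_one]
      exact Polynomial.natDegree_pos_iff_degree_pos.1 hd)
    exact ⟨hm.mul h1, by rw [euclidP, hm.natDegree_mul h1]; omega⟩

theorem euclidP_dvd {i j : ℕ} (h : i ≤ j) : euclidP i ∣ euclidP j := by
  induction j, h using Nat.le_induction with
  | base => exact dvd_rfl
  | succ j _ ih => exact ih.trans (dvd_mul_right _ _)

theorem euclid_coprime {i j : ℕ} (h : i < j) : IsCoprime (euclidP i + 1) (euclidP j + 1) := by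
  obtain ⟨c, hc⟩ : euclidP i + 1 ∣ euclidP j :=
    (dvd_mul_left _ _).trans (euclidP_dvd (show i + 1 ≤ j from h))
  exact ⟨-c, 1, by rw [hc]; ring⟩

theorem finite_not_coprime {K : Type u} [Field K] {p : Polynomial K} (hp : p ≠ 0) :
    {n : ℕ | ¬ IsCoprime p ((euclidP n + 1).map (Int.castRingHom K))}.Finite := by
  classical
  have hex : ∀ n ∈ {n : ℕ | ¬ IsCoprime p ((euclidP n + 1).map (Int.castRingHom K))},
      ∃ r, r ∈ UniqueFactorizationMonoid.normalizedFactors p ∧ Irreducible r ∧
        r ∣ (euclidP n + 1).map (Int.castRingHom K) := by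
    intro n hn
    by_contra hcon
    push_neg at hcon
    refine hn (isCoprime_of_irreducible_dvd (fun h => hp h.1) fun z hz hzp hzq => ?_)
    obtain ⟨r, hr, hzr⟩ := UniqueFactorizationMonoid.exists_mem_normalizedFactors_of_dvd hp hz hzp
    exact hcon r hr (hzr.irreducible hz) (hzr.dvd_iff_dvd_left.1 hzq)
  choose! r hr using hex
  refine Set.Finite.of_finite_image (f := r)
    ((UniqueFactorizationMonoid.normalizedFactors p).toFinset.finite_toSet.subset ?_) ?_
  · rintro _ ⟨n, hn, rfl⟩
    exact Multiset.mem_toFinset.2 (hr n hn).1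
  · intro i hi j hj hij
    by_contra hne
    rcases Nat.lt_or_gt_of_ne hne with h | h
    · exact (hr i hi).2.1.not_isUnit (((euclid_coprime h).map (Polynomial.mapRingHom (Int.castRingHom K))).isUnit_of_dvd'
        (hr i hi).2.2 (hij ▸ (hr j hj).2.2))
    · exact (hr i hi).2.1.not_isUnit (((euclid_coprime h).map (Polynomial.mapRingHom (Int.castRingHom K))).isUnit_of_dvd'
        (hij ▸ (hr j hj).2.2) (hr i hi).2.2)

variable (k : Type u) [Field k] {X : Scheme.{u}} [X.Over (Spec (CommRingCat.of k))]
  [IsProper (X ↘ Spec (CommRingCat.of k))]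

include k in
/-- Maps to `ω`, some nonzero at each generic point, bound the sections. -/
theorem h0_le_of_homs [IsReduced X] {N ω : X.Modules} (hN : Coh.IsCoh N) (hω : Coh.IsCoh ω)
    (hNt : TorSh.IsTorsionFree N)
    (hN1 : ∀ η ∈ genericPoints X, Nonempty ((DerSch.stalkFunctor X η).obj N ≃ₗ[X.presheaf.stalk η] X.presheaf.stalk η))
    (hω1 : ∀ η ∈ genericPoints X, Nonempty ((DerSch.stalkFunctor X η).obj ω ≃ₗ[X.presheaf.stalk η] X.presheaf.stalk η))
    {d : ℕ} (φ : Fin d → (N ⟶ ω)) (hφ : ∀ η ∈ genericPoints X, ∃ i v, st (φ i) η v ≠ 0) :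
    Module.finrank k (Coh.HH X N 0) ≤ Module.finrank k (Coh.HH X ω 0) := by
  classical
  haveI := CurveCohLib.isNoetherian_of_proper (k := k) (X := X)
  have hgfin : (genericPoints X).Finite := finite_genericPoints
  let G := {η : X // η ∈ genericPoints X}
  haveI : Finite G := hgfin.to_subtype
  let lN := fun η : G => (hN1 η.1 η.2).some
  let lω := fun η : G => (hω1 η.1 η.2).some
  let c : ∀ η : G, Fin d → X.presheaf.stalk η.1 := fun η i => lω η (st (φ i) η.1 ((lN η).symm 1))
  have hst : ∀ (η : G) (i : Fin d) (v : (DerSch.stalkFunctor X η.1).obj N),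
      lω η (st (φ i) η.1 v) = lN η v * c η i := fun η i v => by
    have : v = lN η v • (lN η).symm 1 := (lN η).injective (by rw [map_smul, LinearEquiv.apply_symm_apply, smul_eq_mul, mul_one])
    conv_lhs => rw [this]
    rw [map_smul, map_smul, smul_eq_mul]
  let p : ∀ η : G, Polynomial (X.presheaf.stalk η.1) := fun η => ∑ i : Fin d, Polynomial.monomial (i : ℕ) (c η i)
  have hp : ∀ η : G, p η ≠ 0 := fun η h0 => by
    obtain ⟨i, v, hv⟩ := hφ η.1 η.2
    refine hv ((lω η).injective ?_)
    rw [hst, map_zero]
    have : c η i = 0 := by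
      have h := congrArg (fun f => Polynomial.coeff f (i : ℕ)) h0
      simpa [p, Polynomial.finset_sum_coeff, Polynomial.coeff_monomial, Fin.val_inj] using h
    rw [this, mul_zero]
  -- one polynomial coprime to all of them
  obtain ⟨n, hn⟩ : ∃ n, ∀ η : G, IsCoprime (p η) ((euclidP n + 1).map (Int.castRingHom (X.presheaf.stalk η.1))) := by
    have hbad : (⋃ η : G, {n : ℕ | ¬ IsCoprime (p η) ((euclidP n + 1).map (Int.castRingHom (X.presheaf.stalk η.1)))}).Finite := by
      refine Set.finite_iUnion fun η => ?_
      letI := (isField_stalk_generic η.2).toField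
      exact finite_not_coprime (hp η)
    obtain ⟨n, hn⟩ := hbad.exists_notMem
    exact ⟨n, fun η => not_not.1 fun h => hn (Set.mem_iUnion.2 ⟨η, h⟩)⟩
  set q := euclidP n + 1 with hqdef
  obtain ⟨hPm, hPd⟩ := euclidP_monic n
  have hq : q.Monic := hPm.add_of_left (by rw [Polynomial.degree_one]; exact Polynomial.natDegree_pos_iff_degree_pos.1 hPd)
  have hqd : 0 < q.natDegree := by
    have : q.natDegree = (euclidP n).natDegree := by rw [hqdef, ← map_one Polynomial.C, Polynomial.natDegree_add_C]
    omega
  let B := (AdjoinRoot.powerBasis' hq).basis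
  let m := (AdjoinRoot.powerBasis' hq).dim
  have hm : 0 < m := hqd
  let C : Matrix (Fin m) (Fin m) ℤ := Algebra.leftMulMatrix B (AdjoinRoot.root q)
  have hC : aeval C q = 0 := by
    rw [Polynomial.aeval_algHom_apply, AdjoinRoot.aeval_eq, AdjoinRoot.mk_self, map_zero]
  -- the map on tuples of sections
  let F : (Fin m → (Coh.structureModule X ⟶ N)) →ₗ[k] (Fin m → (Coh.structureModule X ⟶ ω)) :=
    LinearMap.pi fun a => ∑ b : Fin m, ∑ i : Fin d,
      ((C ^ (i : ℕ)) a b) • ((Linear.rightComp k (Coh.structureModule X) (φ i)).comp (LinearMap.proj b))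
  have hF : Function.Injective F := by
    refine (injective_iff_map_eq_zero _).2 fun y hy => funext fun b => ?_
    refine hom_eq_zero hN.1 hNt _ fun η hη v => ?_
    let g : G := ⟨η, hη⟩
    let C' : Matrix (Fin m) (Fin m) (X.presheaf.stalk η) := (Int.castRingHom (X.presheaf.stalk η)).mapMatrix C
    let u : Fin m → X.presheaf.stalk η := fun b => lN g (st (y b) η v)
    have hP : Matrix.mulVec (aeval C' (p g)) u = 0 := by
      funext a
      have h := congrArg (fun z : Fin m → (Coh.structureModule X ⟶ ω) => z a) hy
      simp only [F, LinearMap.pi_apply, LinearMap.sum_apply, LinearMap.smul_apply, LinearMap.comp_apply,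
        LinearMap.proj_apply, Linear.rightComp_apply, Pi.zero_apply] at h
      have h2 := congrArg (fun f : Coh.structureModule X ⟶ ω => lω g (st f η v)) h
      simp only [Functor.map_sum, Functor.map_zsmul, Functor.map_comp, ModuleCat.hom_sum, ModuleCat.hom_zsmul,
        ModuleCat.hom_comp, LinearMap.sum_apply, LinearMap.smul_apply, LinearMap.comp_apply, map_sum,
        map_zsmul, Functor.map_zero, ModuleCat.hom_zero, LinearMap.zero_apply, map_zero] at h2
      rw [Pi.zero_apply, ← h2]
      simp only [p, map_sum, Polynomial.aeval_monomial, Matrix.mulVec, dotProduct, Matrix.sum_apply,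
        Finset.sum_mul]
      refine Finset.sum_congr rfl fun b _ => Finset.sum_congr rfl fun i _ => ?_
      rw [hst g i, ← Algebra.smul_def, Matrix.smul_apply, smul_eq_mul, zsmul_eq_mul,
        show C' ^ (i : ℕ) = (Int.castRingHom (X.presheaf.stalk η)).mapMatrix (C ^ (i : ℕ)) from (map_pow _ _ _).symm,
        RingHom.mapMatrix_apply, Matrix.map_apply, eq_intCast]
      show _ * u b = _ * (u b * _)
      ring
    obtain ⟨a, b', hab⟩ := hn g
    have hC' : aeval C' (q.map (Int.castRingHom (X.presheaf.stalk η))) = 0 := by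
      rw [← algebraMap_int_eq, Polynomial.aeval_map_algebraMap]
      exact (Polynomial.aeval_algHom_apply ((Int.castRingHom (X.presheaf.stalk η)).mapMatrix.toIntAlgHom) C q).trans
        (by rw [hC, map_zero])
    have h1 : aeval C' a * aeval C' (p g) = 1 := by
      have h := congrArg (aeval C') hab
      rw [map_add, map_mul, map_mul, map_one, hC', mul_zero, add_zero] at h
      exact h
    have hu : u = 0 := by
      rw [← Matrix.one_mulVec u, ← h1, ← Matrix.mulVec_mulVec, hP, Matrix.mulVec_zero]
    exact (lN g).injective ((congrFun hu b).trans (map_zero _).symm)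
  obtain ⟨eN⟩ := ExtShX.exists_hom_HH0 (A := k) N
  obtain ⟨eω⟩ := ExtShX.exists_hom_HH0 (A := k) ω
  haveI := CurveCohLib.finite_HH (k := k) hN 0
  haveI := CurveCohLib.finite_HH (k := k) hω 0
  haveI := Module.Finite.equiv eN.symm
  haveI := Module.Finite.equiv eω.symm
  have h := LinearMap.finrank_le_finrank_of_injective hF
  rw [Module.finrank_pi_fintype, Module.finrank_pi_fintype, Finset.sum_const, Finset.sum_const, Finset.card_univ,
    Fintype.card_fin, eN.finrank_eq, eω.finrank_eq, smul_eq_mul, smul_eq_mul] at h
  exact Nat.le_of_mul_le_mul_left h hm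

end Groth.Agent.CanonDual
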