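import Groth.Agent.CanonDual.PointSections
import Groth.Agent.CanonDual.CurveOne
import Groth.Agent.CanonDual.Field
import Groth.Agent.CanonDual.Euler
import Groth.Agent.CurveCohLib.Nonspecial
import Groth.Agent.CurveEmbed.DegOne

/-!
# Global generation on integral curves of genus one
-/

set_option autoImplicit false
set_option linter.style.haveILetI false
set_option linter.unusedSectionVars false
set_option backward.isDefEq.respectTransparency false
set_option backward.isDefEq.respectTransparency.types false
set_option maxHeartbeats 1000000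

universe u

open CategoryTheory CategoryTheory.Limits AlgebraicGeometry TopologicalSpace Opposite
open Groth.Agent.PnCoh.Finite (mapLin deltaLin)

noncomputable section

namespace Groth.Agent.CanonDual

open Groth.Agent

variable (k : Type u) [Field k] {X : Scheme.{u}} [X.Over (Spec (CommRingCat.of k))]
  [IsIntegral X] [IsProper (X ↘ Spec (CommRingCat.of k))]

include k in
/-- An integral curve with `dim H¹(O) = 1` has only constant functions. -/
theorem h0_eq_one_of_genus_one (hdim : topologicalKrullDim X = 1) (hg : Curv2.genus k X = 1) :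
    Module.finrank k (Coh.HH X (Coh.structureModule X) 0) = 1 := by
  haveI := CurveCohLib.isNoetherian_of_proper (k := k) (X := X)
  have hXc := closedDimOne_of_connected k hdim
  obtain ⟨N, ι, hι, hιk⟩ := exists_embedding (k := k) (X := X) hdim.le
  obtain ⟨ω, tr, -, hω⟩ := exists_isCoh_isRDualOver k N 1 X ι hιk hdim.le
  have h := finrank_HH_dualizing hdim (cm_of_reduced (k := k) hXc) hω 0 zero_le_one
  have hd := CurveEmbed.h0_structure_dvd k ω
  rw [h, show (1 : ℕ) - 0 = 1 from rfl, show Module.finrank k (Coh.HH X (Coh.structureModule X) 1) = 1 from hg] at hd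
  exact Nat.dvd_one.1 hd

include k in
/-- On an integral genus one curve, degree at least two gives global generation. -/
theorem isGloballyGenerated_of_genus_one (hdim : topologicalKrullDim X = 1) (hg : Curv2.genus k X = 1)
    {L : X.Modules} (hL : PicF.IsInvertible L) (hdeg : 2 ≤ Curv2.deg k X L 1) :
    Curv2.IsGloballyGenerated L := by
  haveI := CurveCohLib.isNoetherian_of_proper (k := k) (X := X)
  have h0 := h0_eq_one_of_genus_one k hdim hg
  have hχ : Curv2.euler k X (Coh.structureModule X) = 0 := by
    rw [euler_two hdim.le QCoh.isQCoh_structureModule, h0,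
      show Module.finrank k (Coh.HH X (Coh.structureModule X) 1) = 1 from hg]
    simp
  refine isGloballyGenerated_of_point_sections k hL fun x hx => ?_
  set Z := Scheme.IdealSheafData.vanishingIdeal (⟨{x}, hx⟩ : Closeds X) with hZdef
  have hZ : topologicalKrullDim (Z.support : Set X) ≤ 0 := by
    rw [Scheme.IdealSheafData.coe_support_vanishingIdeal]
    haveI : Finite ((⟨{x}, hx⟩ : Closeds X) : Set X) := (Set.finite_singleton x).to_subtype; haveI : Subsingleton ((⟨{x}, hx⟩ : Closeds X) : Set X) := Set.subsingleton_singleton.coe_sort; exact topologicalKrullDim_zero_of_discreteTopology _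
  have hL1 := InvEnd.isFinLocFreeOfRank_one hL
  have hLf : FlatMod.IsFinLocFree L := fun y => let ⟨W, hy, he⟩ := hL1 y; ⟨W, 1, hy, he⟩
  let T := CurveCohLib.Nonspecial.twist Z L
  have hTc : Coh.IsCoh T := CurveCohLib.Nonspecial.isCoh_twist k Z hL
  have hsec := fun φ (hφ : φ ≠ 0) => CurveCohLib.Nonspecial.section_twist k Z hL φ hφ
  have heul := CurveCohLib.Nonspecial.euler_twist k Z hL hdim hZ
  rw [hχ, add_zero] at heul
  change Curv2.euler k X T = _ at heul
  let M := (DCoh.tensorBi.obj L).obj (Coh.structureModule X)
  have hM : Module.finrank k (Coh.HH X M 0) = (Curv2.deg k X L 1).toNat := by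
    obtain ⟨b⟩ := ExtShX.nonempty_HH_equiv_of_iso (A := k) (KFlatLib.tensorUnitIso L) 0
    rw [b.finrank_eq]
    haveI := subsingleton_H1_integral k hdim hL (by rw [hχ]; omega)
    have h := euler_two (k := k) hdim.le (ProjUPX.isQCoh_of_isInvertible hL)
    rw [Module.finrank_zero_of_subsingleton (R := k) (M := Coh.HH X L 1)] at h
    have h' : Curv2.deg k X L 1 = (Module.finrank k (Coh.HH X L 0) : ℤ) := by
      unfold Curv2.deg
      rw [h, hχ]
      push_cast
      ring
    omega
  -- the twist has fewer sections
  have hlt : Module.finrank k (Coh.HH X T 0) < Module.finrank k (Coh.HH X M 0) := by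
    rw [hM]
    by_cases hpos : 1 ≤ Curv2.euler k X T
    · haveI := CurveCohLib.Nonspecial.h1_of_euler k hdim hTc hsec (by rw [hg]; exact_mod_cast hpos)
      have h := euler_two (k := k) hdim.le hTc.1
      rw [Module.finrank_zero_of_subsingleton (R := k) (M := Coh.HH X T 1)] at h
      have hQpos : 0 < Module.finrank k (Coh.HH X (ClSub.quotMod Z) 0) := by
        refine Nat.pos_of_ne_zero fun hz => ?_
        have hQ := ParShLib.isCoh_quotMod Z
        have hcl : ∀ y ∈ CohB1.support (ClSub.quotMod Z), IsClosed ({y} : Set X) := fun y hy =>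
          CurveCohLib.Nonspecial.isClosed_of_mem_support k hdim Z hZ
            (not_not.1 fun h => hy (ParShLib.subsingleton_stalk_quotMod Z h))
        have hQ0 := CurveCohLib.isZero_of_euler_eq_zero (k := k) hQ hcl (by
          rw [CurveCohLib.euler_eq_finrank_zero hQ hcl, hz]; rfl)
        haveI : Nontrivial ((DerSch.stalkFunctor X x).obj (ClSub.quotMod Z)) :=
          not_subsingleton_iff_nontrivial.1 (CurveCohLib.GlobGen.nontrivial_stalk_quotMod Z
            (show x ∈ (Z.support : Set X) by rw [Scheme.IdealSheafData.coe_support_vanishingIdeal]; rfl))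
        exact not_subsingleton ((DerSch.stalkFunctor X x).obj (ClSub.quotMod Z))
          (ModuleCat.subsingleton_of_isZero ((DerSch.stalkFunctor X x).map_isZero hQ0))
      omega
    · refine lt_of_le_of_lt (b := 1) ?_ (by omega)
      by_cases hz : ∀ t : Coh.structureModule X ⟶ T, t = 0
      · obtain ⟨c⟩ := ExtShX.exists_hom_HH0 (A := k) T
        haveI : Subsingleton (Coh.structureModule X ⟶ T) := subsingleton_of_forall_eq 0 hz
        haveI := c.symm.toEquiv.subsingleton
        rw [Module.finrank_zero_of_subsingleton]
        exact zero_le_one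
      · push Not at hz
        obtain ⟨t, ht⟩ := hz
        obtain ⟨htm, hrk⟩ := hsec t ht
        haveI := htm
        have hOc : Coh.IsCoh (Coh.structureModule X) := QCoh.isCoh_structureModule'
        have hCc : Coh.IsCoh (cokernel t) := QCoh.isCoh_cokernel hOc.1 hTc t
        have hCcl : ∀ y ∈ CohB1.support (cokernel t), IsClosed ({y} : Set X) := fun y hy => by
          by_contra hyc
          obtain rfl := CurveCohLib.eq_genericPoint_of_not_isClosed hdim hyc
          letI := (CurveBundle.isField_stalk_generic (X := X)).toField
          haveI := CurveBundle.finite_stalk_of_coh hCc (genericPoint X)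
          exact hy (Module.finrank_zero_iff.1 hrk)
        have hadd : Curv2.euler k X T = Curv2.euler k X (Coh.structureModule X) + Curv2.euler k X (cokernel t) :=
          CurveBundle.euler_add' k _ _ _ (CurveSlope.shortExact_cokernel_of_mono t) hOc hTc hCc
        rw [hχ, CurveCohLib.euler_eq_finrank_zero hCc hCcl] at hadd
        have hC0 := CurveCohLib.isZero_of_euler_eq_zero (k := k) hCc hCcl (by
          rw [CurveCohLib.euler_eq_finrank_zero hCc hCcl]; omega)
        haveI : Epi t := Preadditive.epi_of_isZero_cokernel _ hC0
        haveI : IsIso t := isIso_of_mono_of_epi t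
        obtain ⟨b⟩ := ExtShX.nonempty_HH_equiv_of_iso (A := k) (asIso t).symm 0
        rw [b.finrank_eq, h0]
  -- so some section survives at `x`
  by_contra hall
  push Not at hall
  have hS := CurveTensor.shortExact_tensor hLf _ _ _ (CurveCohLib.Nonspecial.ideal_shortExact Z)
  have hsurj : Function.Surjective (mapLin k ((DCoh.tensorBi.obj L).map (ClSub.idealModι Z)) 0) := fun y =>
    (CurveCohLib.ker_mapLin_g k hS 0).le (LinearMap.mem_ker.2 (hall y))
  haveI := CurveCohLib.finite_HH (k := k) hTc 0
  exact absurd (LinearMap.finrank_le_finrank_of_surjective hsurj) (not_le.2 hlt)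

end Groth.Agent.CanonDual
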