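import Groth.Agent.CanonDual.GenusOneGG
import Groth.Agent.CanonDual.Deg
import Groth.Agent.CurveReg.Pow
import Groth.Agent.CurveCohLib.Pencil
import Groth.Agent.Lib.InvEnd
import Groth.Agent.Lib.CurveTensor
import Groth.Agent.KZ.CohClass

/-!
# Multiplication of sections on integral curves of genus one

For an invertible `L` of degree `d ≥ 3`, products of sections of `L` span the sections of the square.
-/

set_option autoImplicit false
set_option linter.style.haveILetI false
set_option linter.unusedSectionVars false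
set_option backward.isDefEq.respectTransparency false
set_option backward.isDefEq.respectTransparency.types false
set_option maxHeartbeats 1000000

universe u

open CategoryTheory CategoryTheory.Limits AlgebraicGeometry TopologicalSpace Opposite
open Groth.Agent.PnCoh.Finite (mapLin)

noncomputable section

namespace Groth.Agent.CanonDual.GOne

open Groth.Agent Groth.Agent.InvX Groth.Agent.H23

variable {X : Scheme.{u}}

/-- The class of a global section. -/
def toH (M : X.Modules) : Γ(M, ⊤) ≃+ Coh.HH X M 0 :=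
  (Sheaf.H.equiv₀ (Coh.toAb M) isTerminalTop).symm

/-- The product of a section with a section of `L`, in the twist. -/
abbrev mt {G L : X.Modules} (g : Γ(G, ⊤)) (σ : Γ(L, ⊤)) : Γ((AmpleVan.tw L).obj G, ⊤) := InvX.tmul g σ

/-- `G ⊕ G → G ⊗ L` by two sections. -/
abbrev pair {L : X.Modules} (s t : Γ(L, ⊤)) (G : X.Modules) :
    (⨁ fun _ : Fin 2 => G) ⟶ (AmpleVan.tw L).obj G :=
  CurveReg.mulAll ![s, t] G

theorem pair_app_zero {L : X.Modules} (s t : Γ(L, ⊤)) (G : X.Modules) {U : X.Opens} (g : Γ(G, U)) :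
    (pair s t G).app U ((biproduct.ι (fun _ : Fin 2 => G) 0).app U g) =
      InvX.tmul g (AModX.res L (le_top : U ≤ ⊤) s) :=
  CurveReg.mulAll_ι _ G 0 g

theorem pair_app_one {L : X.Modules} (s t : Γ(L, ⊤)) (G : X.Modules) {U : X.Opens} (g : Γ(G, U)) :
    (pair s t G).app U ((biproduct.ι (fun _ : Fin 2 => G) 1).app U g) =
      InvX.tmul g (AModX.res L (le_top : U ≤ ⊤) t) :=
  CurveReg.mulAll_ι _ G 1 g

theorem cover_pair {L : X.Modules} (s t : Γ(L, ⊤)) (h : ∀ x : X, x ∈ TrivBasic.locus s ∨ x ∈ TrivBasic.locus t) :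
    ∀ x : X, ∃ i, x ∈ TrivBasic.locus (![s, t] i) := fun x =>
  (h x).elim (fun h => ⟨0, h⟩) (fun h => ⟨1, h⟩)

theorem tmul_comm_right {L : X.Modules} (hL : PicF.IsInvertible L) {G : X.Modules} (g : Γ(G, ⊤)) (σ τ : Γ(L, ⊤)) :
    mt (mt g σ) τ = mt (mt g τ) σ := by
  have h := congr(($(CurveReg.mulSec_comm hL σ τ G)).app ⊤ g)
  change (AmpleVan.mulSec τ _).app ⊤ ((AmpleVan.mulSec σ G).app ⊤ g) =
    (AmpleVan.mulSec σ _).app ⊤ ((AmpleVan.mulSec τ G).app ⊤ g) at h
  simp only [AmpleVan.mulSec_app, AModX.res_self] at h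
  exact h

/-- Division: a section divisible after multiplying by `t ⊗ t` is divisible. -/
theorem divide {L : X.Modules} (s t w : Γ(L, ⊤))
    (hcov : ∀ x : X, x ∈ TrivBasic.locus s ∨ x ∈ TrivBasic.locus t)
    (b : Γ((AmpleVan.tw L).obj (Coh.structureModule X), ⊤))
    (a a' : Γ((AmpleVan.tw L).obj ((AmpleVan.tw L).obj (Coh.structureModule X)), ⊤))
    (h : mt a w = mt a' s + mt (mt b t) t) :
    (cokernel.π (pair s w (Coh.structureModule X))).app ⊤ b = 0 := by
  let O := Coh.structureModule X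
  let T := (AmpleVan.tw L).obj O
  let q := cokernel.π (pair s w O)
  suffices key : ∀ x : X, ∃ (W : X.Opens), x ∈ W ∧ ∃ z, (pair s w O).app W z = AModX.res T (le_top : W ≤ ⊤) b by
    refine AModX.eq_of_locally _ _ fun x _ => ?_
    obtain ⟨W, hxW, z, hz⟩ := key x
    refine ⟨W, le_top, hxW, ?_⟩
    rw [map_zero, ← AModX.app_res, ← hz]
    exact congr(($(cokernel.condition (pair s w O))).app W z)
  intro x
  have hone : ∀ W : X.Opens, InvX.IsFrame (show Γ(O, W) from (1 : Γ(X, W))) := fun W => InvX.isFrame_one W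
  rcases hcov x with hs | ht
  · refine ⟨TrivBasic.locus s, hs, ?_⟩
    set W := TrivBasic.locus s
    have he := TrivBasic.isFrame_res_of_le_locus (s := s) (le_refl W)
    have hf1 := InvX.isFrame_tmul (hone W) he
    obtain ⟨β, hβ⟩ := hf1.exists_coord le_rfl (AModX.res T (le_top : W ≤ ⊤) b)
    rw [AModX.res_self] at hβ
    exact ⟨(biproduct.ι (fun _ : Fin 2 => O) 0).app W (β • (show Γ(O, W) from (1 : Γ(X, W)))),
      (pair_app_zero s w O _).trans ((InvX.tmul_smul_left _ _ _).trans hβ.symm)⟩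
  · refine ⟨TrivBasic.locus t, ht, ?_⟩
    set W := TrivBasic.locus t
    let e : Γ(L, W) := AModX.res L (le_top : W ≤ ⊤) t
    have he : InvX.IsFrame e := TrivBasic.isFrame_res_of_le_locus (le_refl W)
    let f1 : Γ(CohB1.tensorMod O L, W) := InvX.tmul (show Γ(O, W) from (1 : Γ(X, W))) e
    have hf1 : InvX.IsFrame f1 := InvX.isFrame_tmul (hone W) he
    let f2 : Γ(CohB1.tensorMod (CohB1.tensorMod O L) L, W) := InvX.tmul f1 e
    have hf2 : InvX.IsFrame f2 := InvX.isFrame_tmul hf1 he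
    have hf3 := InvX.isFrame_tmul hf2 he
    obtain ⟨β, hβ⟩ := hf1.exists_coord le_rfl (AModX.res T (le_top : W ≤ ⊤) b)
    obtain ⟨σ, hσ⟩ := he.exists_coord le_rfl (AModX.res L (le_top : W ≤ ⊤) s)
    obtain ⟨ω, hω⟩ := he.exists_coord le_rfl (AModX.res L (le_top : W ≤ ⊤) w)
    obtain ⟨α, hα⟩ := hf2.exists_coord le_rfl (AModX.res _ (le_top : W ≤ ⊤) a)
    obtain ⟨α', hα'⟩ := hf2.exists_coord le_rfl (AModX.res _ (le_top : W ≤ ⊤) a')
    rw [AModX.res_self] at hβ hσ hω hα hα'
    have hW := congrArg (AModX.res _ (le_top : W ≤ ⊤)) h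
    rw [map_add] at hW
    erw [InvX.res_tmul, InvX.res_tmul, InvX.res_tmul, InvX.res_tmul] at hW
    replace hW : InvX.tmul (α • f2) (ω • e) = (InvX.tmul (α' • f2) (σ • e) +
        InvX.tmul (InvX.tmul (β • f1) e : Γ(CohB1.tensorMod (CohB1.tensorMod O L) L, W)) e :
          Γ(CohB1.tensorMod (CohB1.tensorMod (CohB1.tensorMod O L) L) L, W)) := by
      rw [← hα, ← hα', ← hβ, ← hσ, ← hω]; exact hW
    simp only [InvX.tmul_smul_left, InvX.tmul_smul_right, ← mul_smul, ← add_smul] at hW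
    have hr : α * ω = α' * σ + β := hf3.coord_unique le_rfl (by
      rw [AModX.res_self, add_smul, mul_comm α, mul_comm α']; exact hW)
    refine ⟨(biproduct.ι (fun _ : Fin 2 => O) 1).app W (α • (show Γ(O, W) from (1 : Γ(X, W)))) -
      (biproduct.ι (fun _ : Fin 2 => O) 0).app W (α' • (show Γ(O, W) from (1 : Γ(X, W)))), ?_⟩
    rw [map_sub, pair_app_one, pair_app_zero, hσ, hω, InvX.tmul_smul_left, InvX.tmul_smul_left,
      InvX.tmul_smul_right, InvX.tmul_smul_right, ← mul_smul, ← mul_smul, ← sub_smul, hβ]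
    exact congrArg (· • f1) (by rw [hr]; ring)

variable (k : Type u) [Field k] [X.Over (Spec (CommRingCat.of k))]

theorem mapLin_toH {M N : X.Modules} (f : M ⟶ N) (z : Γ(M, ⊤)) :
    mapLin k f 0 (toH M z) = toH N (f.app ⊤ z) := by
  refine (AddEquiv.eq_symm_apply _).2 ?_
  refine (Sheaf.H.equiv₀_naturality isTerminalTop ((QCoh.toAbFunctor X).map f) _).symm.trans ?_
  exact congrArg (f.app ⊤) (AddEquiv.apply_symm_apply _ z)

theorem injective_mapLin_mono {M N : X.Modules} (f : M ⟶ N) [Mono f] : Function.Injective (mapLin k f 0) := fun p q h => by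
  obtain ⟨a, rfl⟩ := (toH M).surjective p
  obtain ⟨b, rfl⟩ := (toH M).surjective q
  rw [mapLin_toH, mapLin_toH] at h
  exact congrArg (toH M) (QCoh.app_injective f ⊤ ((toH N).injective h))

theorem mem_range_pair {L : X.Modules} (s t : Γ(L, ⊤)) (G : X.Modules) (u : Γ((AmpleVan.tw L).obj G, ⊤)) :
    toH _ u ∈ LinearMap.range (mapLin k (pair s t G) 0) ↔ ∃ a b : Γ(G, ⊤), u = mt a s + mt b t := by
  constructor
  · rintro ⟨z, hz⟩
    obtain ⟨z, rfl⟩ := (toH _).surjective z
    rw [mapLin_toH] at hz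
    refine ⟨(biproduct.π (fun _ : Fin 2 => G) 0).app ⊤ z, (biproduct.π (fun _ : Fin 2 => G) 1).app ⊤ z, ?_⟩
    rw [← (toH _).injective hz]
    conv_lhs => rw [CurveReg.sum_components _ z, map_sum, Fin.sum_univ_two, pair_app_zero, pair_app_one]
    simp only [AModX.res_self]
  · rintro ⟨a, b, rfl⟩
    refine ⟨toH _ ((biproduct.ι (fun _ : Fin 2 => G) 0).app ⊤ a + (biproduct.ι (fun _ : Fin 2 => G) 1).app ⊤ b), ?_⟩
    rw [mapLin_toH, map_add, pair_app_zero, pair_app_one]
    simp only [AModX.res_self]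

variable [IsIntegral X] [IsProper (X ↘ Spec (CommRingCat.of k))]

omit [X.Over (Spec (CommRingCat.of k))] [IsProper (X ↘ Spec (CommRingCat.of k))] in
theorem mono_mulSec {L G : X.Modules} (hL : PicF.IsInvertible L) (hG : PicF.IsInvertible G) {σ : Γ(L, ⊤)}
    (hσ : σ ≠ 0) : Mono (AmpleVan.mulSec σ G) := by
  refine InvEnd.mono_of_ne_zero hG (InvX.isInvertible_tensorMod hG hL) _ fun h0 => ?_
  obtain ⟨x, hx⟩ := (TopologicalSpace.Opens.ne_bot_iff_nonempty _).1 (TrivBasic.locus_ne_bot hL hσ)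
  obtain ⟨V, hxV, f, hf⟩ := InvX.exists_frame hG x
  let W : X.Opens := V ⊓ TrivBasic.locus σ
  have hfr := InvX.isFrame_tmul (hf.res (inf_le_left : W ≤ V))
    (TrivBasic.isFrame_res_of_le_locus (inf_le_right : W ≤ TrivBasic.locus σ))
  have h1 : InvX.tmul (AModX.res G (inf_le_left : W ≤ V) f) (AModX.res L (le_top : W ≤ ⊤) σ) = 0 :=
    (AmpleVan.mulSec_app σ G W _).symm.trans (congr(($h0).app W (AModX.res G (inf_le_left : W ≤ V) f)))
  have h2 : (1 : Γ(X, W)) = 0 := hfr.coord_unique le_rfl (by rw [AModX.res_self, h1, smul_zero, smul_zero])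
  have hxW : x ∈ W := ⟨hxV, hx⟩
  rw [← Scheme.basicOpen_of_isUnit X (U := W) isUnit_one, h2, Scheme.basicOpen_zero] at hxW
  exact hxW

variable (hdim : topologicalKrullDim X = 1) {L : X.Modules} (hL : PicF.IsInvertible L)

include k in
/-- Euler characteristic of `G ⊕ G`. -/
theorem euler_two_copies {G : X.Modules} (hG : Coh.IsCoh G) :
    Coh.IsCoh (⨁ fun _ : Fin 2 => G) ∧
      Curv2.euler k X (⨁ fun _ : Fin 2 => G) = 2 * Curv2.euler k X G := by
  haveI := CurveCohLib.isNoetherian_of_proper (k := k) (X := X)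
  let F : Fin 2 → X.Modules := fun _ => G
  let S := ShortComplex.mk (biproduct.ι F 0) (biproduct.π F 1) (biproduct.ι_π_ne F (by decide))
  have hS : S.ShortExact := (ShortComplex.Splitting.mk (biproduct.π F 0) (biproduct.ι F 1)
    (biproduct.ι_π_self F 0) (biproduct.ι_π_self F 1) (by
      rw [← biproduct.total, Fin.sum_univ_two]) : S.Splitting).shortExact
  have hB : Coh.IsCoh (⨁ F) := KZ.isCoh_X₂ hS hG hG
  refine ⟨hB, ?_⟩
  have := CurveBundle.euler_add' k _ _ _ hS hG hB hG
  change Curv2.euler k X (⨁ F) = Curv2.euler k X G + Curv2.euler k X G at this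
  rw [this]
  ring

include k hdim hL in
/-- Numbers attached to a pair of sections. -/
theorem pair_numbers (hg : Curv2.genus k X = 1) (s w : Γ(L, ⊤)) (hw : w ≠ 0) {G : X.Modules}
    (hG : PicF.IsInvertible G) :
    (Module.finrank k (LinearMap.range (mapLin k (pair s w G) 0)) : ℤ) +
        Module.finrank k (Coh.HH X (kernel (pair s w G)) 0) = Module.finrank k (Coh.HH X (⨁ fun _ : Fin 2 => G) 0) ∧
      Curv2.euler k X (kernel (pair s w G)) =
        2 * Curv2.euler k X G - Curv2.euler k X ((AmpleVan.tw L).obj G) + Curv2.euler k X (cokernel (pair s w G)) ∧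
      Curv2.euler k X (kernel (cokernel.π (pair s w G))) =
        Curv2.euler k X ((AmpleVan.tw L).obj G) - Curv2.euler k X (cokernel (pair s w G)) ∧
      (Curv2.genus k X < Module.finrank k (Coh.HH X (kernel (cokernel.π (pair s w G))) 0) →
        Subsingleton (Coh.HH X (kernel (cokernel.π (pair s w G))) 1)) ∧
      (1 ≤ Curv2.euler k X (kernel (pair s w G)) → Subsingleton (Coh.HH X (kernel (pair s w G)) 1)) ∧
      (2 ≤ Module.finrank k (Coh.HH X (kernel (pair s w G)) 0) → Subsingleton (Coh.HH X (kernel (pair s w G)) 1)) := by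
  haveI := CurveCohLib.isNoetherian_of_proper (k := k) (X := X)
  set Φ := pair s w G with hΦ
  have hGc := CurveDeg.isCoh_of_isInvertible hG
  obtain ⟨hBc, hχB⟩ := euler_two_copies k hGc
  have hT : PicF.IsInvertible ((AmpleVan.tw L).obj G) := InvX.isInvertible_tensorMod hG hL
  have hTc := CurveDeg.isCoh_of_isInvertible hT
  have hQc : Coh.IsCoh (cokernel Φ) := QCoh.isCoh_cokernel hBc.1 hTc Φ
  have hKc : Coh.IsCoh (kernel Φ) := QCoh.isCoh_kernel hBc hTc Φ
  have hIc : Coh.IsCoh (kernel (cokernel.π Φ)) := QCoh.isCoh_kernel hTc hQc _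
  let θ : (⨁ fun _ : Fin 2 => G) ⟶ kernel (cokernel.π Φ) := Abelian.factorThruImage Φ
  have hθ : θ ≫ kernel.ι (cokernel.π Φ) = Φ := Abelian.image.fac Φ
  have hθ0 : kernel.ι Φ ≫ θ = 0 := by
    rw [← cancel_mono (kernel.ι (cokernel.π Φ)), Category.assoc, hθ, kernel.condition, zero_comp]
  let S := ShortComplex.mk (kernel.ι Φ) θ hθ0
  have hS : S.ShortExact := by
    haveI : Epi θ := inferInstanceAs (Epi (Abelian.factorThruImage Φ))
    refine ShortComplex.ShortExact.mk' ?_ inferInstance inferInstance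
    exact ShortComplex.exact_of_f_is_kernel _ (isKernelOfComp (kernel.ι (cokernel.π Φ)) Φ (kernelIsKernel Φ) hθ0 hθ)
  have hS' : (ShortComplex.mk (kernel.ι (cokernel.π Φ)) (cokernel.π Φ) (kernel.condition _)).ShortExact :=
    CurveSlope.shortExact_kernel_of_epi _
  have e1 : Curv2.euler k X (⨁ fun _ : Fin 2 => G) =
      Curv2.euler k X (kernel Φ) + Curv2.euler k X (kernel (cokernel.π Φ)) :=
    CurveBundle.euler_add' k _ _ _ hS hKc hBc hIc
  have e2 : Curv2.euler k X ((AmpleVan.tw L).obj G) =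
      Curv2.euler k X (kernel (cokernel.π Φ)) + Curv2.euler k X (cokernel Φ) :=
    CurveBundle.euler_add' k _ _ _ hS' hIc hTc hQc
  have hproj : Mono (kernel.ι Φ ≫ biproduct.π (fun _ : Fin 2 => G) 0) := by
    refine Preadditive.mono_of_cancel_zero _ fun {P} g hg0 => ?_
    rw [← cancel_mono (kernel.ι Φ), zero_comp]
    refine biproduct.hom_ext _ _ fun i => ?_
    rw [zero_comp]
    have h0 : (g ≫ kernel.ι Φ) ≫ biproduct.π (fun _ : Fin 2 => G) 0 = 0 := by rw [Category.assoc]; exact hg0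
    fin_cases i
    · exact h0
    · haveI := mono_mulSec hL hG hw
      show (g ≫ kernel.ι Φ) ≫ biproduct.π (fun _ : Fin 2 => G) 1 = 0
      rw [← cancel_mono (AmpleVan.mulSec w G), zero_comp]
      have hc : (g ≫ kernel.ι Φ) ≫ Φ = 0 := by rw [Category.assoc, kernel.condition, comp_zero]
      have htot : pair s w G = biproduct.π (fun _ : Fin 2 => G) 0 ≫ AmpleVan.mulSec s G +
          biproduct.π (fun _ : Fin 2 => G) 1 ≫ AmpleVan.mulSec w G := by
        refine biproduct.hom_ext' _ _ fun j => ?_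
        fin_cases j <;> simp [pair, CurveReg.mulAll]
      have hc' : (g ≫ kernel.ι Φ) ≫ (biproduct.π (fun _ : Fin 2 => G) 0 ≫ AmpleVan.mulSec s G +
          biproduct.π (fun _ : Fin 2 => G) 1 ≫ AmpleVan.mulSec w G) = 0 :=
        (congrArg ((g ≫ kernel.ι Φ) ≫ ·) htot.symm).trans hc
      rw [Preadditive.comp_add, ← Category.assoc, ← Category.assoc, h0, zero_comp, zero_add] at hc'
      exact hc'
  haveI := hproj
  refine ⟨?_, by omega, by omega, fun h => CurveCohLib.Nonspecial.h1_of_sections k hdim hIc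
      (fun φ hφ => CurveCohLib.Nonspecial.section_of_sub k hIc hT (kernel.ι (cokernel.π Φ)) φ hφ) h,
    fun h => CurveCohLib.Nonspecial.h1_of_euler k hdim hKc
      (fun φ hφ => CurveCohLib.Nonspecial.section_of_sub k hKc hG (kernel.ι Φ ≫ biproduct.π (fun _ : Fin 2 => G) 0) φ hφ)
      (by rw [hg]; exact_mod_cast h),
    fun h => CurveCohLib.Nonspecial.h1_of_sections k hdim hKc
      (fun φ hφ => CurveCohLib.Nonspecial.section_of_sub k hKc hG (kernel.ι Φ ≫ biproduct.π (fun _ : Fin 2 => G) 0) φ hφ)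
      (by omega)⟩
  haveI := CurveCohLib.finite_HH (k := k) hBc 0
  have hker : LinearMap.ker (mapLin k Φ 0) = LinearMap.range (mapLin k (kernel.ι Φ) 0) := by
    refine le_antisymm (fun z hz => ?_) ?_
    · obtain ⟨v, hv⟩ := (CurveCohLib.ker_mapLin_g k hS 0).le (LinearMap.mem_ker.2
        (show mapLin k θ 0 z = 0 from injective_mapLin_mono k (kernel.ι (cokernel.π Φ)) (by
          rw [map_zero]
          obtain ⟨z, rfl⟩ := (toH _).surjective z
          rw [LinearMap.mem_ker, mapLin_toH] at hz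
          rw [mapLin_toH, mapLin_toH]
          refine Eq.trans ?_ hz
          exact congrArg (toH _) congr(($hθ).app ⊤ z))))
      exact ⟨v, hv⟩
    · rintro _ ⟨v, rfl⟩
      obtain ⟨v, rfl⟩ := (toH _).surjective v
      rw [LinearMap.mem_ker, mapLin_toH, mapLin_toH]
      refine Eq.trans (congrArg (toH _) congr(($(kernel.condition Φ)).app ⊤ v)) ?_
      exact map_zero _
  have hrn := LinearMap.finrank_range_add_finrank_ker (mapLin k Φ 0)
  rw [hker, LinearMap.finrank_range_of_inj (injective_mapLin_mono k (kernel.ι Φ))] at hrn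
  exact_mod_cast hrn

include k hdim hL in
/-- The cokernel of a pair keeps its Euler characteristic under twisting. -/
theorem euler_coker_twist (s w : Γ(L, ⊤)) (hs : s ≠ 0) {G : X.Modules} (hG : PicF.IsInvertible G) :
    Curv2.euler k X (cokernel (pair s w ((AmpleVan.tw L).obj G))) = Curv2.euler k X (cokernel (pair s w G)) := by
  haveI := CurveCohLib.isNoetherian_of_proper (k := k) (X := X)
  let F := AmpleVan.tw L
  have hGc := CurveDeg.isCoh_of_isInvertible hG
  obtain ⟨hBc, -⟩ := euler_two_copies k hGc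
  have hT : PicF.IsInvertible (F.obj G) := InvX.isInvertible_tensorMod hG hL
  have hTc := CurveDeg.isCoh_of_isInvertible hT
  let Q := cokernel (pair s w G)
  have hQc : Coh.IsCoh Q := QCoh.isCoh_cokernel hBc.1 hTc _
  haveI : F.Additive := inferInstance
  haveI : F.IsEquivalence := AmpleVan.isEquivalence_tw hL
  let b := F.mapBiproduct (fun _ : Fin 2 => G)
  have hb : b.inv ≫ F.map (pair s w G) = pair s w (F.obj G) := by
    refine biproduct.hom_ext' _ _ fun i => ?_
    rw [Functor.mapBiproduct_inv, biproduct.ι_desc_assoc, ← Functor.map_comp]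
    simp only [pair, CurveReg.mulAll, biproduct.ι_desc]
    exact AmpleVan.tw_map_mulSec hL _ G
  let e1 : cokernel (pair s w (F.obj G)) ≅ cokernel (F.map (pair s w G)) :=
    cokernel.mapIso _ _ b.symm (Iso.refl _) (by rw [Iso.symm_hom, Iso.refl_hom, Category.comp_id, hb])
  let e2 : F.obj Q ≅ cokernel (F.map (pair s w G)) := PreservesCokernel.iso F (pair s w G)
  rw [Euler.euler_congr k (e1 ≪≫ e2.symm ≪≫ CurveTensor.commIso Q L)]
  refine (CurveTensor.euler_tensor_torsion k (InvEnd.isFinLocFreeOfRank_one hL) hQc fun x hx => ?_).trans (by simp [Q])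
  by_contra hxc
  obtain rfl := CurveCohLib.eq_genericPoint_of_not_isClosed hdim hxc
  haveI := mono_mulSec hL hG hs
  obtain ⟨-, hrk⟩ : Mono (AmpleVan.mulSec s G) ∧ CurveBundle.rk (cokernel (AmpleVan.mulSec s G)) = 0 := by
    refine ⟨inferInstance, ?_⟩
    have h1 := CurveSlope.rk_add_coh k _ _ _ (CurveSlope.shortExact_cokernel_of_mono (AmpleVan.mulSec s G)) hTc
    rw [CurveBundle.rk_eq (InvEnd.isFinLocFreeOfRank_one hG), CurveBundle.rk_eq (InvEnd.isFinLocFreeOfRank_one hT)] at h1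
    omega
  let c : cokernel (AmpleVan.mulSec s G) ⟶ Q :=
    cokernel.desc _ (cokernel.π (pair s w G)) (by
      have : AmpleVan.mulSec s G = biproduct.ι (fun _ : Fin 2 => G) 0 ≫ pair s w G := by
        simp [pair, CurveReg.mulAll]
      rw [this, Category.assoc, cokernel.condition, comp_zero])
  haveI : Epi c := by
    haveI : Epi (cokernel.π (AmpleVan.mulSec s G) ≫ c) := by rw [cokernel.π_desc]; infer_instance
    exact epi_of_epi (cokernel.π (AmpleVan.mulSec s G)) c
  let P := DerSch.stalkFunctor X (genericPoint X)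
  letI := (CurveBundle.isField_stalk_generic (X := X)).toField
  haveI := CurveBundle.finite_stalk_of_coh
    (QCoh.isCoh_cokernel hGc.1 hTc (AmpleVan.mulSec s G)) (genericPoint X)
  have hsub : Subsingleton (P.obj (cokernel (AmpleVan.mulSec s G))) := by
    change Subsingleton ((cokernel (AmpleVan.mulSec s G)).presheaf.stalk (genericPoint X))
    exact Module.finrank_zero_iff.1 hrk
  refine hx ?_
  exact ((ModuleCat.epi_iff_surjective (P.map c)).1 inferInstance).subsingleton

include k hdim hL in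
/-- A section generating at finitely many given closed points. -/
theorem exists_avoid [Infinite k] (hg : Curv2.genus k X = 1) (hdeg : 2 ≤ Curv2.deg k X L 1) {D : Set X}
    (hD : D.Finite) : ∃ t : Γ(L, ⊤), ∀ x ∈ D, x ∈ TrivBasic.locus t := by
  classical
  haveI := CurveCohLib.isNoetherian_of_proper (k := k) (X := X)
  have hgg := CanonDual.isGloballyGenerated_of_genus_one k hdim hg hL hdeg
  haveI := hD.to_subtype
  let p : D → Submodule k (Coh.HH X L 0) := fun x =>
    { carrier := {z | ∀ (V : X.Opens) (hxV : x.1 ∈ V) (f : Γ(L, V)), InvX.IsFrame f → ∀ a : Γ(X, V),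
        AModX.res L (le_top : V ≤ ⊤) ((toH L).symm z) = a • f → ¬ IsUnit (X.presheaf.germ V x.1 hxV a)}
      zero_mem' := fun V hxV f hf a ha => by
        have : a = 0 := hf.coord_unique le_rfl (by rw [AModX.res_self, zero_smul, ← ha, map_zero, map_zero])
        rw [this, map_zero]
        exact not_isUnit_zero
      add_mem' := fun {z z'} hz hz' V hxV f hf a ha => by
        obtain ⟨b, hb⟩ := hf.exists_coord le_rfl (AModX.res L (le_top : V ≤ ⊤) ((toH L).symm z))
        obtain ⟨b', hb'⟩ := hf.exists_coord le_rfl (AModX.res L (le_top : V ≤ ⊤) ((toH L).symm z'))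
        rw [AModX.res_self] at hb hb'
        have : a = b + b' := hf.coord_unique le_rfl (by
          rw [AModX.res_self, add_smul, ← hb, ← hb', ← ha, map_add, map_add])
        rw [this, map_add]
        exact (IsLocalRing.mem_maximalIdeal _).1 (Ideal.add_mem _
          ((IsLocalRing.mem_maximalIdeal _).2 (hz V hxV f hf b hb))
          ((IsLocalRing.mem_maximalIdeal _).2 (hz' V hxV f hf b' hb')))
      smul_mem' := fun c z hz V hxV f hf a ha => by
        obtain ⟨b, hb⟩ := hf.exists_coord le_rfl (AModX.res L (le_top : V ≤ ⊤) ((toH L).symm z))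
        rw [AModX.res_self] at hb
        have hc : (toH L).symm (c • z) = _ := CurveCohLib.h0Equiv_smul L c z
        obtain ⟨r, hr⟩ : ∃ r : Γ(X, V), AModX.res L (le_top : V ≤ ⊤) ((toH L).symm (c • z)) =
            r • AModX.res L (le_top : V ≤ ⊤) ((toH L).symm z) :=
          ⟨_, (congrArg _ hc).trans (AModX.res_smul _ _ _)⟩
        rw [hr, hb, ← mul_smul] at ha
        have hab : a = r * b := hf.coord_unique le_rfl (by rw [AModX.res_self]; exact ha.symm)
        rw [hab, map_mul]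
        exact fun hu => hz V hxV f hf b hb (isUnit_of_mul_isUnit_right hu) }
  have hiff : ∀ (x : D) (z : Γ(L, ⊤)), x.1 ∈ TrivBasic.locus z → toH L z ∉ p x := fun x z hx hz => by
    obtain ⟨V, hxV, f, hf⟩ := InvX.exists_frame hL x.1
    obtain ⟨a, ha⟩ := hf.exists_coord le_rfl (AModX.res L (le_top : V ≤ ⊤) z)
    rw [AModX.res_self] at ha
    refine hz V hxV f hf a (by rw [AddEquiv.symm_apply_apply]; exact ha) ?_
    rw [← X.mem_basicOpen _ x.1 hxV, ← TrivBasic.locus_eq_basicOpen hf ha]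
    exact ⟨hx, hxV⟩
  haveI := CurveCohLib.finite_HH (k := k) (CurveDeg.isCoh_of_isInvertible hL) 0
  obtain ⟨z, hz⟩ := Submodule.exists_forall_notMem_of_forall_ne_top p fun x hx => by
    obtain ⟨a, ha⟩ := CurveReg.exists_locus_of_gg hL hgg x.1
    exact hiff x a ha (hx ▸ Submodule.mem_top)
  refine ⟨(toH L).symm z, fun x hx => ?_⟩
  by_contra hxl
  refine hz ⟨x, hx⟩ fun V hxV f hf a ha hu => hxl ?_
  have : x ∈ X.basicOpen a := (X.mem_basicOpen _ x hxV).2 hu
  rw [← TrivBasic.locus_eq_basicOpen hf ha] at this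
  exact this.1

variable (hg : Curv2.genus k X = 1)

include k hdim hg in
theorem euler_structure_zero : Curv2.euler k X (Coh.structureModule X) = 0 := by
  rw [CanonDual.euler_two hdim.le QCoh.isQCoh_structureModule, CanonDual.h0_eq_one_of_genus_one k hdim hg,
    show Module.finrank k (Coh.HH X (Coh.structureModule X) 1) = 1 from hg]
  simp

include k hdim hg in
/-- Riemann–Roch in positive degree. -/
theorem numbers {M : X.Modules} (hM : PicF.IsInvertible M) (hpos : 0 < Curv2.deg k X M 1) :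
    Curv2.euler k X M = Curv2.deg k X M 1 ∧ Subsingleton (Coh.HH X M 1) ∧
      (Module.finrank k (Coh.HH X M 0) : ℤ) = Curv2.deg k X M 1 ∧
      (Module.finrank k (Coh.HH X (⨁ fun _ : Fin 2 => M) 0) : ℤ) = 2 * Curv2.deg k X M 1 := by
  have hχ := euler_structure_zero k hdim hg
  haveI := CanonDual.subsingleton_H1_integral k hdim hM (by rw [hχ]; simpa using hpos)
  have h := CanonDual.euler_two (k := k) hdim.le (ProjUPX.isQCoh_of_isInvertible hM)
  rw [Module.finrank_zero_of_subsingleton (R := k) (M := Coh.HH X M 1)] at h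
  have h' : Curv2.euler k X M = Curv2.deg k X M 1 := by
    unfold Curv2.deg
    rw [hχ]; simp
  haveI := CurveCohLib.isNoetherian_of_proper (k := k) (X := X)
  obtain ⟨hBc, hχB⟩ := euler_two_copies k (CurveDeg.isCoh_of_isInvertible hM)
  haveI := CurveReg.subsingleton_HH_sum (fun _ : Fin 2 => M) k 1 fun _ => ‹Subsingleton (Coh.HH X M 1)›
  have hB := CanonDual.euler_two (k := k) hdim.le hBc.1
  rw [Module.finrank_zero_of_subsingleton (R := k) (M := Coh.HH X (⨁ fun _ : Fin 2 => M) 1)] at hB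
  exact ⟨h', inferInstance, by omega, by omega⟩

set_option quotPrecheck false in
local notation "T₁" => ((AmpleVan.tw L).obj (Coh.structureModule X))
set_option quotPrecheck false in
local notation "T₂" => ((AmpleVan.tw L).obj T₁)
set_option quotPrecheck false in
local notation "T₃" => ((AmpleVan.tw L).obj T₂)

include k hdim hL in
theorem deg_powers (hd0 : Curv2.deg k X (Coh.structureModule X) 1 = 0) :
    PicF.IsInvertible T₁ ∧ PicF.IsInvertible T₂ ∧ PicF.IsInvertible T₃ ∧
      Curv2.deg k X T₁ 1 = Curv2.deg k X L 1 ∧ Curv2.deg k X T₂ 1 = 2 * Curv2.deg k X L 1 ∧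
      Curv2.deg k X T₃ 1 = 3 * Curv2.deg k X L 1 := by
  have h1 : PicF.IsInvertible T₁ := InvX.isInvertible_tensorMod CurveDeg.isInvertible_structureModule hL
  have h2 : PicF.IsInvertible T₂ := InvX.isInvertible_tensorMod h1 hL
  have e1 : Curv2.deg k X T₁ 1 = Curv2.deg k X L 1 := by
    show Curv2.deg k X (CohB1.tensorMod _ L) 1 = _
    rw [CanonDual.deg_tensorMod hdim.le CurveDeg.isInvertible_structureModule hL, hd0, zero_add]
  have e2 : Curv2.deg k X T₂ 1 = 2 * Curv2.deg k X L 1 := by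
    show Curv2.deg k X (CohB1.tensorMod _ L) 1 = _
    rw [CanonDual.deg_tensorMod hdim.le h1 hL, e1]; ring
  refine ⟨h1, h2, InvX.isInvertible_tensorMod h2 hL, e1, e2, ?_⟩
  show Curv2.deg k X (CohB1.tensorMod _ L) 1 = _
  rw [CanonDual.deg_tensorMod hdim.le h2 hL, e2]; ring

/-- `b ↦ b ⊗ t ⊗ t`. -/
abbrev Tt (t : Γ(L, ⊤)) : Coh.HH X T₁ 0 →ₗ[k] Coh.HH X T₃ 0 :=
  mapLin k (AmpleVan.mulSec t T₂) 0 ∘ₗ mapLin k (AmpleVan.mulSec t T₁) 0

/-- The span of multiples of `s` and of multiples of `t ⊗ t` by sections of `L`. -/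
abbrev P3 (s t : Γ(L, ⊤)) : Submodule k (Coh.HH X T₃ 0) :=
  LinearMap.range (mapLin k (AmpleVan.mulSec s T₂) 0) ⊔ LinearMap.range (Tt k t)

omit [IsIntegral X] [IsProper (X ↘ Spec (CommRingCat.of k))] in
theorem mapLin_mulSec {G : X.Modules} (σ : Γ(L, ⊤)) (g : Γ(G, ⊤)) :
    mapLin k (AmpleVan.mulSec σ G) 0 (toH G g) = toH _ (mt g σ) := by
  rw [mapLin_toH]
  exact congrArg (toH _) ((AmpleVan.mulSec_app σ G ⊤ g).trans (by rw [AModX.res_self]))

omit [IsIntegral X] [IsProper (X ↘ Spec (CommRingCat.of k))] in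
theorem Tt_toH (t : Γ(L, ⊤)) (b : Γ(T₁, ⊤)) : Tt k t (toH _ b) = toH _ (mt (mt b t) t) := by
  show mapLin k _ 0 (mapLin k _ 0 _) = _
  rw [mapLin_mulSec, mapLin_mulSec]

omit [IsIntegral X] [IsProper (X ↘ Spec (CommRingCat.of k))] in
theorem tmulLin_toH {M N : X.Modules} (x : Γ(M, ⊤)) (v : Γ(N, ⊤)) :
    CurveCohLib.Pencil.tmulLin k (M := M) (N := N) x (toH N v) = toH (CohB1.tensorMod M N) (InvX.tmul x v) :=
  congrArg (fun z : Γ(N, ⊤) => (Sheaf.H.equiv₀ (Coh.toAb (CohB1.tensorMod M N)) isTerminalTop).symm (InvX.tmul x z))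
    (AddEquiv.apply_symm_apply (Sheaf.H.equiv₀ (Coh.toAb N) isTerminalTop) v)

include k hdim hL hg in
/-- Multiples by `w` cannot all be combinations of `s` and `t ⊗ t`. -/
theorem count (hdeg : 3 ≤ Curv2.deg k X L 1) (s t w : Γ(L, ⊤)) (hs : s ≠ 0) (ht : t ≠ 0)
    (hcov : ∀ x : X, x ∈ TrivBasic.locus s ∨ x ∈ TrivBasic.locus t)
    (hws : toH L w ∉ Submodule.span k {toH L s})
    (hall : ∀ p : Γ(T₂, ⊤), toH T₃ (mt p w) ∈ P3 k s t) : False := by
  haveI := CurveCohLib.isNoetherian_of_proper (k := k) (X := X)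
  have hw0 : w ≠ 0 := by
    rintro rfl
    exact hws (by rw [map_zero]; exact zero_mem _)
  have hd0 : Curv2.deg k X (Coh.structureModule X) 1 = 0 := by
    unfold Curv2.deg; simp
  obtain ⟨hT1, hT2, hT3, hd1, hd2, hd3⟩ := deg_powers k hdim hL hd0
  obtain ⟨e1, h11, hh01, -⟩ := numbers k hdim hg hT1 (by omega)
  obtain ⟨e2, h12, hh02, hh2B⟩ := numbers k hdim hg hT2 (by omega)
  obtain ⟨e3, -, hh03, -⟩ := numbers k hdim hg hT3 (by omega)
  haveI := CurveCohLib.finite_HH (k := k) (CurveDeg.isCoh_of_isInvertible hT1) 0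
  haveI := CurveCohLib.finite_HH (k := k) (CurveDeg.isCoh_of_isInvertible hT2) 0
  haveI := CurveCohLib.finite_HH (k := k) (CurveDeg.isCoh_of_isInvertible hT3) 0
  have hO : PicF.IsInvertible (Coh.structureModule X) := CurveDeg.isInvertible_structureModule
  obtain ⟨-, -, eI0, hI0, -, -⟩ := pair_numbers k hdim hL hg s w hw0 hO
  obtain ⟨hr2, eK2, -, -, hK2, -⟩ := pair_numbers k hdim hL hg s w hw0 hT2
  have hBc := (euler_two_copies k (CurveDeg.isCoh_of_isInvertible hO)).1
  have hq : Curv2.euler k X (cokernel (pair s w T₂)) = Curv2.euler k X (cokernel (pair s w (Coh.structureModule X))) :=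
    (euler_coker_twist k hdim hL s w hs hT1).trans (euler_coker_twist k hdim hL s w hs hO)
  let π := cokernel.π (pair s w (Coh.structureModule X))
  let W' := LinearMap.range (mapLin k (kernel.ι π) 0)
  have hI0c : Coh.IsCoh (kernel π) := QCoh.isCoh_kernel (CurveDeg.isCoh_of_isInvertible hT1)
    (QCoh.isCoh_cokernel hBc.1 (CurveDeg.isCoh_of_isInvertible hT1) _) _
  haveI := CurveCohLib.finite_HH (k := k) hI0c 0
  have hW'mem : ∀ b : Γ(T₁, ⊤), π.app ⊤ b = 0 → toH _ b ∈ W' := fun b hb => by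
    have hS' : (ShortComplex.mk (kernel.ι π) π (kernel.condition _)).ShortExact :=
      CurveSlope.shortExact_kernel_of_epi _
    refine (CurveCohLib.ker_mapLin_g k hS' 0).le (LinearMap.mem_ker.2 ?_)
    show mapLin k π 0 (toH _ b) = 0
    rw [mapLin_toH, hb, map_zero]
  let one : Γ(Coh.structureModule X, ⊤) := (1 : Γ(X, ⊤))
  have hgen : ∀ i : Fin 2, π.app ⊤ (mt one (![s, w] i)) = 0 := fun i => by
    have h := congr(($(cokernel.condition (pair s w (Coh.structureModule X)))).app ⊤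
      ((biproduct.ι (fun _ : Fin 2 => Coh.structureModule X) i).app ⊤ one))
    change π.app ⊤ ((pair s w _).app ⊤ _) = 0 at h
    rw [CurveReg.mulAll_ι, AModX.res_self] at h
    exact h
  let J : Coh.HH X L 0 →ₗ[k] Coh.HH X T₁ 0 :=
    CurveCohLib.Pencil.tmulLin k (M := Coh.structureModule X) (N := L) one
  have hJ : ∀ v : Γ(L, ⊤), J (toH L v) = toH T₁ (mt one v) := fun v => tmulLin_toH k one v
  have hJi : Function.Injective J := fun a b hab => by
    obtain ⟨a, rfl⟩ := (toH L).surjective a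
    obtain ⟨b, rfl⟩ := (toH L).surjective b
    rw [hJ, hJ] at hab
    exact congrArg (toH L) (CurveCohLib.Pencil.tmul_left_injective hL (InvX.isFrame_one ⊤) ((toH T₁).injective hab))
  have hs' : toH L s ≠ 0 := fun h => hs ((toH L).injective (h.trans (map_zero _).symm))
  have hW'2 : 2 ≤ Module.finrank k W' := by
    have hli : LinearIndependent k ![toH L s, toH L w] :=
      (LinearIndependent.pair_iff' hs').2 fun a ha => hws (Submodule.mem_span_singleton.2 ⟨a, ha⟩)
    have hli' := hli.map' J (LinearMap.ker_eq_bot.2 hJi)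
    have hle : Submodule.span k (Set.range (J ∘ ![toH L s, toH L w])) ≤ W' := by
      rw [Submodule.span_le]
      rintro _ ⟨i, rfl⟩
      have : (J ∘ ![toH L s, toH L w]) i = toH T₁ (mt one (![s, w] i)) := by
        fin_cases i
        · exact hJ s
        · exact hJ w
      rw [this]
      exact hW'mem _ (hgen i)
    have h := Submodule.finrank_mono hle
    rw [finrank_span_eq_card hli', Fintype.card_fin] at h
    exact h
  have hW'eq : Module.finrank k W' = Module.finrank k (Coh.HH X (kernel π) 0) :=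
    LinearMap.finrank_range_of_inj (injective_mapLin_mono k _)
  haveI := hI0 (by rw [hg]; show 1 < Module.finrank k (Coh.HH X (kernel π) 0); omega)
  have hI0n := CanonDual.euler_two (k := k) hdim.le hI0c.1
  rw [Module.finrank_zero_of_subsingleton (R := k) (M := Coh.HH X (kernel π) 1)] at hI0n
  change Curv2.euler k X (kernel π) = Curv2.euler k X T₁ - _ at eI0
  rw [e1, hd1, hI0n, ← hW'eq] at eI0
  change Curv2.euler k X (kernel (pair s w T₂)) = 2 * Curv2.euler k X T₂ - Curv2.euler k X T₃ + _ at eK2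
  rw [e2, e3, hd2, hd3, hq] at eK2
  have hW'le : Module.finrank k W' ≤ Module.finrank k (Coh.HH X T₁ 0) := Submodule.finrank_le _
  have hK2c : Coh.IsCoh (kernel (pair s w T₂)) := QCoh.isCoh_kernel
    (euler_two_copies k (CurveDeg.isCoh_of_isInvertible hT2)).1 (CurveDeg.isCoh_of_isInvertible hT3) _
  haveI := hK2 (by omega)
  have hK2n := CanonDual.euler_two (k := k) hdim.le hK2c.1
  rw [Module.finrank_zero_of_subsingleton (R := k) (M := Coh.HH X (kernel (pair s w T₂)) 1)] at hK2n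
  rw [hh2B, hd2] at hr2
  let S := LinearMap.range (mapLin k (AmpleVan.mulSec s T₂) 0)
  let W3 := W'.map (Tt k t)
  have hA2 : LinearMap.range (mapLin k (pair s w T₂) 0) ≤ S ⊔ W3 := by
    intro y hy
    obtain ⟨y, rfl⟩ := (toH T₃).surjective y
    obtain ⟨a, b, rfl⟩ := (mem_range_pair k s w T₂ y).1 hy
    rw [map_add]
    refine add_mem (Submodule.mem_sup_left ⟨toH _ a, mapLin_mulSec k s a⟩) ?_
    obtain ⟨p, ⟨p', hp⟩, q, ⟨q', hq⟩, hpq⟩ := Submodule.mem_sup.1 (hall b)
    obtain ⟨p', rfl⟩ := (toH T₂).surjective p'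
    obtain ⟨q', rfl⟩ := (toH T₁).surjective q'
    rw [← hpq, ← hp, ← hq]
    refine add_mem (Submodule.mem_sup_left ⟨_, rfl⟩) (Submodule.mem_sup_right ⟨toH _ q', hW'mem q' ?_, rfl⟩)
    refine divide s t w hcov q' b p' ((toH T₃).injective ?_)
    rw [map_add, ← hpq, ← hp, ← hq, mapLin_mulSec, Tt_toH]
  have hmem : toH T₁ (mt one s) ∈ W' := hW'mem _ (hgen 0)
  have hinf : Submodule.span k {Tt k t (toH _ (mt one s))} ≤ S ⊓ W3 := by
    rw [Submodule.span_singleton_le_iff_mem]
    refine ⟨⟨toH _ (mt (mt one t) t), ?_⟩, ⟨_, hmem, rfl⟩⟩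
    rw [Tt_toH, mapLin_mulSec, tmul_comm_right hL one s t, tmul_comm_right hL (mt one t) s t]
  have hone : Tt k t (toH _ (mt one s)) ≠ 0 := by
    intro h0
    haveI := mono_mulSec hL hT2 ht
    haveI := mono_mulSec hL hT1 ht
    have hi : Function.Injective (Tt k t) :=
      (injective_mapLin_mono k (AmpleVan.mulSec t T₂)).comp (injective_mapLin_mono k (AmpleVan.mulSec t T₁))
    have h1 : toH T₁ (mt one s) = 0 := hi (h0.trans (map_zero _).symm)
    exact hs' (hJi ((hJ s).trans (h1.trans (map_zero J).symm)))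
  have hsup := Submodule.finrank_sup_add_finrank_inf_eq S W3
  have hinf' := Submodule.finrank_mono hinf
  rw [finrank_span_singleton hone] at hinf'
  have hSle : Module.finrank k S ≤ Module.finrank k (Coh.HH X T₂ 0) :=
    LinearMap.finrank_range_le (mapLin k (AmpleVan.mulSec s T₂) 0)
  have hW3le : Module.finrank k W3 ≤ Module.finrank k W' := Submodule.finrank_map_le (Tt k t) W'
  have hA2le := Submodule.finrank_mono hA2
  omega

include k hdim hL hg in
/-- The image of a generating pair has codimension at most one. -/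
theorem pair_image (hdeg : 3 ≤ Curv2.deg k X L 1) (s t : Γ(L, ⊤)) (ht : t ≠ 0)
    (hcov : ∀ x : X, x ∈ TrivBasic.locus s ∨ x ∈ TrivBasic.locus t) :
    Module.finrank k (Coh.HH X T₂ 0) ≤
      Module.finrank k (LinearMap.range (mapLin k (pair s t T₁) 0)) + 1 := by
  haveI := CurveCohLib.isNoetherian_of_proper (k := k) (X := X)
  have hd0 : Curv2.deg k X (Coh.structureModule X) 1 = 0 := by
    unfold Curv2.deg; simp
  obtain ⟨hT1, hT2, -, hd1, hd2, -⟩ := deg_powers k hdim hL hd0
  obtain ⟨e1, -, hh01, hh1B⟩ := numbers k hdim hg hT1 (by omega)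
  obtain ⟨e2, -, hh02, -⟩ := numbers k hdim hg hT2 (by omega)
  obtain ⟨hr, hK, -, -, -, hK2⟩ := pair_numbers k hdim hL hg s t ht hT1
  have hQ0 : Curv2.euler k X (cokernel (pair s t T₁)) = 0 := by
    haveI := CurveReg.epi_mulAll ![s, t] hT1 hL (cover_pair s t hcov)
    exact CurveSlope.euler_eq_zero_of_isZero k (isZero_cokernel_of_epi (pair s t T₁))
  rw [hh1B, hd1] at hr
  change Curv2.euler k X (kernel _) = 2 * Curv2.euler k X T₁ - Curv2.euler k X T₂ + _ at hK
  rw [e1, e2, hd1, hd2, hQ0, add_zero] at hK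
  have hKc : Coh.IsCoh (kernel (pair s t T₁)) := QCoh.isCoh_kernel
    (euler_two_copies k (CurveDeg.isCoh_of_isInvertible hT1)).1 (CurveDeg.isCoh_of_isInvertible hT2) _
  by_contra hlt
  have hK0 : 2 ≤ Module.finrank k (Coh.HH X (kernel (pair s t T₁)) 0) := by omega
  haveI := hK2 hK0
  have h := CanonDual.euler_two (k := k) hdim.le hKc.1
  rw [Module.finrank_zero_of_subsingleton (R := k) (M := Coh.HH X (kernel (pair s t T₁)) 1)] at h
  omega

include k hdim hL hg in
/-- A generating pair exists. -/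
theorem exists_pair [Infinite k] (hdeg : 2 ≤ Curv2.deg k X L 1) :
    ∃ s t : Γ(L, ⊤), s ≠ 0 ∧ t ≠ 0 ∧ ∀ x : X, x ∈ TrivBasic.locus s ∨ x ∈ TrivBasic.locus t := by
  haveI := CurveCohLib.isNoetherian_of_proper (k := k) (X := X)
  obtain ⟨-, -, hh0, -⟩ := numbers k hdim hg hL (by omega)
  haveI := CurveCohLib.finite_HH (k := k) (CurveDeg.isCoh_of_isInvertible hL) 0
  obtain ⟨z, hz⟩ := Module.finrank_pos_iff_exists_ne_zero.1 (show 0 < Module.finrank k (Coh.HH X L 0) by omega)
  obtain ⟨s, rfl⟩ := (toH L).surjective z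
  have hs : s ≠ 0 := fun h => hz (by rw [h, map_zero])
  have hDcl : ∀ x ∈ ((TrivBasic.locus s : X.Opens) : Set X)ᶜ, IsClosed ({x} : Set X) := fun x hx => by
    by_contra hxc
    obtain rfl := CurveCohLib.eq_genericPoint_of_not_isClosed hdim hxc
    obtain ⟨y, hy⟩ := (TopologicalSpace.Opens.ne_bot_iff_nonempty _).1 (TrivBasic.locus_ne_bot hL hs)
    exact hx (((genericPoint_spec X).specializes (Set.mem_univ y)).mem_open (TrivBasic.locus s).2 hy)
  obtain ⟨t, ht⟩ := exists_avoid k hdim hL hg hdeg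
    (CurveCohLib.finite_of_closedPoints (TrivBasic.locus s).2.isClosed_compl hDcl)
  have hcov : ∀ x : X, x ∈ TrivBasic.locus s ∨ x ∈ TrivBasic.locus t := fun x => or_iff_not_imp_left.2 (ht x)
  refine ⟨s, t, hs, ?_, hcov⟩
  rintro rfl
  have hD0 : ∀ x : X, x ∈ TrivBasic.locus s := fun x => (hcov x).elim id fun h0 => by
    obtain ⟨V, hxV, hV⟩ := TrivBasic.mem_locus_iff.1 h0
    rw [map_zero] at hV
    have h2 : (1 : Γ(X, V)) = 0 := hV.coord_unique le_rfl (by rw [AModX.res_self, smul_zero, smul_zero])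
    rw [← Scheme.basicOpen_of_isUnit X (U := V) isUnit_one, h2, Scheme.basicOpen_zero] at hxV
    exact hxV.elim
  obtain ⟨φ⟩ := TrivBasic.triv_of_frame (TrivBasic.locus_eq_top_iff.1 (top_le_iff.1 fun x _ => hD0 x))
  have : Curv2.deg k X L 1 = 0 := by
    unfold Curv2.deg
    rw [Euler.euler_congr k φ]
    simp
  omega

include k hdim hL hg in
/-- Products of sections of `L` span the sections of `L ⊗ L`, for degree at least three. -/
theorem products_span [Infinite k] (hdeg : 3 ≤ Curv2.deg k X L 1) (u : Γ(T₂, ⊤)) :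
    u ∈ CurveReg.tens T₁ L := by
  classical
  haveI := CurveCohLib.isNoetherian_of_proper (k := k) (X := X)
  obtain ⟨s, t, hs, ht, hcov⟩ := exists_pair k hdim hL hg (by omega)
  have hd0 : Curv2.deg k X (Coh.structureModule X) 1 = 0 := by
    unfold Curv2.deg; simp
  obtain ⟨hT1, hT2, hT3, hd1, hd2, hd3⟩ := deg_powers k hdim hL hd0
  obtain ⟨-, h11, -, -⟩ := numbers k hdim hg hT1 (by omega)
  obtain ⟨-, -, hh0L, -⟩ := numbers k hdim hg hL (by omega)
  haveI := CurveCohLib.finite_HH (k := k) (CurveDeg.isCoh_of_isInvertible hL) 0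
  haveI := CurveCohLib.finite_HH (k := k) (CurveDeg.isCoh_of_isInvertible hT2) 0
  haveI := CurveCohLib.finite_HH (k := k) (CurveDeg.isCoh_of_isInvertible hT3) 0
  let P := LinearMap.range (mapLin k (pair s t T₁) 0)
  have hP : Module.finrank k (Coh.HH X T₂ 0) ≤ Module.finrank k P + 1 := pair_image k hdim hL hg hdeg s t ht hcov
  have hjoin : ∀ x : Γ(T₂, ⊤), toH _ x ∉ P → P ⊔ Submodule.span k {toH _ x} = ⊤ := fun x hx => by
    refine Submodule.eq_top_of_finrank_eq (le_antisymm (Submodule.finrank_le _) ?_)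
    have hlt : Module.finrank k P < Module.finrank k ↥(P ⊔ Submodule.span k {toH T₂ x}) :=
      Submodule.finrank_lt_finrank_of_lt (lt_of_le_of_ne le_sup_left fun h =>
        hx (h ▸ Submodule.mem_sup_right (Submodule.mem_span_singleton_self _)))
    omega
  by_contra hu
  have hprod : ∀ (a : Γ(T₁, ⊤)) (v : Γ(L, ⊤)), toH T₂ (mt a v) ∈ P := by
    intro a v
    by_contra hav
    refine hu ?_
    obtain ⟨p, hp, q, hq, hpq⟩ := Submodule.mem_sup.1 (show toH T₂ u ∈ P ⊔ Submodule.span k {toH _ (mt a v)} by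
      rw [hjoin _ hav]; trivial)
    obtain ⟨c, rfl⟩ := Submodule.mem_span_singleton.1 hq
    obtain ⟨p, rfl⟩ := (toH T₂).surjective p
    obtain ⟨a', b', rfl⟩ := (mem_range_pair k s t T₁ p).1 hp
    have hc : ∃ r : Γ(X, ⊤), c • toH T₂ (mt a v) = toH T₂ (r • mt a v) := by
      refine ⟨Coh.resTop X (op ⊤) (Coh.toGlobal (X ↘ Spec (CommRingCat.of k)) c), ?_⟩
      refine (AddEquiv.eq_symm_apply _).2 ((CurveCohLib.h0Equiv_smul T₂ c _).trans ?_)
      exact congrArg (_ • ·) (AddEquiv.apply_symm_apply _ _)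
    obtain ⟨r, hr⟩ := hc
    rw [hr, ← map_add] at hpq
    rw [← (toH T₂).injective hpq]
    refine add_mem (add_mem (CurveReg.tmul_mem_tens _ _) (CurveReg.tmul_mem_tens _ _)) ?_
    rw [← InvX.tmul_smul_left]
    exact CurveReg.tmul_mem_tens _ _
  have hx₀ : toH T₂ u ∉ P := fun hP' => hu (by
    obtain ⟨a, b, rfl⟩ := (mem_range_pair k s t T₁ u).1 hP'
    exact add_mem (CurveReg.tmul_mem_tens _ _) (CurveReg.tmul_mem_tens _ _))
  have hPtop := hjoin u hx₀
  have hRs : ∀ a : Γ(T₂, ⊤), toH T₃ (mt a s) ∈ P3 k s t := fun a =>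
    Submodule.mem_sup_left ⟨toH _ a, mapLin_mulSec k s a⟩
  have hPt : ∀ p : Γ(T₂, ⊤), toH _ p ∈ P → toH T₃ (mt p t) ∈ P3 k s t := by
    intro p hp
    obtain ⟨a, b, rfl⟩ := (mem_range_pair k s t T₁ p).1 hp
    have : mt (mt a s + mt b t) t = mt (mt a t) s + mt (mt b t) t := by
      rw [← tmul_comm_right hL a s t]; exact AmpleVan.tmul_add_left _ _ _
    rw [this, map_add]
    exact add_mem (hRs _) (Submodule.mem_sup_right ⟨toH _ b, Tt_toH k t b⟩)
  have hPw : ∀ (w : Γ(L, ⊤)) (p : Γ(T₂, ⊤)), toH _ p ∈ P → toH T₃ (mt p w) ∈ P3 k s t := by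
    intro w p hp
    obtain ⟨a, b, rfl⟩ := (mem_range_pair k s t T₁ p).1 hp
    have : mt (mt a s + mt b t) w = mt (mt a w) s + mt (mt b w) t := by
      rw [← tmul_comm_right hL a s w, ← tmul_comm_right hL b t w]; exact AmpleVan.tmul_add_left _ _ _
    rw [this, map_add]
    exact add_mem (hRs _) (hPt _ (hprod b w))
  let ψ : Coh.HH X L 0 →ₗ[k] (Coh.HH X T₃ 0 ⧸ P3 k s t) :=
    (P3 k s t).mkQ ∘ₗ (CurveCohLib.Pencil.tmulLin k (M := T₂) (N := L) u : Coh.HH X L 0 →ₗ[k] Coh.HH X T₃ 0)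
  have hψ : Module.finrank k (Coh.HH X T₃ 0 ⧸ P3 k s t) ≤ 1 := by
    refine finrank_le_one ((P3 k s t).mkQ (toH T₃ (mt u t))) fun y => ?_
    obtain ⟨y, rfl⟩ := (P3 k s t).mkQ_surjective y
    obtain ⟨y, rfl⟩ := (toH T₃).surjective y
    obtain ⟨a, ha'⟩ : ∃ a : Fin 2 → Γ(T₂, ⊤), y = mt (a 0) s + mt (a 1) t := by
      obtain ⟨a, ha⟩ := CurveReg.exists_sum_tmul ![s, t] k hdim.le hT1 hL (cover_pair s t hcov) h11 y
      exact ⟨a, ha.trans (Fin.sum_univ_two _)⟩
    obtain ⟨p, hp, q, hq, hpq⟩ := Submodule.mem_sup.1 (show toH T₂ (a 1) ∈ P ⊔ Submodule.span k {toH _ u} by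
      rw [hPtop]; trivial)
    obtain ⟨c, rfl⟩ := Submodule.mem_span_singleton.1 hq
    obtain ⟨p, rfl⟩ := (toH T₂).surjective p
    refine ⟨c, ?_⟩
    rw [← map_smul]
    refine (Submodule.Quotient.eq (P3 k s t)).2 ?_
    have key : toH T₃ y = toH _ (mt (a 0) s) + (toH _ (mt p t) + c • toH _ (mt u t)) := by
      rw [ha', map_add, ← mapLin_mulSec k t (a 1), ← hpq, map_add, map_smul, mapLin_mulSec, mapLin_mulSec]
    rw [key, show c • toH T₃ (mt u t) - (toH _ (mt (a 0) s) + (toH _ (mt p t) + c • toH _ (mt u t))) =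
      -(toH T₃ (mt (a 0) s) + toH _ (mt p t)) by abel]
    exact neg_mem (add_mem (hRs _) (hPt p hp))
  obtain ⟨w', hw', hws⟩ : ∃ w' ∈ LinearMap.ker ψ, w' ∉ Submodule.span k {toH L s} := by
    by_contra hall
    push Not at hall
    have h1 := Submodule.finrank_mono (s := LinearMap.ker ψ) (t := Submodule.span k {toH L s}) hall
    have h2 := finrank_span_singleton (K := k) (show toH L s ≠ 0 from fun h => hs ((toH L).injective (h.trans (map_zero _).symm)))
    have h3 := LinearMap.finrank_range_add_finrank_ker ψ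
    have h4 := Submodule.finrank_le (LinearMap.range ψ)
    omega
  obtain ⟨w, rfl⟩ := (toH L).surjective w'
  have hx₀w : toH T₃ (mt u w) ∈ P3 k s t := by
    have h := (Submodule.Quotient.mk_eq_zero (P3 k s t)).1 (LinearMap.mem_ker.1 hw')
    have e := tmulLin_toH k (M := T₂) u w
    exact e ▸ h
  refine count k hdim hL hg hdeg s t w hs ht hcov hws fun p => ?_
  obtain ⟨q, hq, r, hr, hqr⟩ := Submodule.mem_sup.1 (show toH T₂ p ∈ P ⊔ Submodule.span k {toH _ u} by
    rw [hPtop]; trivial)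
  obtain ⟨c, rfl⟩ := Submodule.mem_span_singleton.1 hr
  obtain ⟨q, rfl⟩ := (toH T₂).surjective q
  rw [← mapLin_mulSec k w p, ← hqr, map_add, map_smul, mapLin_mulSec, mapLin_mulSec]
  exact add_mem (hPw w q hq) ((P3 k s t).smul_mem c hx₀w)

end Groth.Agent.CanonDual.GOne
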