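import Groth.Agent.KunnethHH.FlatCech

/-!
# Flatness of `H⁰` from flatness of the higher cohomology
-/

set_option backward.isDefEq.respectTransparency false
set_option backward.isDefEq.respectTransparency.types false
set_option autoImplicit false
set_option linter.style.haveILetI false
set_option linter.unusedSectionVars false
set_option maxHeartbeats 800000

universe u

open CategoryTheory CategoryTheory.Limits AlgebraicGeometry TopologicalSpace Opposite
open scoped TensorProduct

noncomputable section

namespace Groth.Agent.CanonDual.H0Flat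

open Groth.Agent Groth.Agent.QCoh Groth.Agent.KunnethHH

variable {A : Type u} [CommRing A] {X : Scheme.{u}} [X.Over (Spec (CommRingCat.of A))]

local notation "π" => (X ↘ Spec (CommRingCat.of A))

variable {ι : Type u} [Finite ι] (U : ι → X.Opens) {F : X.Modules}

/-- Flat cohomology in positive degrees gives flat `H⁰`. -/
theorem flat_H0 [CompactSpace X] [QuasiSeparatedSpace X] (hcov : ⨆ i, U i = ⊤)
    (hU : ∀ {p : ℕ} (σ : Fin (p + 1) → ι), IsAffineOpen (⨅ a, U (σ a))) (hF : Coh.IsQCoh F)
    (hfl : FlatMod.IsFlatOver π F) (hH : ∀ p : ℕ, Module.Flat A (Coh.HH X F (p + 1))) :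
    Module.Flat A (Coh.HH X F 0) := by
  let C := cechA (A := A) F U
  have flatX : ∀ p, Module.Flat A (C.X p) := fun p => flat_cechA F hF hfl hU p
  have flatH : ∀ p, Module.Flat A (Hc C (p + 1)) := fun p => by
    have := hH p
    obtain ⟨e⟩ := nonempty_Hc_equiv (A := A) U hcov hU hF (p + 1)
    exact Module.Flat.of_linearEquiv e
  obtain ⟨d, hd⟩ := exists_HH_bound (X := X)
  -- flatness in high degrees
  have high : ∀ p, d ≤ p + 1 → Module.Flat A (Zc C (p + 1)) := by
    intro p hp
    have hx := flatX (p + 1 + 1)
    have := flatX (p + 1)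
    have hex : ∀ (M : Type u) [AddCommGroup M] [Module A M],
        Function.Exact ((C.d p (p + 1)).hom.rTensor M) ((C.d (p + 1) (p + 1 + 1)).hom.rTensor M) := by
      intro M _ _
      let K := cxMod (Coh.toGlobal π) U (tA F (ModuleCat.of A M))
      have hK : K.ExactAt (p + 1) := by
        rw [HomologicalComplex.exactAt_iff_isZero_homology]
        obtain ⟨e⟩ := cxMod_homology_equiv (Coh.toGlobal π) U hcov hU (isQCoh_tA F hF (ModuleCat.of A M)) (p + 1)
        have := hd _ (isQCoh_tA F hF (ModuleCat.of A M)) (p + 1) hp
        have : Subsingleton (K.homology (p + 1) : ModuleCat.{u} A) := e.toEquiv.subsingleton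
        exact ModuleCat.isZero_of_subsingleton _
      have h2 : (CohIII.tensorObj C (ModuleCat.of A M)).ExactAt (p + 1) :=
        hK.of_iso (thetaIso F hF hU (ModuleCat.of A M)).symm
      rw [HomologicalComplex.exactAt_iff' _ p (p + 1) (p + 1 + 1) (by simp) (by simp),
        ShortComplex.ShortExact.moduleCat_exact_iff_function_exact] at h2
      exact h2
    have := FlatModel.flat_range_of_tensor_exact _ _ hex
    exact FlatCxLib.flat_sub_of_flat (f := (Zc C (p + 1)).subtype) (g := (C.d (p + 1) (p + 1 + 1)).hom.rangeRestrict)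
      Subtype.val_injective (LinearMap.exact_iff.2 (by rw [LinearMap.ker_rangeRestrict, Submodule.range_subtype]; rfl))
      (LinearMap.surjective_rangeRestrict _)
  have down : ∀ p, Module.Flat A (Zc C (p + 1)) → Module.Flat A (Zc C p) := by
    intro p hp
    have := flatH p
    have := flatX p
    have : Module.Flat A (LinearMap.range (dZ C p)) :=
      FlatCxLib.flat_sub_of_flat (f := (LinearMap.range (dZ C p)).subtype) (g := clsH C (p + 1))
        Subtype.val_injective (LinearMap.exact_iff.2 (by
          rw [Submodule.range_subtype]; exact LinearMap.exact_iff.1 (exact_dZ_clsH C p))) (clsH_surjective C)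
    exact FlatCxLib.flat_sub_of_flat (f := (Zc C p).subtype) (g := (dZ C p).rangeRestrict)
      Subtype.val_injective (LinearMap.exact_iff.2 (by rw [LinearMap.ker_rangeRestrict, ker_dZ, Submodule.range_subtype]))
      (LinearMap.surjective_rangeRestrict _)
  have flatZ : ∀ k p, d + 1 ≤ p + k → Module.Flat A (Zc C p) := by
    intro k
    induction k with
    | zero =>
      intro p hp
      obtain ⟨q, rfl⟩ : ∃ q, p = q + 1 := ⟨p - 1, by omega⟩
      exact high q (by omega)
    | succ k ih => intro p hp; exact down p (ih (p + 1) (by omega))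
  haveI := flatZ (d + 1) 0 (by omega)
  obtain ⟨e⟩ := nonempty_Hc_equiv (A := A) U hcov hU hF 0
  haveI : Module.Flat A (Hc C 0) := by
    refine Module.Flat.of_linearEquiv (LinearEquiv.ofBijective (clsH C 0) ⟨?_, clsH_surjective C⟩).symm
    refine (injective_iff_map_eq_zero _).2 fun z hz => ?_
    obtain ⟨w, hw⟩ := (clsH_eq_zero_iff C z).1 hz
    rw [C.shape (0 - 1) 0 (by simp)] at hw
    exact Subtype.ext hw.symm
  exact Module.Flat.of_linearEquiv e.symm

end Groth.Agent.CanonDual.H0Flat
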