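import Groth.Agent.CanonDual.Sub
import Groth.Agent.CanonDual.Euler
import Groth.Agent.AmpleDev.CurvesIn
import Groth.Agent.QCoh.ClosedPush
import Groth.Agent.QCoh.DevissageTheta
import Groth.Agent.H23.RedSub
import Groth.Agent.S19606
import Groth.Agent.Lib.CurveBundle
import Groth.Agent.Bdd.Union

/-!
# The dualizing module restricted to a subcurve
-/

set_option autoImplicit false
set_option linter.style.haveILetI false
set_option linter.unusedSectionVars false
set_option backward.isDefEq.respectTransparency false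
set_option backward.isDefEq.respectTransparency.types false

universe u

open CategoryTheory CategoryTheory.Limits AlgebraicGeometry TopologicalSpace Opposite

attribute [local instance] HasDerivedCategory.standard

noncomputable section

namespace Groth.Agent.CanonDual

open Groth.Agent ExtShX.ClosedHom

variable {X : Scheme.{u}}

/-- The complementary subscheme: closure of the complement, reduced. -/
abbrev compl (J : X.IdealSheafData) : X.IdealSheafData :=
  Scheme.IdealSheafData.vanishingIdeal ⟨closure ((J.support : Set X)ᶜ), isClosed_closure⟩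

theorem inf_compl [IsReduced X] (J : X.IdealSheafData) [IsReduced J.subscheme] : J ⊓ compl J = ⊥ := by
  have hJ : J = Scheme.IdealSheafData.vanishingIdeal J.support := by
    rw [Scheme.IdealSheafData.vanishingIdeal_support]
    refine le_antisymm J.le_radical fun U => ?_
    rw [Scheme.IdealSheafData.radical_ideal]
    exact H23.RedSub.isRadical_of_isReduced_subscheme U
  conv_lhs => arg 1; rw [hJ]
  rw [← Scheme.IdealSheafData.vanishingIdeal_sup, show J.support ⊔
      ⟨closure ((J.support : Set X)ᶜ), isClosed_closure⟩ = ⊤ from SetLike.coe_injective ?_,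
    Scheme.IdealSheafData.vanishingIdeal_top, Scheme.nilradical_eq_bot]
  refine Set.eq_univ_of_forall fun x => ?_
  by_cases hx : x ∈ (J.support : Set X)
  · exact Or.inl hx
  · exact Or.inr (subset_closure hx)

theorem mem_ideal_iff (I : X.IdealSheafData) (U : X.affineOpens) (r : Γ(X, U.1)) :
    (ClSub.toSubscheme I).app U.1 r = 0 ↔ r ∈ I.ideal U := by
  rw [← I.ker_subschemeι_app U, RingHom.mem_ker]; rfl

theorem idealModι_app_mem (I : X.IdealSheafData) (U : X.affineOpens) (s : Γ(ClSub.idealMod I, U.1)) :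
    (show Γ(X, U.1) from (ClSub.idealModι I).app U.1 s) ∈ I.ideal U := by
  rw [← mem_ideal_iff]
  exact congr(($(kernel.condition (ClSub.toSubscheme I))).app U.1 s)

/-- The ideal of the complement is annihilated by the ideal. -/
theorem isIso_unit_idealMod [IsLocallyNoetherian X] (J J' : X.IdealSheafData) (h : J ⊓ J' = ⊥)
    (hq : Coh.IsQCoh (ClSub.idealMod J')) :
    IsIso ((Scheme.Modules.pullbackPushforwardAdjunction J.subschemeι).unit.app (ClSub.idealMod J')) := by
  refine (QCoh.isIso_unit_closed_iff J.subschemeι hq).2 fun U a ha s => ?_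
  rw [Scheme.IdealSheafData.ker_subschemeι] at ha
  haveI : Mono (ClSub.idealModι J') := inferInstanceAs (Mono (kernel.ι _))
  refine QCoh.app_injective (ClSub.idealModι J') U.1 ?_
  rw [Scheme.Modules.Hom.app_smul, map_zero]
  have h2 := idealModι_app_mem J' U s
  have h3 : a * (show Γ(X, U.1) from (ClSub.idealModι J').app U.1 s) ∈ (J ⊓ J').ideal U := by
    rw [Scheme.IdealSheafData.ideal_inf]
    exact ⟨Ideal.mul_mem_right _ _ ha, Ideal.mul_mem_left _ _ h2⟩
  rw [h, Scheme.IdealSheafData.ideal_bot] at h3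
  exact (Submodule.mem_bot _).1 h3

/-- A map to `O` from a module supported on `J` lands in the ideal of the complement. -/
theorem comp_toSubscheme_compl (J : X.IdealSheafData) {G : X.Modules}
    (hG : ∀ y ∉ (J.support : Set X), Subsingleton (G.presheaf.stalk y)) (φ : G ⟶ Coh.structureModule X) :
    φ ≫ ClSub.toSubscheme (compl J) = 0 := by
  refine QCoh.hom_eq_zero_of_affine _ fun W hW s => ?_
  show (ClSub.toSubscheme (compl J)).app W (φ.app W s) = 0
  refine (mem_ideal_iff (compl J) ⟨W, hW⟩ (show Γ(X, W) from φ.app W s)).2 ?_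
  rw [compl, Scheme.IdealSheafData.vanishingIdeal_ideal]
  refine (PrimeSpectrum.mem_vanishingIdeal _ _).2 fun p hp => ?_
  by_contra hp'
  have h1 : hW.fromSpec p ∈ X.basicOpen (show Γ(X, W) from φ.app W s) := by
    show p ∈ hW.fromSpec ⁻¹ᵁ X.basicOpen _
    rw [hW.fromSpec_preimage_basicOpen]
    exact hp'
  obtain ⟨y, hy, hyY⟩ := mem_closure_iff.1 (show hW.fromSpec p ∈ closure ((J.support : Set X)ᶜ) from hp) _
    (X.basicOpen _).2 h1
  have hyW : y ∈ W := X.basicOpen_le _ hy
  haveI := hG y hyY
  obtain ⟨V, hyV, i₁, i₂, hres⟩ := TopCat.Presheaf.germ_eq G.presheaf y hyW hyW s 0 (Subsingleton.elim _ _)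
  have h1 : X.presheaf.map i₁.op (show Γ(X, W) from φ.app W s) = 0 := by
    refine Eq.trans ?_ (map_zero (φ.app V).hom)
    rw [← map_zero (G.presheaf.map i₂.op).hom, ← hres]
    exact (QCoh.map_app_comm φ i₁ s).symm
  have hb : y ∈ X.basicOpen (X.presheaf.map i₁.op (show Γ(X, W) from φ.app W s)) := by
    rw [Scheme.basicOpen_res]
    exact ⟨hyV, hy⟩
  rw [h1, Scheme.basicOpen_zero] at hb
  exact hb

/-- Tensoring with an invertible module does not enlarge the support. -/
theorem subsingleton_stalk_of_twist {ω G : X.Modules} (hω : PicF.IsInvertible ω) (y : X)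
    [h : Subsingleton (((AmpleVan.tw ω).obj G).presheaf.stalk y)] : Subsingleton (G.presheaf.stalk y) := by
  obtain ⟨l⟩ := H23.InvStalk.exists_stalk_equiv hω y
  let e : TensorProduct (X.presheaf.stalk y) (G.presheaf.stalk y) (ω.presheaf.stalk y) ≃ₗ[X.presheaf.stalk y]
      G.presheaf.stalk y :=
    (TensorProduct.congr (LinearEquiv.refl _ _) l).trans (TensorProduct.rid _ _)
  haveI : Subsingleton (TensorProduct (X.presheaf.stalk y) (G.presheaf.stalk y) (ω.presheaf.stalk y)) :=
    @Equiv.subsingleton _ _ (KFlatLib.stalkTensorIso y G ω).toLinearEquiv.toEquiv h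
  exact e.symm.toEquiv.subsingleton

/-- Maps from sheaves on `J` into an invertible module factor uniquely through the ideal of the complement. -/
theorem bijective_comp_idealMod (J : X.IdealSheafData) {ω : X.Modules} (hω : PicF.IsInvertible ω) {P : X.Modules}
    (hP : ∀ y ∉ (J.support : Set X), Subsingleton (P.presheaf.stalk y)) :
    Function.Bijective fun ψ : P ⟶ (AmpleVan.tw ω).obj (ClSub.idealMod (compl J)) =>
      ψ ≫ (AmpleVan.tw ω).map (ClSub.idealModι (compl J)) := by
  let F : X.Modules ⥤ X.Modules := AmpleVan.tw ω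
  haveI : F.IsEquivalence := AmpleVan.isEquivalence_tw hω
  show Function.Bijective fun ψ : P ⟶ F.obj (ClSub.idealMod (compl J)) => ψ ≫ F.map (ClSub.idealModι (compl J))
  let G := F.objPreimage P
  let a : F.obj G ≅ P := F.objObjPreimageIso P
  have hG : ∀ y ∉ (J.support : Set X), Subsingleton (G.presheaf.stalk y) := fun y hy => by
    haveI := hP y hy
    haveI : Subsingleton (((AmpleVan.tw ω).obj G).presheaf.stalk y) :=
      @Equiv.subsingleton _ _ ((DerSch.stalkFunctor X y).mapIso a).toLinearEquiv.toEquiv (hP y hy)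
    exact subsingleton_stalk_of_twist hω y
  haveI : Mono (ClSub.idealModι (compl J)) := inferInstanceAs (Mono (kernel.ι _))
  haveI : Mono (F.map (ClSub.idealModι (compl J))) := inferInstance
  refine ⟨fun ψ ψ' h => (cancel_mono _).1 h, fun χ => ?_⟩
  obtain ⟨φ, hφ⟩ := F.map_surjective (a.hom ≫ χ)
  refine ⟨a.inv ≫ F.map (kernel.lift _ φ (comp_toSubscheme_compl J hG φ)), ?_⟩
  show (a.inv ≫ F.map _) ≫ F.map (ClSub.idealModι (compl J)) = χ
  rw [Category.assoc, ← F.map_comp]
  unfold ClSub.idealModι
  rw [kernel.lift_ι, hφ, a.inv_hom_id_assoc]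

/-- `i_* i^! ω = I' ⊗ ω` for invertible `ω`, where `I'` is the ideal of the complementary subcurve. -/
theorem nonempty_push_shriek_iso [IsLocallyNoetherian X] [IsReduced X] (J : X.IdealSheafData) [IsReduced J.subscheme]
    {ω : X.Modules} (hω : PicF.IsInvertible ω) :
    Nonempty ((Coh.push J.subschemeι).obj ((shriek J.subschemeι).obj ω) ≅
      CohB1.tensorMod (ClSub.idealMod (compl J)) ω) := by
  let i := J.subschemeι
  let I' := ClSub.idealMod (compl J)
  have hq : Coh.IsQCoh I' := QCoh.isQCoh_kernel QCoh.isQCoh_structureModule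
    (QCoh.isQCoh_pushforward _ QCoh.isQCoh_structureModule) _
  haveI : IsIso ((Scheme.Modules.pullbackPushforwardAdjunction i).unit.app I') :=
    isIso_unit_idealMod J (compl J) (inf_compl J) hq
  obtain ⟨e⟩ := AmpleDev.push_tensor_iso i hω ((Scheme.Modules.pullback i).obj I')
  let M : J.subscheme.Modules :=
    CohB1.tensorMod ((Scheme.Modules.pullback i).obj I') ((Scheme.Modules.pullback i).obj ω)
  let b : (AmpleVan.tw ω).obj I' ≅ (AmpleVan.tw ω).obj ((Coh.push i).obj ((Scheme.Modules.pullback i).obj I')) :=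
    (AmpleVan.tw ω).mapIso (asIso ((Scheme.Modules.pullbackPushforwardAdjunction i).unit.app I'))
  let E : (Coh.push i).obj M ≅ CohB1.tensorMod I' ω := e.symm ≪≫ b.symm
  obtain ⟨c⟩ := H23.PicMul.comm (Coh.structureModule X) ω
  obtain ⟨v⟩ := H23.PicMul.unit ω
  let cv : (AmpleVan.tw ω).obj (Coh.structureModule X) ≅ ω := c ≪≫ v
  let u : (Coh.push i).obj M ⟶ ω := E.hom ≫ (AmpleVan.tw ω).map (ClSub.idealModι (compl J)) ≫ cv.hom
  let ρ : M ⟶ (shriek i).obj ω := (shriekAdj i).homEquiv M ω u
  haveI : IsIso ρ := by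
    refine isIso_of_yoneda_map_bijective ρ fun F => ?_
    have hsupp : ∀ y ∉ (J.support : Set X), Subsingleton (((Coh.push i).obj F).presheaf.stalk y) := fun y hy =>
      H23.ClosedPushLen.subsingleton_stalk i F (by rwa [Scheme.IdealSheafData.range_subschemeι])
    have h1 : Function.Bijective fun φ : F ⟶ M => (Coh.push i).map φ :=
      ⟨fun a b h => (fullyFaithful i).map_injective h, fun χ => (fullyFaithful i).map_surjective χ⟩
    have h2 : Function.Bijective fun ψ : (Coh.push i).obj F ⟶ (Coh.push i).obj M => ψ ≫ u := by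
      have hE : Function.Bijective fun ψ : (Coh.push i).obj F ⟶ (Coh.push i).obj M => ψ ≫ E.hom :=
        ⟨fun a a' h => (cancel_mono E.hom).1 h, fun χ => ⟨χ ≫ E.inv, by simp⟩⟩
      have hc : Function.Bijective fun ψ : (Coh.push i).obj F ⟶ (AmpleVan.tw ω).obj (Coh.structureModule X) =>
          ψ ≫ cv.hom := ⟨fun a a' h => (cancel_mono cv.hom).1 h, fun χ => ⟨χ ≫ cv.inv, by simp⟩⟩
      have := hc.comp ((bijective_comp_idealMod J hω hsupp).comp hE)
      refine (Function.Bijective.of_comp_iff' Function.bijective_id _).1 ?_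
      convert this using 1
      funext ψ
      simp [u, Category.assoc]
    have heq : (fun x : F ⟶ M => x ≫ ρ) =
        ((shriekAdj i).homEquiv F ω) ∘ (fun φ : F ⟶ M => (Coh.push i).map φ ≫ u) := by
      funext φ
      exact ((shriekAdj i).homEquiv_naturality_left φ u).symm
    rw [heq]
    exact (Equiv.bijective _).comp (h2.comp h1)
  exact ⟨(Coh.push i).mapIso (asIso ρ).symm ≪≫ E⟩

section

variable {k : Type u} [Field k] [X.Over (Spec (CommRingCat.of k))] [IsProper (X ↘ Spec (CommRingCat.of k))]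

variable (k) in
include k in
theorem isCoh_quotMod (I : X.IdealSheafData) : Coh.IsCoh (ClSub.quotMod I) := by
  haveI : IsLocallyNoetherian X := LocallyOfFiniteType.isLocallyNoetherian (X ↘ Spec (CommRingCat.of k))
  haveI : IsLocallyNoetherian I.subscheme := LocallyOfFiniteType.isLocallyNoetherian I.subschemeι
  exact QCoh.isCoh_pushforward_finite _ QCoh.isCoh_structureModule'

variable (k) in
include k in
/-- Points where the subcurve meets its complement are closed. -/
theorem isClosed_of_mem_inter (hX : Proj16.ClosedDimOne X) (J : X.IdealSheafData) {y : X}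
    (hy : y ∈ (J.support : Set X)) (hy' : y ∈ closure ((J.support : Set X)ᶜ)) : IsClosed ({y} : Set X) := by
  let p := X ↘ Spec (CommRingCat.of k)
  haveI : IsLocallyNoetherian X := LocallyOfFiniteType.isLocallyNoetherian p
  haveI : CompactSpace X := QuasiCompact.compactSpace_of_compactSpace p
  haveI : IsNoetherian X := { __ := ‹IsLocallyNoetherian X›, __ := ‹CompactSpace X› }
  by_contra hc
  let S := {C ∈ irreducibleComponents X | ¬ C ⊆ (J.support : Set X)}
  have hsub : closure ((J.support : Set X)ᶜ) ⊆ ⋃ C ∈ S, C := by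
    refine closure_minimal (fun x hx => Set.mem_biUnion (x := irreducibleComponent x)
      ⟨irreducibleComponent_mem_irreducibleComponents x, fun h => hx (h mem_irreducibleComponent)⟩
      mem_irreducibleComponent) ?_
    exact ((TopologicalSpace.NoetherianSpace.finite_irreducibleComponents (α := X)).subset
      fun C hC => hC.1).isClosed_biUnion fun C hC => isClosed_of_mem_irreducibleComponents C hC.1
  obtain ⟨C, hC, hyC⟩ := Set.mem_iUnion₂.1 (hsub hy')
  obtain ⟨η, hη⟩ := QuasiSober.sober hC.1.1 (isClosed_of_mem_irreducibleComponents C hC.1)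
  have hmax : Proj16.IsMaximalPoint η := Proj16.isMaximalPoint_of_closure (by rw [hη.def]; exact hC.1)
  have he := Proj16.eq_of_not_isClosed p hX hc (hη.specializes hyC) hmax
  refine hC.2 ?_
  rw [← hη.def, he]
  exact closure_minimal (Set.singleton_subset_iff.2 hy) J.support.2

theorem exists_quotMap {I I' : X.IdealSheafData} (h : I ≤ I') [Epi (ClSub.toSubscheme I)] :
    ∃ q : ClSub.quotMod I ⟶ ClSub.quotMod I', ClSub.toSubscheme I ≫ q = ClSub.toSubscheme I' := by
  have w : kernel.ι (ClSub.toSubscheme I) ≫ ClSub.toSubscheme I' = 0 := by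
    refine QCoh.hom_eq_zero_of_affine _ fun W hW s => ?_
    exact (mem_ideal_iff I' ⟨W, hW⟩ _).2 (h ⟨W, hW⟩ (idealModι_app_mem I ⟨W, hW⟩ s))
  exact ⟨Abelian.epiDesc (ClSub.toSubscheme I) (ClSub.toSubscheme I') w, Abelian.comp_epiDesc _ _ w⟩

theorem epi_toSubscheme (I : X.IdealSheafData) : Epi (ClSub.toSubscheme I) :=
  Preadditive.epi_of_cancel_zero _ fun {T} g hg => by
    refine Scheme.Modules.hom_ext g 0 fun V => AddCommGrpCat.ext fun y => ?_
    refine (QCoh.eq_zero_of_locally V _ fun p hp => ?_).trans rfl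
    obtain ⟨_, ⟨W, hW, rfl⟩, hpW, hWV⟩ :=
      X.isBasis_affineOpens.exists_subset_of_mem_open (show p ∈ V from hp) V.isOpen
    refine ⟨W, homOfLE hWV, hpW, ?_⟩
    rw [← QCoh.map_app_comm]
    obtain ⟨r, hr⟩ := I.subschemeι_app_surjective ⟨W, hW⟩
      ((ClSub.quotMod I).presheaf.map (homOfLE hWV).op y)
    refine (congrArg (g.app W) hr.symm).trans ?_
    exact congr(($hg).app W r)

/-- Adjunction on a subcurve: `deg(ω|_Y) = -2 χ(O_Y) + length (Y ∩ Y')`. -/
theorem deg_dualizing_restrict [IsReduced X]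
    (hdim : topologicalKrullDim X = 1) (hX : Proj16.ClosedDimOne X)
    {ω : X.Modules} {tr : Coh.HH X ω 1 →ₗ[k] k} (hω : Canon.IsRDualOver k X 1 ω tr) (hinv : PicF.IsInvertible ω)
    (J : X.IdealSheafData) [IsReduced J.subscheme] (hJdim : topologicalKrullDim J.subscheme = 1)
    (hJ : Proj16.ClosedDimOne J.subscheme) :
    @Curv2.deg k _ J.subscheme ⟨J.subschemeι ≫ (X ↘ Spec (CommRingCat.of k))⟩
        ((Scheme.Modules.pullback J.subschemeι).obj ω) 1 =
      -2 * @Curv2.euler k _ J.subscheme ⟨J.subschemeι ≫ (X ↘ Spec (CommRingCat.of k))⟩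
          (Coh.structureModule J.subscheme) +
        (Module.finrank k (Coh.HH X (ClSub.quotMod (J ⊔ compl J)) 0) : ℤ) := by
  haveI : IsLocallyNoetherian X := LocallyOfFiniteType.isLocallyNoetherian (X ↘ Spec (CommRingCat.of k))
  letI : J.subscheme.Over (Spec (CommRingCat.of k)) := ⟨J.subschemeι ≫ (X ↘ Spec (CommRingCat.of k))⟩
  haveI : IsProper (J.subscheme ↘ Spec (CommRingCat.of k)) := inferInstanceAs (IsProper (J.subschemeι ≫ _))
  let J' := compl J
  rw [← AmpleDev.euler_sub_eq_deg k J hinv]
  have hQ : ∀ I : X.IdealSheafData, Coh.IsCoh (ClSub.quotMod I) := fun I => isCoh_quotMod k I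
  have hlf : FlatMod.IsFinLocFree ω := fun y =>
    let ⟨U, hy, e⟩ := InvEnd.isFinLocFreeOfRank_one hinv y
    ⟨U, 1, hy, e⟩
  have hT : ∀ F : X.Modules, Coh.IsCoh F → Coh.IsCoh ((DCoh.tensorBi.obj ω).obj F) := fun F hF =>
    CurveTensor.isCoh_tensor hlf hF
  have hcomm : ∀ F : X.Modules, Curv2.euler k X (CohB1.tensorMod F ω) =
      Curv2.euler k X ((DCoh.tensorBi.obj ω).obj F) := fun F => by
    obtain ⟨c⟩ := H23.PicMul.comm F ω
    exact Euler.euler_congr k c
  have hI : ∀ I : X.IdealSheafData, Coh.IsCoh (ClSub.idealMod I) := fun I =>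
    QCoh.isCoh_kernel QCoh.isCoh_structureModule' (hQ I) _
  -- the ideal sequence of the complement
  haveI := epi_toSubscheme J'
  haveI := epi_toSubscheme J
  have hS : (ShortComplex.mk (kernel.ι (ClSub.toSubscheme J')) (ClSub.toSubscheme J')
      (kernel.condition _)).ShortExact :=
    ShortComplex.ShortExact.mk' (ShortComplex.exact_of_f_is_kernel _ (kernelIsKernel _)) inferInstance inferInstance
  have e1 := CurveBundle.euler_add' k _ _ _ (CurveTensor.shortExact_tensor hlf _ _ _ hS)
    (hT _ (hI J')) (hT _ QCoh.isCoh_structureModule') (hT _ (hQ J'))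
  -- the two-component sequence
  obtain ⟨q₁, hq₁⟩ := exists_quotMap (I := J) (I' := J ⊔ J') le_sup_left
  obtain ⟨q₂, hq₂⟩ := exists_quotMap (I := J') (I' := J ⊔ J') le_sup_right
  obtain ⟨hepi, w, ⟨hlim⟩⟩ := S19606.result X J J' (inf_compl J) q₁ q₂ hq₁ hq₂
  haveI := hepi
  haveI : Mono (biprod.lift (ClSub.toSubscheme J) (ClSub.toSubscheme J')) := Fork.IsLimit.mono hlim
  have hS2 : (ShortComplex.mk (biprod.lift (ClSub.toSubscheme J) (ClSub.toSubscheme J'))
      (biprod.desc q₁ (-q₂)) w).ShortExact :=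
    ShortComplex.ShortExact.mk' (ShortComplex.exact_of_f_is_kernel _ hlim) inferInstance inferInstance
  have hbi : Coh.IsCoh (ClSub.quotMod J ⊞ ClSub.quotMod J') := Bdd.isCoh_biprod (hQ J) (hQ J')
  have e2 := CurveBundle.euler_add' k _ _ _ (CurveTensor.shortExact_tensor hlf _ _ _ hS2)
    (hT _ QCoh.isCoh_structureModule') (hT _ hbi) (hT _ (hQ (J ⊔ J')))
  have e3 := CurveBundle.euler_add' k _ _ _
    (CurveTensor.shortExact_tensor hlf _ _ _ (ShortComplex.Splitting.ofHasBinaryBiproduct (ClSub.quotMod J) (ClSub.quotMod J')).shortExact)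
    (hT _ (hQ J)) (hT _ hbi) (hT _ (hQ J'))
  -- the dualizing module of the subcurve
  obtain ⟨t, ht⟩ := exists_isRDualOver_shriek J.subschemeι rfl hω (isCoh_dualizing hdim.le hω)
  have hYcm := cm_of_reduced k hJ
  have e4 : Curv2.euler k X (CohB1.tensorMod (ClSub.idealMod J') ω) =
      - Curv2.euler k J.subscheme (Coh.structureModule J.subscheme) := by
    obtain ⟨e⟩ := nonempty_push_shriek_iso J hinv
    rw [← Euler.euler_congr k e, AmpleDev.euler_push k J.subschemeι rfl ht.1]
    exact euler_dualizing hJdim hYcm ht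
  rw [hcomm] at e4
  -- the intersection
  have hsupp : ∀ x ∈ CohB1.support (ClSub.quotMod (J ⊔ J')), IsClosed ({x} : Set X) := fun x hx => by
    have hx' : x ∈ ((J ⊔ J').support : Set X) := by
      by_contra h
      exact hx (H23.ClosedPushLen.subsingleton_stalk _ _ (by rwa [Scheme.IdealSheafData.range_subschemeι]))
    rw [Scheme.IdealSheafData.support_sup] at hx'
    refine isClosed_of_mem_inter k hX J hx'.1 ?_
    have := hx'.2
    rwa [Scheme.IdealSheafData.coe_support_vanishingIdeal] at this
  have e5 := CurveTensor.euler_tensor_torsion (k := k) (InvEnd.isFinLocFreeOfRank_one hinv) (hQ (J ⊔ J')) hsupp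
  rw [CurveCohLib.euler_eq_finrank_zero (hQ (J ⊔ J')) hsupp] at e5
  have e6 : Curv2.euler k X (ClSub.quotMod J) = Curv2.euler k J.subscheme (Coh.structureModule J.subscheme) :=
    AmpleDev.euler_push k J.subschemeι rfl QCoh.isQCoh_structureModule
  rw [hcomm, e6]
  push_cast at e5
  have k1 : Curv2.euler k X ((DCoh.tensorBi.obj ω).obj (Coh.structureModule X)) =
      Curv2.euler k X ((DCoh.tensorBi.obj ω).obj (ClSub.idealMod J')) +
        Curv2.euler k X ((DCoh.tensorBi.obj ω).obj (ClSub.quotMod J')) := e1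
  have k2 : Curv2.euler k X ((DCoh.tensorBi.obj ω).obj (ClSub.quotMod J ⊞ ClSub.quotMod J')) =
      Curv2.euler k X ((DCoh.tensorBi.obj ω).obj (Coh.structureModule X)) +
        Curv2.euler k X ((DCoh.tensorBi.obj ω).obj (ClSub.quotMod (J ⊔ J'))) := e2
  linarith

end

end Groth.Agent.CanonDual
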