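import Groth.Agent.CanonDual.TF
import Groth.Agent.CanonDual.Subcurve
import Groth.Agent.CurveCohLib.Nonspecial
import Groth.Agent.HensCouple7.Gamma
import Groth.Agent.TFQuot.ModifDvr
import Groth.Agent.LCZLib.Depth
import Groth.Agent.QCoh.DevissageSum

/-!
# A subcurve criterion for the vanishing of `H¹`
-/

set_option autoImplicit false
set_option linter.style.haveILetI false
set_option linter.unusedSectionVars false
set_option backward.isDefEq.respectTransparency false
set_option backward.isDefEq.respectTransparency.types false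

universe u

open CategoryTheory CategoryTheory.Limits AlgebraicGeometry TopologicalSpace Opposite

attribute [local instance] HasDerivedCategory.standard

noncomputable section

namespace Groth.Agent.CanonDual

open Groth.Agent ExtShX.ClosedHom TFQuot

section General

variable {X : Scheme.{u}}

theorem st_id {M : X.Modules} (x : X) (v : (DerSch.stalkFunctor X x).obj M) : st (𝟙 M) x v = v := by
  show (DerSch.stalkFunctor X x).map (𝟙 M) v = v
  rw [CategoryTheory.Functor.map_id]; rfl

theorem injective_of_field {R : Type u} [CommRing R] (hR : IsField R) {M N : Type u} [AddCommGroup M] [Module R M]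
    [AddCommGroup N] [Module R N] (e : M ≃ₗ[R] R) (f : M →ₗ[R] N) {w : M} (hw : f w ≠ 0) : Function.Injective f := by
  refine (injective_iff_map_eq_zero _).2 fun v hv => ?_
  by_contra hv0
  obtain ⟨c, hc⟩ := hR.mul_inv_cancel (fun h => hv0 (e.injective (h.trans e.map_zero.symm)))
  have : w = (e w * c) • v := e.injective (by rw [map_smul, smul_eq_mul, mul_assoc, mul_comm c, hc, mul_one])
  exact hw (by rw [this, map_smul, hv, smul_zero])

theorem surjective_of_field {R : Type u} [CommRing R] (hR : IsField R) {M N : Type u} [AddCommGroup M] [Module R M]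
    [AddCommGroup N] [Module R N] (e : N ≃ₗ[R] R) (f : M →ₗ[R] N) {w : M} (hw : f w ≠ 0) : Function.Surjective f := by
  intro y
  obtain ⟨c, hc⟩ := hR.mul_inv_cancel (fun h => hw (e.injective (h.trans e.map_zero.symm)))
  refine ⟨(e y * c) • w, e.injective ?_⟩
  rw [map_smul, map_smul, smul_eq_mul, mul_assoc, mul_comm c, hc, mul_one]

/-- The unit is invertible on direct images. -/
theorem isIso_unit_push {Z : Scheme.{u}} (i : Z ⟶ X) [IsClosedImmersion i] (M : Z.Modules) :
    IsIso ((Scheme.Modules.pullbackPushforwardAdjunction i).unit.app ((Scheme.Modules.pushforward i).obj M)) := by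
  let a := Scheme.Modules.pullbackPushforwardAdjunction i
  haveI := isIso_counit i M
  haveI : IsIso (a.unit.app ((Scheme.Modules.pushforward i).obj M) ≫
      (Scheme.Modules.pushforward i).map (a.counit.app M)) := by
    rw [a.right_triangle_components]; infer_instance
  exact IsIso.of_isIso_comp_right _ ((Scheme.Modules.pushforward i).map (a.counit.app M))

/-- Submodules of direct images are direct images. -/
theorem isIso_unit_of_mono {Z : Scheme.{u}} (i : Z ⟶ X) [IsClosedImmersion i] {G B : X.Modules} (m : G ⟶ B) [Mono m]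
    (hG : Coh.IsQCoh G) {M : Z.Modules} (hM : Coh.IsQCoh M) (e : B ≅ (Scheme.Modules.pushforward i).obj M) :
    IsIso ((Scheme.Modules.pullbackPushforwardAdjunction i).unit.app G) := by
  refine (QCoh.isIso_unit_closed_iff i hG).2 fun U a ha s => ?_
  haveI : Mono (m ≫ e.hom) := mono_comp _ _
  refine QCoh.app_injective (m ≫ e.hom) U.1 ?_
  rw [Scheme.Modules.Hom.app_smul, map_zero]
  exact (QCoh.isIso_unit_closed_iff i (QCoh.isQCoh_pushforward i hM)).1 (isIso_unit_push i M) U a ha _

theorem st_smulHom {Z : Scheme.{u}} (f : Γ(Z, ⊤)) (M : Z.Modules) (z : Z) (v : (DerSch.stalkFunctor Z z).obj M) :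
    st (LCZLib.smulHom f M) z v = Z.presheaf.germ ⊤ z trivial f • v := by
  obtain ⟨U, hzU, s, rfl⟩ := TopCat.Presheaf.exists_germ_eq M.presheaf v
  refine (DerSch.stalkFunctor_map_germ z (LCZLib.smulHom f M) U hzU s).trans ?_
  show M.presheaf.germ U z hzU (QCoh.rf Z (le_top : U ≤ ⊤) f • s) = _
  rw [QCoh.germ_smul']
  congr 1
  exact Z.presheaf.germ_res_apply (homOfLE le_top) z hzU f

theorem germ_idempotent {Z : Scheme.{u}} {ε : Γ(Z, ⊤)} (hε : ε * ε = ε) (z : Z) :
    (z ∈ Z.basicOpen ε → Z.presheaf.germ ⊤ z trivial ε = 1) ∧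
      (z ∉ Z.basicOpen ε → Z.presheaf.germ ⊤ z trivial ε = 0) := by
  have he : Z.presheaf.germ ⊤ z trivial ε * Z.presheaf.germ ⊤ z trivial ε = Z.presheaf.germ ⊤ z trivial ε := by
    rw [← map_mul, hε]
  refine ⟨fun h => ((Z.mem_basicOpen ε z trivial).1 h).mul_left_cancel (by rw [he, mul_one]), fun h => ?_⟩
  have hu : IsUnit (1 - Z.presheaf.germ ⊤ z trivial ε) := by
    refine (IsLocalRing.isUnit_or_isUnit_one_sub_self _).resolve_left fun hu => h ?_
    exact (Z.mem_basicOpen ε z trivial).2 hu
  exact hu.mul_left_cancel (by rw [sub_mul, one_mul, he, sub_self, mul_zero])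

theorem preservesFiniteColimits_tensor (G : X.Modules) :
    PreservesFiniteColimits ((DCoh.tensorBi (X := X)).obj G) := by
  haveI : PreservesColimitsOfSize.{u, u} ((DCoh.tensorBi (X := X)).obj G) :=
    ⟨fun {K} _ => preservesColimitsOfShape_of_natIso ((KFlatLib.tensorBiFlipIso X).app G)⟩
  exact PreservesColimitsOfSize.preservesFiniteColimits _

theorem exists_idealMod_section (I : X.IdealSheafData) (U : X.affineOpens) {r : Γ(X, U.1)} (hr : r ∈ I.ideal U) :
    ∃ s, (ClSub.idealModι I).app U.1 s = r :=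
  QCoh.exists_kernel_lift (ClSub.toSubscheme I) U.1 _ ((mem_ideal_iff I U r).2 hr)

end General

section

variable {k : Type u} [Field k] {X : Scheme.{u}} [X.Over (Spec (CommRingCat.of k))]
  [IsProper (X ↘ Spec (CommRingCat.of k))]

variable (k) in
include k in
theorem isClosed_of_dim_zero (Z : X.IdealSheafData) (hZ : topologicalKrullDim (Z.support : Set X) ≤ 0) {x : X}
    (hx : x ∈ (Z.support : Set X)) : IsClosed ({x} : Set X) := by
  let p := X ↘ Spec (CommRingCat.of k)
  refine (VarDim.closedPoint_iff_deg_eq_zero p x).2 ?_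
  have h1 : topologicalKrullDim (closure ({x} : Set X)) ≤ 0 :=
    le_trans (Topology.IsEmbedding.inclusion (closure_minimal (Set.singleton_subset_iff.2 hx) Z.support.isClosed)).isInducing.topologicalKrullDim_le hZ
  rw [VarDim.topologicalKrullDim_closure_singleton p x] at h1
  exact_mod_cast (le_antisymm (by exact_mod_cast h1) (Nat.zero_le _))

variable (k) in
include k in
theorem closedDimOne_subcurve (hX : Proj16.ClosedDimOne X) {S : Set X} (hS : IsClosed S) (hSs : VecSt.IsSubcurve X S) :
    Proj16.ClosedDimOne (VecSt.subsch X S hS) := by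
  haveI : IsLocallyNoetherian X := LocallyOfFiniteType.isLocallyNoetherian (X ↘ Spec (CommRingCat.of k))
  haveI : CompactSpace X := QuasiCompact.compactSpace_of_compactSpace (X ↘ Spec (CommRingCat.of k))
  haveI : IsNoetherian X := { __ := ‹IsLocallyNoetherian X›, __ := ‹CompactSpace X› }
  let p := X ↘ Spec (CommRingCat.of k)
  let i := VecSt.subschι X S hS
  refine (Proj16.closedDimOne_iff_deg (i ≫ p)).2 fun z hz => ?_
  have hg : i z ∈ genericPoints X :=
    map_mem_genericPoints hS hSs (VarDim.closure_mem_irreducibleComponents hz)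
  have h1 : VarDim.deg p (i z) = 1 := (Proj16.closedDimOne_iff_deg p).1 hX _ (isMaximal_of_generic hg)
  have e : closure ({z} : Set (VecSt.subsch X S hS)) ≃ₜ closure ({i z} : Set X) :=
    (i.isClosedEmbedding.isEmbedding.homeomorphImage _).trans
      (Homeomorph.setCongr (by rw [← i.isClosedEmbedding.closure_image_eq, Set.image_singleton]))
  have h2 := e.isHomeomorph.topologicalKrullDim_eq
  rw [VarDim.topologicalKrullDim_closure_singleton (i ≫ p), VarDim.topologicalKrullDim_closure_singleton p, h1] at h2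
  exact_mod_cast h2

/-- A twist of an ideal with nonvanishing `H¹` forces a connected subcurve of small degree. -/
theorem exists_subcurve_deg_le [IsReduced X] (hdim : topologicalKrullDim X = 1) (hX : Proj16.ClosedDimOne X)
    {ω : X.Modules} {tr : Coh.HH X ω 1 →ₗ[k] k} (hω : Canon.IsRDualOver k X 1 ω tr)
    {L : X.Modules} (hL : PicF.IsInvertible L) (Z : X.IdealSheafData)
    (hZ : topologicalKrullDim (Z.support : Set X) ≤ 0)
    (h1 : Nontrivial (Coh.HH X (CurveCohLib.Nonspecial.twist Z L) 1)) :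
    ∃ J : X.IdealSheafData, IsReduced J.subscheme ∧ ConnectedSpace J.subscheme ∧
      topologicalKrullDim J.subscheme = 1 ∧
      @Curv2.deg k _ J.subscheme ⟨J.subschemeι ≫ (X ↘ Spec (CommRingCat.of k))⟩
          ((Scheme.Modules.pullback J.subschemeι).obj L) 1 ≤
        -2 * @Curv2.euler k _ J.subscheme ⟨J.subschemeι ≫ (X ↘ Spec (CommRingCat.of k))⟩
            (Coh.structureModule J.subscheme) +
          Module.finrank k (Coh.HH X (ClSub.quotMod (Z ⊔ J)) 0) := by
  classical
  haveI : IsLocallyNoetherian X := LocallyOfFiniteType.isLocallyNoetherian (X ↘ Spec (CommRingCat.of k))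
  haveI : CompactSpace X := QuasiCompact.compactSpace_of_compactSpace (X ↘ Spec (CommRingCat.of k))
  haveI : IsNoetherian X := { __ := ‹IsLocallyNoetherian X›, __ := ‹CompactSpace X› }
  let T := CurveCohLib.Nonspecial.twist Z L
  have hLf : FlatMod.IsFinLocFree L := fun y =>
    let ⟨W, hy, he⟩ := InvEnd.isFinLocFreeOfRank_one hL y; ⟨W, 1, hy, he⟩
  have hQ : ∀ I : X.IdealSheafData, Coh.IsCoh (ClSub.quotMod I) := fun I => isCoh_quotMod k I
  have hT : ∀ F : X.Modules, Coh.IsCoh F → Coh.IsCoh ((DCoh.tensorBi.obj L).obj F) := fun F hF =>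
    CurveTensor.isCoh_tensor hLf hF
  have hTc : Coh.IsCoh T := hT _ (QCoh.isCoh_kernel QCoh.isCoh_structureModule' (hQ Z) _)
  obtain ⟨hωc, hωtf, -⟩ := isTF1_dualizing hdim hX hω
  -- generic points of the support
  let Sg : (T ⟶ ω) → Set X := fun φ => {η | η ∈ genericPoints X ∧ ∃ v, st φ η v ≠ 0}
  have hex : ∃ n : ℕ, ∃ φ : T ⟶ ω, φ ≠ 0 ∧ (Sg φ).ncard = n := by
    haveI : Nontrivial (T ⟶ ω) := not_subsingleton_iff_nontrivial.1 fun hs =>
      not_subsingleton _ ((subsingleton_hom_iff hω hTc.1).1 hs)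
    obtain ⟨φ, hφ⟩ := exists_ne (0 : T ⟶ ω)
    exact ⟨_, φ, hφ, rfl⟩
  obtain ⟨φ, hφ, hcard⟩ := Nat.find_spec hex
  have hmin : ∀ φ' : T ⟶ ω, φ' ≠ 0 → (Sg φ).ncard ≤ (Sg φ').ncard := fun φ' h' => by
    rw [hcard]; exact Nat.find_min' hex ⟨φ', h', rfl⟩
  obtain ⟨η₀, hη₀⟩ : (Sg φ).Nonempty := by
    by_contra hne
    refine hφ (hom_eq_zero hωc.1 hωtf φ fun η hη v => ?_)
    by_contra hv
    exact hne ⟨η, hη, v, hv⟩
  have hfinG : (Sg φ).Finite := finite_genericPoints.subset fun η h => h.1
  let S : Set X := ⋃ η ∈ Sg φ, closure {η}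
  have hScl : IsClosed S := hfinG.isClosed_biUnion fun η _ => isClosed_closure
  have hSs : VecSt.IsSubcurve X S := by
    refine ⟨(fun η => closure {η}) '' Sg φ, ?_, ⟨_, ⟨η₀, hη₀, rfl⟩⟩, by simp [S, Set.sUnion_image]⟩
    rintro _ ⟨η, hη, rfl⟩
    exact hη.1
  have hmem : ∀ η ∈ genericPoints X, η ∈ S → η ∈ Sg φ := fun η hη hηS => by
    obtain ⟨η', hη', h⟩ := Set.mem_iUnion₂.1 hηS
    rwa [← eq_of_specializes_generic hη (specializes_iff_mem_closure.2 h)]
  let J : X.IdealSheafData := Scheme.IdealSheafData.vanishingIdeal ⟨S, hScl⟩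
  let i := J.subschemeι
  have hrange : Set.range i = S := range_subschι S hScl
  haveI hJred : IsReduced J.subscheme := isReduced_subsch S hScl
  letI : J.subscheme.Over (Spec (CommRingCat.of k)) := ⟨i ≫ (X ↘ Spec (CommRingCat.of k))⟩
  haveI : IsProper (J.subscheme ↘ Spec (CommRingCat.of k)) := inferInstanceAs (IsProper (i ≫ _))
  haveI : IsLocallyNoetherian J.subscheme := LocallyOfFiniteType.isLocallyNoetherian i
  have hJX : Proj16.ClosedDimOne J.subscheme := closedDimOne_subcurve k hX hScl hSs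
  have hJdim : topologicalKrullDim J.subscheme = 1 := by
    refine le_antisymm (i.isClosedEmbedding.isInducing.topologicalKrullDim_le.trans hdim.le) ?_
    rw [show (1 : WithBot ℕ∞) = ((1 : ℕ) : WithBot ℕ∞) from rfl, ← components_dim_one k hX _ hη₀.1]
    let e : J.subscheme ≃ₜ S := i.isClosedEmbedding.isEmbedding.toHomeomorph.trans (Homeomorph.setCongr hrange)
    rw [e.isHomeomorph.topologicalKrullDim_eq]
    exact (Topology.IsEmbedding.inclusion (show closure {η₀} ⊆ S from
      Set.subset_biUnion_of_mem (u := fun η => closure ({η} : Set X)) hη₀)).isInducing.topologicalKrullDim_le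
  -- the restriction map
  let B := (DCoh.tensorBi.obj L).obj (ClSub.quotMod J)
  let a : T ⟶ B := (DCoh.tensorBi.obj L).map (ClSub.idealModι Z) ≫ (DCoh.tensorBi.obj L).map (ClSub.toSubscheme J)
  obtain ⟨pe⟩ := AmpleDev.push_tensor_iso i hL (Coh.structureModule J.subscheme)
  let LJ : J.subscheme.Modules := CohB1.tensorMod (Coh.structureModule J.subscheme) ((Scheme.Modules.pullback i).obj L)
  have hLJ : PicF.IsInvertible LJ :=
    InvX.isInvertible_tensorMod InvX.isInvertible_structureModule (PicClLib.isInvertible_pullback _ hL)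
  obtain ⟨cm⟩ := H23.PicMul.comm L (ClSub.quotMod J)
  let εB : B ≅ (Scheme.Modules.pushforward i).obj LJ := cm ≪≫ pe
  have hBtf : TorSh.IsTorsionFree B := by
    haveI : Mono εB.hom := inferInstance
    exact torsionFree_of_mono εB.hom
      (torsionFree_push hScl hSs (ProjUPX.isQCoh_of_isInvertible hLJ) (torsionFree_invertible hLJ))
  have hB0 : ∀ η ∉ S, ∀ v : (DerSch.stalkFunctor X η).obj B, v = 0 := fun η hη v => by
    refine st_injective εB.hom η ?_
    rw [map_zero]
    exact push_stalk_eq_zero (hZ := hScl) LJ hη _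
  have hclZ : ∀ η ∈ genericPoints X, η ∉ (Z.support : Set X) := fun η hη hηZ => by
    have h0 := (VarDim.closedPoint_iff_deg_eq_zero (X ↘ Spec (CommRingCat.of k)) η).1 (isClosed_of_dim_zero k Z hZ hηZ)
    rw [(Proj16.closedDimOne_iff_deg (X ↘ Spec (CommRingCat.of k))).1 hX η (isMaximal_of_generic hη)] at h0
    exact one_ne_zero h0
  have hSZ : (ShortComplex.mk (ClSub.idealModι Z) (ClSub.toSubscheme Z) (kernel.condition _)).ShortExact :=
    haveI := epi_toSubscheme Z
    CurveSlope.shortExact_kernel_of_epi _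
  have hSJ : (ShortComplex.mk (ClSub.idealModι J) (ClSub.toSubscheme J) (kernel.condition _)).ShortExact :=
    haveI := epi_toSubscheme J
    CurveSlope.shortExact_kernel_of_epi _
  haveI : Mono ((DCoh.tensorBi.obj L).map (ClSub.idealModι Z)) :=
    (CurveTensor.shortExact_tensor hLf _ _ _ hSZ).mono_f
  haveI : Epi ((DCoh.tensorBi.obj L).map (ClSub.toSubscheme J)) :=
    (CurveTensor.shortExact_tensor hLf _ _ _ hSJ).epi_g
  have hTgen : ∀ η ∈ genericPoints X,
      Nonempty ((DerSch.stalkFunctor X η).obj T ≃ₗ[X.presheaf.stalk η] X.presheaf.stalk η) ∧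
        Function.Surjective (st ((DCoh.tensorBi.obj L).map (ClSub.idealModι Z)) η) := by
    intro η hη
    have hsurj : Function.Surjective (st ((DCoh.tensorBi.obj L).map (ClSub.idealModι Z)) η) := by
      intro w
      have hS2 := (CurveTensor.shortExact_tensor hLf _ _ _ hSZ).map_of_exact (DerSch.stalkFunctor X η)
      haveI : Subsingleton ((DerSch.stalkFunctor X η).obj ((DCoh.tensorBi.obj L).obj (ClSub.quotMod Z))) :=
        subsingleton_stalk_iff.2 fun h =>
          CurveTensor.support_tensor_subset h (ParShLib.subsingleton_stalk_quotMod Z (hclZ η hη))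
      obtain ⟨t, ht⟩ := (ShortComplex.moduleCat_exact_iff _).1 hS2.exact w (Subsingleton.elim (α := (DerSch.stalkFunctor X η).obj ((DCoh.tensorBi.obj L).obj (ClSub.quotMod Z))) _ _)
      exact ⟨t, ht⟩
    obtain ⟨l⟩ := H23.InvStalk.exists_stalk_equiv hL η
    exact ⟨⟨(LinearEquiv.ofBijective (st ((DCoh.tensorBi.obj L).map (ClSub.idealModι Z)) η).hom
      ⟨st_injective _ η, hsurj⟩).trans
        (((DerSch.stalkFunctor X η).mapIso (KFlatLib.tensorUnitIso L)).toLinearEquiv.trans l)⟩, hsurj⟩
  have haS : ∀ η ∈ genericPoints X, η ∈ S → Function.Injective (st a η) := by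
    intro η hη hηS
    obtain ⟨⟨l⟩, hsurj⟩ := hTgen η hη
    obtain ⟨z, rfl⟩ : η ∈ Set.range i := by rw [hrange]; exact hηS
    have hs : Function.Surjective (st a (i z)) := by
      intro w
      obtain ⟨w', rfl⟩ := st_surjective ((DCoh.tensorBi.obj L).map (ClSub.toSubscheme J)) (i z) w
      obtain ⟨t, rfl⟩ := hsurj w'
      exact ⟨t, st_comp _ _ _ _⟩
    obtain ⟨e, -⟩ := exists_stalkPushEquiv i z
    obtain ⟨lJ⟩ := H23.InvStalk.exists_stalk_equiv hLJ z
    haveI : Nontrivial ((DerSch.stalkFunctor X (i z)).obj B) := by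
      haveI : Nontrivial ((DerSch.stalkFunctor J.subscheme z).obj LJ) := lJ.toEquiv.nontrivial
      exact ((((DerSch.stalkFunctor X (i z)).mapIso εB).toLinearEquiv.toEquiv).trans (e LJ).toEquiv).nontrivial
    obtain ⟨w, hw⟩ := exists_ne (0 : (DerSch.stalkFunctor X (i z)).obj B)
    obtain ⟨t, rfl⟩ := hs w
    exact injective_of_field (isField_stalk_generic hη) l (st a (i z)).hom hw
  -- the coimage
  have hKφ : kernel.ι a ≫ φ = 0 := by
    refine hom_eq_zero hωc.1 hωtf _ fun η hη v => ?_
    rw [st_comp]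
    by_cases hηS : η ∈ S
    · have h0 : st a η (st (kernel.ι a) η v) = 0 := by rw [← st_comp, kernel.condition, st_zero]
      rw [haS η hη hηS (h0.trans (map_zero _).symm), map_zero]
    · by_contra hv
      exact hηS (Set.mem_biUnion (x := η) ⟨hη, _, hv⟩ (subset_closure rfl))
  let G : X.Modules := cokernel (kernel.ι a)
  let π : T ⟶ G := cokernel.π (kernel.ι a)
  let m : G ⟶ B := Abelian.factorThruCoimage a
  haveI : Mono m := inferInstance
  have hπm : π ≫ m = a := Abelian.coimage.fac a
  let φb : G ⟶ ω := cokernel.desc _ φ hKφ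
  have hπφ : π ≫ φb = φ := cokernel.π_desc _ _ _
  have hBc : Coh.IsCoh B := hT _ (hQ J)
  have hKc : Coh.IsCoh (kernel a) := QCoh.isCoh_kernel hTc hBc a
  have hGc : Coh.IsCoh G := QCoh.isCoh_cokernel hKc.1 hTc _
  haveI hu : IsIso ((Scheme.Modules.pullbackPushforwardAdjunction i).unit.app G) :=
    isIso_unit_of_mono i m hGc.1 (ProjUPX.isQCoh_of_isInvertible hLJ) εB
  let Nm := (Scheme.Modules.pullback i).obj G
  let u : G ≅ (Scheme.Modules.pushforward i).obj Nm :=
    asIso ((Scheme.Modules.pullbackPushforwardAdjunction i).unit.app G)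
  let ψ : Nm ⟶ (shriek i).obj ω := (shriekAdj i).homEquiv Nm ω (u.inv ≫ φb)
  have hGgen : ∀ η ∈ genericPoints X, ∀ v : (DerSch.stalkFunctor X η).obj G, st φb η v = 0 → v = 0 := by
    intro η hη v hv
    by_cases hηS : η ∈ S
    · obtain ⟨t, rfl⟩ := st_surjective π η v
      rw [← st_comp, hπφ] at hv
      obtain ⟨w, hw⟩ := (hmem η hη hηS).2
      obtain ⟨l⟩ := (hTgen η hη).1
      rw [injective_of_field (isField_stalk_generic hη) l (st φ η).hom hw (hv.trans (map_zero _).symm), map_zero]
    · exact st_injective m η ((hB0 η hηS _).trans (map_zero _).symm)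
  haveI : Mono φb := Preadditive.mono_of_kernel_zero (IsZero.eq_of_src (by
    refine (IsZero.iff_id_eq_zero _).2 ?_
    rw [← cancel_mono (kernel.ι φb), Category.id_comp, zero_comp]
    refine hom_eq_zero hGc.1 (torsionFree_of_mono m hBtf) _ fun η hη v => hGgen η hη _ ?_
    rw [← st_comp, kernel.condition, st_zero]) _ _)
  have hψ : (Scheme.Modules.pushforward i).map ψ ≫ (shriekAdj i).counit.app ω = u.inv ≫ φb := by
    exact ((shriekAdj i).homEquiv_counit _ _ ψ).symm.trans (Equiv.symm_apply_apply _ _)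
  haveI : Mono ψ := by
    haveI : Mono ((Scheme.Modules.pushforward i).map ψ ≫ (shriekAdj i).counit.app ω) := by
      rw [hψ]; exact mono_comp _ _
    haveI : Mono ((Scheme.Modules.pushforward i).map ψ) := mono_of_mono _ ((shriekAdj i).counit.app ω)
    haveI := AmpleVan.faithful_push i
    exact (Scheme.Modules.pushforward i).mono_of_mono_map (f := ψ) inferInstance
  -- connectedness, by minimality
  haveI hconn : ConnectedSpace J.subscheme := by
    haveI : Nonempty J.subscheme := by
      obtain ⟨z, -⟩ : η₀ ∈ Set.range i := by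
        rw [hrange]; exact Set.mem_biUnion hη₀ (subset_closure rfl)
      exact ⟨z⟩
    refine connectedSpace_iff_clopen.2 ⟨inferInstance, fun Y hY => ?_⟩
    by_contra hne
    rw [not_or] at hne
    obtain ⟨y, hy⟩ := Set.nonempty_iff_ne_empty.2 hne.1
    obtain ⟨y', hy'⟩ := (Set.ne_univ_iff_exists_notMem Y).1 hne.2
    have key : ∀ z : J.subscheme, ∃ g, g ⤳ z ∧ g ∈ genericPoints J.subscheme := fun z => by
      obtain ⟨g, hg, hmax⟩ := VarDim.exists_maximal_generalization (J.subscheme ↘ Spec (CommRingCat.of k)) z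
      exact ⟨g, hg, VarDim.closure_mem_irreducibleComponents hmax⟩
    obtain ⟨g, hgy, hg⟩ := key y
    obtain ⟨g', hgy', hg'⟩ := key y'
    have hgY : g ∈ Y := hgy.mem_open hY.isOpen hy
    have hgY' : g' ∉ Y := fun h => hy' (hgy'.mem_closed hY.isClosed h)
    obtain ⟨ε, hε, hεY⟩ := HensCouple7.exists_idempotent_of_isClopen hY
    let ee : G ⟶ G := u.hom ≫ (Scheme.Modules.pushforward i).map (LCZLib.smulHom ε Nm) ≫ u.inv
    have hee : ∀ (z : J.subscheme) (v : (DerSch.stalkFunctor X (i z)).obj G),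
        (z ∈ Y → st ee (i z) v = v) ∧ (z ∉ Y → st ee (i z) v = 0) := by
      intro z v
      obtain ⟨e, he⟩ := exists_stalkPushEquiv i z
      have hcases := germ_idempotent hε z
      constructor
      · intro hz
        have h' : z ∈ J.subscheme.basicOpen ε := by rw [← SetLike.mem_coe, hεY]; exact hz
        have : st ((Scheme.Modules.pushforward i).map (LCZLib.smulHom ε Nm)) (i z) (st u.hom (i z) v) =
            st u.hom (i z) v := (e Nm).injective (by
          rw [he, st_smulHom, hcases.1 h', one_smul])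
        rw [st_comp, st_comp, this, ← st_comp, u.hom_inv_id, st_id]
      · intro hz
        have h' : z ∉ J.subscheme.basicOpen ε := by rw [← SetLike.mem_coe, hεY]; exact hz
        have : st ((Scheme.Modules.pushforward i).map (LCZLib.smulHom ε Nm)) (i z) (st u.hom (i z) v) = 0 :=
          (e Nm).injective (by rw [he, st_smulHom, hcases.2 h', zero_smul, map_zero])
        rw [st_comp, st_comp, this, map_zero]
    let φ' : T ⟶ ω := π ≫ ee ≫ φb
    have hgS : i g ∈ genericPoints X ∧ i g ∈ S :=
      ⟨map_mem_genericPoints hScl hSs hg, hrange ▸ Set.mem_range_self g⟩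
    have hgS' : i g' ∈ genericPoints X ∧ i g' ∈ S :=
      ⟨map_mem_genericPoints hScl hSs hg', hrange ▸ Set.mem_range_self g'⟩
    have hne' : φ' ≠ 0 := fun h0 => by
      obtain ⟨w, hw⟩ := (hmem _ hgS.1 hgS.2).2
      refine hw ?_
      rw [← hπφ, st_comp, ← (hee g (st π (i g) w)).1 hgY, ← st_comp, ← st_comp]
      show st φ' (i g) w = 0
      rw [h0, st_zero]
    have hsub : Sg φ' ⊆ Sg φ \ {i g'} := by
      rintro η ⟨hη, v, hv⟩
      have hv' : st φb η (st ee η (st π η v)) ≠ 0 := by rwa [← st_comp, ← st_comp]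
      have hηS : η ∈ S := by
        by_contra hn
        refine hv' ?_
        rw [st_injective m η ((hB0 η hn (st m η (st π η v))).trans (map_zero _).symm), map_zero, map_zero]
      refine ⟨hmem η hη hηS, fun he => hv' ?_⟩
      rw [Set.mem_singleton_iff] at he
      subst he
      rw [(hee g' (st π (i g') v)).2 hgY', map_zero]
    have hlt : (Sg φ').ncard < (Sg φ).ncard :=
      lt_of_le_of_lt (Set.ncard_le_ncard hsub (hfinG.subset Set.diff_subset))
        (Set.ncard_diff_singleton_lt_of_mem (hmem _ hgS'.1 hgS'.2) hfinG)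
    exact absurd (hmin φ' hne') (not_le.2 hlt)
  refine ⟨J, hJred, hconn, hJdim, ?_⟩
  -- the inequality
  haveI : CompactSpace J.subscheme := i.isClosedEmbedding.compactSpace
  haveI : IsNoetherian J.subscheme := {}
  obtain ⟨t, ht⟩ := exists_isRDualOver_shriek i rfl hω hωc
  obtain ⟨hωJc, -, hωJ1⟩ := isTF1_dualizing hJdim hJX ht
  have hNc : Coh.IsCoh Nm := ZClosLib.isCoh_pullback _ hGc
  have hNω : Curv2.euler k J.subscheme Nm ≤ - Curv2.euler k J.subscheme (Coh.structureModule J.subscheme) := by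
    rw [← euler_dualizing hJdim (cm_of_reduced k hJX) ht]
    refine (CurveCohLib.euler_le_of_mono (k := k) ψ hNc hωJc fun z hz => ?_).1
    refine isClosed_singleton_of_notMem hJdim.le fun hzg => hz ?_
    have hz' : i z ∈ genericPoints X := map_mem_genericPoints hScl hSs hzg
    obtain ⟨w, hw⟩ := (hmem _ hz' (hrange ▸ Set.mem_range_self z)).2
    obtain ⟨e, -⟩ := exists_stalkPushEquiv i z
    have hne : (e Nm (st u.hom (i z) (st π (i z) w))) ≠ 0 := by
      intro h
      refine hw ?_
      rw [← hπφ, st_comp, st_injective u.hom (i z) (((e Nm).injective (h.trans (map_zero _).symm)).trans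
        (map_zero _).symm), map_zero]
    obtain ⟨lω⟩ := hωJ1 z hzg
    have hsurj := surjective_of_field (isField_stalk_generic hzg) lω (st ψ z).hom
      (fun h => hne (st_injective ψ z (h.trans (map_zero _).symm)))
    haveI : Epi ((DerSch.stalkFunctor J.subscheme z).map ψ) := (ModuleCat.epi_iff_surjective _).2 hsurj
    exact ModuleCat.subsingleton_of_isZero ((isZero_cokernel_of_epi
      ((DerSch.stalkFunctor J.subscheme z).map ψ)).of_iso
        (PreservesCokernel.iso (DerSch.stalkFunctor J.subscheme z) ψ))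
  have hGe : Curv2.euler k X G = Curv2.euler k J.subscheme Nm :=
    (Euler.euler_congr k u).trans (AmpleDev.euler_push k i rfl hNc.1)
  -- `χ(G)`
  have hSG : (ShortComplex.mk m (cokernel.π m) (cokernel.condition m)).ShortExact :=
    { exact := ShortComplex.exact_of_g_is_cokernel _ (cokernelIsCokernel m) }
  have e1 := CurveBundle.euler_add' k _ _ _ hSG hGc hBc (QCoh.isCoh_cokernel hGc.1 hBc _)
  -- the cokernel of the restriction map
  obtain ⟨q, hq⟩ := (haveI := epi_toSubscheme J; exists_quotMap (I := J) (I' := Z ⊔ J) le_sup_right)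
  have hw2 : (ClSub.idealModι Z ≫ ClSub.toSubscheme J) ≫ q = 0 := by
    refine QCoh.hom_eq_zero_of_affine _ fun W hW s => ?_
    have h2 := idealModι_app_mem Z ⟨W, hW⟩ s
    have h3 : (ClSub.toSubscheme (Z ⊔ J)).app W ((ClSub.idealModι Z).app W s) = 0 :=
      (mem_ideal_iff (Z ⊔ J) ⟨W, hW⟩ _).2 ((le_sup_left : Z ≤ Z ⊔ J) ⟨W, hW⟩ h2)
    rw [← hq] at h3
    exact h3
  haveI : Epi q := by
    haveI := epi_toSubscheme (Z ⊔ J)
    exact epi_of_epi_fac hq
  have hlimq : Nonempty (IsColimit (CokernelCofork.ofπ q hw2)) := by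
    refine ⟨CokernelCofork.IsColimit.ofπ' q hw2 fun {A} g hg => ?_⟩
    haveI := epi_toSubscheme (Z ⊔ J)
    haveI := epi_toSubscheme J
    have hker : kernel.ι (ClSub.toSubscheme (Z ⊔ J)) ≫ ClSub.toSubscheme J ≫ g = 0 := by
      refine QCoh.hom_eq_zero_of_affine _ fun W hW s => ?_
      have hs := idealModι_app_mem (Z ⊔ J) ⟨W, hW⟩ s
      rw [Scheme.IdealSheafData.ideal_sup] at hs
      obtain ⟨z, hz, j, hj, hzj⟩ := Submodule.mem_sup.1 hs
      show g.app W ((ClSub.toSubscheme J).app W ((ClSub.idealModι (Z ⊔ J)).app W s)) = 0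
      rw [show (ClSub.idealModι (Z ⊔ J)).app W s = (show Γ(Coh.structureModule X, W) from z) +
        (show Γ(Coh.structureModule X, W) from j) from hzj.symm, map_add,
        (mem_ideal_iff J ⟨W, hW⟩ j).2 hj, add_zero]
      obtain ⟨z', hz'⟩ := exists_idealMod_section Z ⟨W, hW⟩ hz
      rw [← hz']
      exact congr(($hg).app W z')
    refine ⟨Abelian.epiDesc (ClSub.toSubscheme (Z ⊔ J)) (ClSub.toSubscheme J ≫ g) hker, ?_⟩
    rw [← cancel_epi (ClSub.toSubscheme J), reassoc_of% hq, Abelian.comp_epiDesc]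
  have hcok : Curv2.euler k X (cokernel m) = (Module.finrank k (Coh.HH X (ClSub.quotMod (Z ⊔ J)) 0) : ℤ) := by
    have hsupp : ∀ x ∈ CohB1.support (ClSub.quotMod (Z ⊔ J)), IsClosed ({x} : Set X) := fun x hx => by
      have hx' : x ∈ ((Z ⊔ J).support : Set X) := by
        by_contra h
        exact hx (ParShLib.subsingleton_stalk_quotMod _ h)
      rw [Scheme.IdealSheafData.support_sup] at hx'
      exact isClosed_of_dim_zero k Z hZ hx'.1
    haveI : PreservesFiniteColimits (DCoh.tensorBi.obj L) := preservesFiniteColimits_tensor L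
    obtain ⟨hl⟩ := hlimq
    have hl2 := CokernelCofork.mapIsColimit _ hl (DCoh.tensorBi.obj L)
    let c1 : cokernel ((DCoh.tensorBi.obj L).map (ClSub.idealModι Z ≫ ClSub.toSubscheme J)) ≅
        (DCoh.tensorBi.obj L).obj (ClSub.quotMod (Z ⊔ J)) :=
      (cokernelIsCokernel _).coconePointUniqueUpToIso hl2
    let c2 : cokernel m ≅ cokernel a :=
      (cokernelEpiComp π m).symm ≪≫ cokernelIsoOfEq hπm
    let c3 : cokernel a ≅ cokernel ((DCoh.tensorBi.obj L).map (ClSub.idealModι Z ≫ ClSub.toSubscheme J)) :=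
      cokernelIsoOfEq ((DCoh.tensorBi.obj L).map_comp _ _).symm
    rw [Euler.euler_congr k (c2 ≪≫ c3 ≪≫ c1), CurveTensor.euler_tensor_torsion (k := k)
      (InvEnd.isFinLocFreeOfRank_one hL) (hQ (Z ⊔ J)) hsupp, CurveCohLib.euler_eq_finrank_zero (hQ (Z ⊔ J)) hsupp]
    simp
  have eB : Curv2.euler k X B = @Curv2.deg k _ J.subscheme ⟨i ≫ (X ↘ Spec (CommRingCat.of k))⟩
      ((Scheme.Modules.pullback i).obj L) 1 + Curv2.euler k J.subscheme (Coh.structureModule J.subscheme) := by
    have h := AmpleDev.euler_sub_eq_deg k J hL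
    rw [← Euler.euler_congr k cm, AmpleDev.euler_push k i rfl QCoh.isQCoh_structureModule] at h
    have h' : Curv2.euler k X B - Curv2.euler k J.subscheme (Coh.structureModule J.subscheme) =
        @Curv2.deg k _ J.subscheme ⟨i ≫ (X ↘ Spec (CommRingCat.of k))⟩ ((Scheme.Modules.pullback i).obj L) 1 := h
    linarith
  rw [hcok, eB, hGe] at e1
  linarith

/-- The case of the invertible module itself. -/
theorem subsingleton_H1_of_subcurves [IsReduced X] (hdim : topologicalKrullDim X = 1) (hX : Proj16.ClosedDimOne X)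
    {L : X.Modules} (hL : PicF.IsInvertible L)
    (hdeg : ∀ J : X.IdealSheafData, IsReduced J.subscheme → ConnectedSpace J.subscheme →
      topologicalKrullDim J.subscheme = 1 →
      -2 * @Curv2.euler k _ J.subscheme ⟨J.subschemeι ≫ (X ↘ Spec (CommRingCat.of k))⟩
          (Coh.structureModule J.subscheme) <
        @Curv2.deg k _ J.subscheme ⟨J.subschemeι ≫ (X ↘ Spec (CommRingCat.of k))⟩
          ((Scheme.Modules.pullback J.subschemeι).obj L) 1) :
    Subsingleton (Coh.HH X L 1) := by
  rw [← not_nontrivial_iff_subsingleton]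
  intro h1
  obtain ⟨N, ι, hι, hιf⟩ := exists_embedding (k := k) hdim.le
  haveI := hι
  obtain ⟨ω, tr, -, hω⟩ := exists_isCoh_isRDualOver k N 1 X ι hιf (by exact_mod_cast hdim.le)
  have hempty : ∀ x : X, x ∉ ((⊤ : X.IdealSheafData).support : Set X) := fun x hx => by
    rw [Scheme.IdealSheafData.support_top] at hx
    exact hx
  haveI hq : IsIso (ClSub.idealModι (⊤ : X.IdealSheafData)) := by
    haveI : Mono (ClSub.idealModι (⊤ : X.IdealSheafData)) := inferInstanceAs (Mono (kernel.ι _))
    have h0 : IsZero (ClSub.quotMod (⊤ : X.IdealSheafData)) :=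
      CurveCohLib.isZero_of_subsingleton_stalks fun x => ParShLib.subsingleton_stalk_quotMod _ (hempty x)
    haveI : Epi (ClSub.idealModι (⊤ : X.IdealSheafData)) := by
      rw [show ClSub.idealModι (⊤ : X.IdealSheafData) = kernel.ι (ClSub.toSubscheme _) from rfl]
      haveI : IsIso (kernel.ι (ClSub.toSubscheme (⊤ : X.IdealSheafData))) := by
        rw [h0.eq_of_tgt (ClSub.toSubscheme (⊤ : X.IdealSheafData)) 0]
        infer_instance
      infer_instance
    exact isIso_of_mono_of_epi _
  let e : CurveCohLib.Nonspecial.twist ⊤ L ≅ L :=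
    (DCoh.tensorBi.obj L).mapIso (asIso (ClSub.idealModι (⊤ : X.IdealSheafData))) ≪≫ KFlatLib.tensorUnitIso L
  haveI : Nontrivial (Coh.HH X (CurveCohLib.Nonspecial.twist ⊤ L) 1) :=
    (CurveCohLib.hhEquiv (k := k) e 1).toEquiv.nontrivial
  have hdim0 : topologicalKrullDim ((⊤ : X.IdealSheafData).support : Set X) ≤ 0 := by
    rw [Scheme.IdealSheafData.support_top]
    haveI : IsEmpty ((⊥ : TopologicalSpace.Closeds X) : Set X) := ⟨fun x => x.2⟩
    haveI : IsEmpty (TopologicalSpace.IrreducibleCloseds ((⊥ : TopologicalSpace.Closeds X) : Set X)) :=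
      ⟨fun C => C.isIrreducible.nonempty.elim fun x _ => isEmptyElim x⟩
    exact (Order.krullDim_eq_bot_iff.2 inferInstance).trans_le bot_le
  obtain ⟨J, h₁, h₂, h₃, h₄⟩ := exists_subcurve_deg_le hdim hX hω hL ⊤ hdim0 inferInstance
  have h0 : Module.finrank k (Coh.HH X (ClSub.quotMod (⊤ ⊔ J)) 0) = 0 := by
    rw [top_sup_eq]
    exact CurveCohLib.finrank_HH_zero_eq_zero_of_isZero
      (CurveCohLib.isZero_of_subsingleton_stalks fun x => ParShLib.subsingleton_stalk_quotMod _ (hempty x))
  rw [h0] at h₄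
  have := hdeg J h₁ h₂ h₃
  push_cast at h₄
  linarith

end

end Groth.Agent.CanonDual
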