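import Groth.Agent.CanonDual.H1Crit

/-!
# The subcurve criterion for the vanishing of `H¹` of a submodule
-/

set_option autoImplicit false
set_option linter.style.haveILetI false
set_option linter.unusedSectionVars false
set_option backward.isDefEq.respectTransparency false
set_option backward.isDefEq.respectTransparency.types false

universe u

open CategoryTheory CategoryTheory.Limits AlgebraicGeometry TopologicalSpace Opposite

attribute [local instance] HasDerivedCategory.standard

noncomputable section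

namespace Groth.Agent.CanonDual

open Groth.Agent ExtShX.ClosedHom TFQuot

variable {k : Type u} [Field k] {X : Scheme.{u}} [X.Over (Spec (CommRingCat.of k))]
  [IsProper (X ↘ Spec (CommRingCat.of k))]

/-- A submodule of colength `n` with nonvanishing `H¹` forces a connected subcurve of small degree. -/
theorem exists_subcurve_deg_le_sub [IsReduced X] (hdim : topologicalKrullDim X = 1) (hX : Proj16.ClosedDimOne X)
    {L T : X.Modules} (hL : PicF.IsInvertible L) (j : T ⟶ L) [Mono j] (hTc : Coh.IsCoh T)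
    (hgen : ∀ η ∈ genericPoints X, Function.Surjective (st j η))
    (h1 : Nontrivial (Coh.HH X T 1)) :
    ∃ J : X.IdealSheafData, IsReduced J.subscheme ∧ ConnectedSpace J.subscheme ∧
      topologicalKrullDim J.subscheme = 1 ∧
      @Curv2.deg k _ J.subscheme ⟨J.subschemeι ≫ (X ↘ Spec (CommRingCat.of k))⟩
          ((Scheme.Modules.pullback J.subschemeι).obj L) 1 ≤
        -2 * @Curv2.euler k _ J.subscheme ⟨J.subschemeι ≫ (X ↘ Spec (CommRingCat.of k))⟩
            (Coh.structureModule J.subscheme) + (Curv2.euler k X L - Curv2.euler k X T) := by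
  classical
  haveI : IsLocallyNoetherian X := LocallyOfFiniteType.isLocallyNoetherian (X ↘ Spec (CommRingCat.of k))
  haveI : CompactSpace X := QuasiCompact.compactSpace_of_compactSpace (X ↘ Spec (CommRingCat.of k))
  haveI : IsNoetherian X := { __ := ‹IsLocallyNoetherian X›, __ := ‹CompactSpace X› }
  obtain ⟨N, ι, hι, hιf⟩ := exists_embedding (k := k) hdim.le
  haveI := hι
  obtain ⟨ω, tr, -, hω⟩ := exists_isCoh_isRDualOver k N 1 X ι hιf (by exact_mod_cast hdim.le)
  have hLf : FlatMod.IsFinLocFree L := fun y =>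
    let ⟨W, hy, he⟩ := InvEnd.isFinLocFreeOfRank_one hL y; ⟨W, 1, hy, he⟩
  have hQ : ∀ I : X.IdealSheafData, Coh.IsCoh (ClSub.quotMod I) := fun I => isCoh_quotMod k I
  have hT : ∀ F : X.Modules, Coh.IsCoh F → Coh.IsCoh ((DCoh.tensorBi.obj L).obj F) := fun F hF =>
    CurveTensor.isCoh_tensor hLf hF
  obtain ⟨hωc, hωtf, -⟩ := isTF1_dualizing hdim hX hω
  -- generic points of the support
  let Sg : (T ⟶ ω) → Set X := fun φ => {η | η ∈ genericPoints X ∧ ∃ v, st φ η v ≠ 0}
  have hex : ∃ n : ℕ, ∃ φ : T ⟶ ω, φ ≠ 0 ∧ (Sg φ).ncard = n := by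
    haveI : Nontrivial (T ⟶ ω) := not_subsingleton_iff_nontrivial.1 fun hs =>
      not_subsingleton _ ((subsingleton_hom_iff hω hTc.1).1 hs)
    obtain ⟨φ, hφ⟩ := exists_ne (0 : T ⟶ ω)
    exact ⟨_, φ, hφ, rfl⟩
  obtain ⟨φ, hφ, hcard⟩ := Nat.find_spec hex
  have hmin : ∀ φ' : T ⟶ ω, φ' ≠ 0 → (Sg φ).ncard ≤ (Sg φ').ncard := fun φ' h' => by
    rw [hcard]; exact Nat.find_min' hex ⟨φ', h', rfl⟩
  obtain ⟨η₀, hη₀⟩ : (Sg φ).Nonempty := by
    by_contra hne
    refine hφ (hom_eq_zero hωc.1 hωtf φ fun η hη v => ?_)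
    by_contra hv
    exact hne ⟨η, hη, v, hv⟩
  have hfinG : (Sg φ).Finite := finite_genericPoints.subset fun η h => h.1
  let S : Set X := ⋃ η ∈ Sg φ, closure {η}
  have hScl : IsClosed S := hfinG.isClosed_biUnion fun η _ => isClosed_closure
  have hSs : VecSt.IsSubcurve X S := by
    refine ⟨(fun η => closure {η}) '' Sg φ, ?_, ⟨_, ⟨η₀, hη₀, rfl⟩⟩, by simp [S, Set.sUnion_image]⟩
    rintro _ ⟨η, hη, rfl⟩
    exact hη.1
  have hmem : ∀ η ∈ genericPoints X, η ∈ S → η ∈ Sg φ := fun η hη hηS => by
    obtain ⟨η', hη', h⟩ := Set.mem_iUnion₂.1 hηS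
    rwa [← eq_of_specializes_generic hη (specializes_iff_mem_closure.2 h)]
  let J : X.IdealSheafData := Scheme.IdealSheafData.vanishingIdeal ⟨S, hScl⟩
  let i := J.subschemeι
  have hrange : Set.range i = S := range_subschι S hScl
  haveI hJred : IsReduced J.subscheme := isReduced_subsch S hScl
  letI : J.subscheme.Over (Spec (CommRingCat.of k)) := ⟨i ≫ (X ↘ Spec (CommRingCat.of k))⟩
  haveI : IsProper (J.subscheme ↘ Spec (CommRingCat.of k)) := inferInstanceAs (IsProper (i ≫ _))
  haveI : IsLocallyNoetherian J.subscheme := LocallyOfFiniteType.isLocallyNoetherian i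
  have hJX : Proj16.ClosedDimOne J.subscheme := closedDimOne_subcurve k hX hScl hSs
  have hJdim : topologicalKrullDim J.subscheme = 1 := by
    refine le_antisymm (i.isClosedEmbedding.isInducing.topologicalKrullDim_le.trans hdim.le) ?_
    rw [show (1 : WithBot ℕ∞) = ((1 : ℕ) : WithBot ℕ∞) from rfl, ← components_dim_one k hX _ hη₀.1]
    let e : J.subscheme ≃ₜ S := i.isClosedEmbedding.isEmbedding.toHomeomorph.trans (Homeomorph.setCongr hrange)
    rw [e.isHomeomorph.topologicalKrullDim_eq]
    exact (Topology.IsEmbedding.inclusion (show closure {η₀} ⊆ S from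
      Set.subset_biUnion_of_mem (u := fun η => closure ({η} : Set X)) hη₀)).isInducing.topologicalKrullDim_le
  -- the restriction map
  let B := (DCoh.tensorBi.obj L).obj (ClSub.quotMod J)
  let r : L ⟶ B := (KFlatLib.tensorUnitIso L).inv ≫ (DCoh.tensorBi.obj L).map (ClSub.toSubscheme J)
  let a : T ⟶ B := j ≫ r
  obtain ⟨pe⟩ := AmpleDev.push_tensor_iso i hL (Coh.structureModule J.subscheme)
  let LJ : J.subscheme.Modules := CohB1.tensorMod (Coh.structureModule J.subscheme) ((Scheme.Modules.pullback i).obj L)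
  have hLJ : PicF.IsInvertible LJ :=
    InvX.isInvertible_tensorMod InvX.isInvertible_structureModule (PicClLib.isInvertible_pullback _ hL)
  obtain ⟨cm⟩ := H23.PicMul.comm L (ClSub.quotMod J)
  let εB : B ≅ (Scheme.Modules.pushforward i).obj LJ := cm ≪≫ pe
  have hBtf : TorSh.IsTorsionFree B := by
    haveI : Mono εB.hom := inferInstance
    exact torsionFree_of_mono εB.hom
      (torsionFree_push hScl hSs (ProjUPX.isQCoh_of_isInvertible hLJ) (torsionFree_invertible hLJ))
  have hB0 : ∀ η ∉ S, ∀ v : (DerSch.stalkFunctor X η).obj B, v = 0 := fun η hη v => by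
    refine st_injective εB.hom η ?_
    rw [map_zero]
    exact push_stalk_eq_zero (hZ := hScl) LJ hη _
  have hSJ : (ShortComplex.mk (ClSub.idealModι J) (ClSub.toSubscheme J) (kernel.condition _)).ShortExact :=
    haveI := epi_toSubscheme J
    CurveSlope.shortExact_kernel_of_epi _
  haveI : Epi ((DCoh.tensorBi.obj L).map (ClSub.toSubscheme J)) :=
    (CurveTensor.shortExact_tensor hLf _ _ _ hSJ).epi_g
  haveI : Epi r := epi_comp _ _
  have hTgen : ∀ η ∈ genericPoints X,
      Nonempty ((DerSch.stalkFunctor X η).obj T ≃ₗ[X.presheaf.stalk η] X.presheaf.stalk η) ∧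
        Function.Surjective (st j η) := by
    intro η hη
    obtain ⟨l⟩ := H23.InvStalk.exists_stalk_equiv hL η
    exact ⟨⟨(LinearEquiv.ofBijective (st j η).hom ⟨st_injective _ η, hgen η hη⟩).trans l⟩, hgen η hη⟩
  have haS : ∀ η ∈ genericPoints X, η ∈ S → Function.Injective (st a η) := by
    intro η hη hηS
    obtain ⟨⟨l⟩, hsurj⟩ := hTgen η hη
    obtain ⟨z, rfl⟩ : η ∈ Set.range i := by rw [hrange]; exact hηS
    have hs : Function.Surjective (st a (i z)) := by
      intro w
      obtain ⟨w', rfl⟩ := st_surjective r (i z) w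
      obtain ⟨t, rfl⟩ := hsurj w'
      exact ⟨t, st_comp _ _ _ _⟩
    obtain ⟨e, -⟩ := exists_stalkPushEquiv i z
    obtain ⟨lJ⟩ := H23.InvStalk.exists_stalk_equiv hLJ z
    haveI : Nontrivial ((DerSch.stalkFunctor X (i z)).obj B) := by
      haveI : Nontrivial ((DerSch.stalkFunctor J.subscheme z).obj LJ) := lJ.toEquiv.nontrivial
      exact ((((DerSch.stalkFunctor X (i z)).mapIso εB).toLinearEquiv.toEquiv).trans (e LJ).toEquiv).nontrivial
    obtain ⟨w, hw⟩ := exists_ne (0 : (DerSch.stalkFunctor X (i z)).obj B)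
    obtain ⟨t, rfl⟩ := hs w
    exact injective_of_field (isField_stalk_generic hη) l (st a (i z)).hom hw
  -- the coimage
  have hKφ : kernel.ι a ≫ φ = 0 := by
    refine hom_eq_zero hωc.1 hωtf _ fun η hη v => ?_
    rw [st_comp]
    by_cases hηS : η ∈ S
    · have h0 : st a η (st (kernel.ι a) η v) = 0 := by rw [← st_comp, kernel.condition, st_zero]
      rw [haS η hη hηS (h0.trans (map_zero _).symm), map_zero]
    · by_contra hv
      exact hηS (Set.mem_biUnion (x := η) ⟨hη, _, hv⟩ (subset_closure rfl))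
  let G : X.Modules := cokernel (kernel.ι a)
  let π : T ⟶ G := cokernel.π (kernel.ι a)
  let m : G ⟶ B := Abelian.factorThruCoimage a
  haveI : Mono m := inferInstance
  have hπm : π ≫ m = a := Abelian.coimage.fac a
  let φb : G ⟶ ω := cokernel.desc _ φ hKφ
  have hπφ : π ≫ φb = φ := cokernel.π_desc _ _ _
  have hBc : Coh.IsCoh B := hT _ (hQ J)
  have hKc : Coh.IsCoh (kernel a) := QCoh.isCoh_kernel hTc hBc a
  have hGc : Coh.IsCoh G := QCoh.isCoh_cokernel hKc.1 hTc _
  haveI hu : IsIso ((Scheme.Modules.pullbackPushforwardAdjunction i).unit.app G) :=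
    isIso_unit_of_mono i m hGc.1 (ProjUPX.isQCoh_of_isInvertible hLJ) εB
  let Nm := (Scheme.Modules.pullback i).obj G
  let u : G ≅ (Scheme.Modules.pushforward i).obj Nm :=
    asIso ((Scheme.Modules.pullbackPushforwardAdjunction i).unit.app G)
  let ψ : Nm ⟶ (shriek i).obj ω := (shriekAdj i).homEquiv Nm ω (u.inv ≫ φb)
  have hGgen : ∀ η ∈ genericPoints X, ∀ v : (DerSch.stalkFunctor X η).obj G, st φb η v = 0 → v = 0 := by
    intro η hη v hv
    by_cases hηS : η ∈ S
    · obtain ⟨t, rfl⟩ := st_surjective π η v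
      rw [← st_comp, hπφ] at hv
      obtain ⟨w, hw⟩ := (hmem η hη hηS).2
      obtain ⟨l⟩ := (hTgen η hη).1
      rw [injective_of_field (isField_stalk_generic hη) l (st φ η).hom hw (hv.trans (map_zero _).symm), map_zero]
    · exact st_injective m η ((hB0 η hηS _).trans (map_zero _).symm)
  haveI : Mono φb := Preadditive.mono_of_kernel_zero (IsZero.eq_of_src (by
    refine (IsZero.iff_id_eq_zero _).2 ?_
    rw [← cancel_mono (kernel.ι φb), Category.id_comp, zero_comp]
    refine hom_eq_zero hGc.1 (torsionFree_of_mono m hBtf) _ fun η hη v => hGgen η hη _ ?_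
    rw [← st_comp, kernel.condition, st_zero]) _ _)
  have hψ : (Scheme.Modules.pushforward i).map ψ ≫ (shriekAdj i).counit.app ω = u.inv ≫ φb := by
    exact ((shriekAdj i).homEquiv_counit _ _ ψ).symm.trans (Equiv.symm_apply_apply _ _)
  haveI : Mono ψ := by
    haveI : Mono ((Scheme.Modules.pushforward i).map ψ ≫ (shriekAdj i).counit.app ω) := by
      rw [hψ]; exact mono_comp _ _
    haveI : Mono ((Scheme.Modules.pushforward i).map ψ) := mono_of_mono _ ((shriekAdj i).counit.app ω)
    haveI := AmpleVan.faithful_push i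
    exact (Scheme.Modules.pushforward i).mono_of_mono_map (f := ψ) inferInstance
  -- connectedness, by minimality
  haveI hconn : ConnectedSpace J.subscheme := by
    haveI : Nonempty J.subscheme := by
      obtain ⟨z, -⟩ : η₀ ∈ Set.range i := by
        rw [hrange]; exact Set.mem_biUnion hη₀ (subset_closure rfl)
      exact ⟨z⟩
    refine connectedSpace_iff_clopen.2 ⟨inferInstance, fun Y hY => ?_⟩
    by_contra hne
    rw [not_or] at hne
    obtain ⟨y, hy⟩ := Set.nonempty_iff_ne_empty.2 hne.1
    obtain ⟨y', hy'⟩ := (Set.ne_univ_iff_exists_notMem Y).1 hne.2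
    have key : ∀ z : J.subscheme, ∃ g, g ⤳ z ∧ g ∈ genericPoints J.subscheme := fun z => by
      obtain ⟨g, hg, hmax⟩ := VarDim.exists_maximal_generalization (J.subscheme ↘ Spec (CommRingCat.of k)) z
      exact ⟨g, hg, VarDim.closure_mem_irreducibleComponents hmax⟩
    obtain ⟨g, hgy, hg⟩ := key y
    obtain ⟨g', hgy', hg'⟩ := key y'
    have hgY : g ∈ Y := hgy.mem_open hY.isOpen hy
    have hgY' : g' ∉ Y := fun h => hy' (hgy'.mem_closed hY.isClosed h)
    obtain ⟨ε, hε, hεY⟩ := HensCouple7.exists_idempotent_of_isClopen hY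
    let ee : G ⟶ G := u.hom ≫ (Scheme.Modules.pushforward i).map (LCZLib.smulHom ε Nm) ≫ u.inv
    have hee : ∀ (z : J.subscheme) (v : (DerSch.stalkFunctor X (i z)).obj G),
        (z ∈ Y → st ee (i z) v = v) ∧ (z ∉ Y → st ee (i z) v = 0) := by
      intro z v
      obtain ⟨e, he⟩ := exists_stalkPushEquiv i z
      have hcases := germ_idempotent hε z
      constructor
      · intro hz
        have h' : z ∈ J.subscheme.basicOpen ε := by rw [← SetLike.mem_coe, hεY]; exact hz
        have : st ((Scheme.Modules.pushforward i).map (LCZLib.smulHom ε Nm)) (i z) (st u.hom (i z) v) =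
            st u.hom (i z) v := (e Nm).injective (by
          rw [he, st_smulHom, hcases.1 h', one_smul])
        rw [st_comp, st_comp, this, ← st_comp, u.hom_inv_id, st_id]
      · intro hz
        have h' : z ∉ J.subscheme.basicOpen ε := by rw [← SetLike.mem_coe, hεY]; exact hz
        have : st ((Scheme.Modules.pushforward i).map (LCZLib.smulHom ε Nm)) (i z) (st u.hom (i z) v) = 0 :=
          (e Nm).injective (by rw [he, st_smulHom, hcases.2 h', zero_smul, map_zero])
        rw [st_comp, st_comp, this, map_zero]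
    let φ' : T ⟶ ω := π ≫ ee ≫ φb
    have hgS : i g ∈ genericPoints X ∧ i g ∈ S :=
      ⟨map_mem_genericPoints hScl hSs hg, hrange ▸ Set.mem_range_self g⟩
    have hgS' : i g' ∈ genericPoints X ∧ i g' ∈ S :=
      ⟨map_mem_genericPoints hScl hSs hg', hrange ▸ Set.mem_range_self g'⟩
    have hne' : φ' ≠ 0 := fun h0 => by
      obtain ⟨w, hw⟩ := (hmem _ hgS.1 hgS.2).2
      refine hw ?_
      rw [← hπφ, st_comp, ← (hee g (st π (i g) w)).1 hgY, ← st_comp, ← st_comp]
      show st φ' (i g) w = 0
      rw [h0, st_zero]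
    have hsub : Sg φ' ⊆ Sg φ \ {i g'} := by
      rintro η ⟨hη, v, hv⟩
      have hv' : st φb η (st ee η (st π η v)) ≠ 0 := by rwa [← st_comp, ← st_comp]
      have hηS : η ∈ S := by
        by_contra hn
        refine hv' ?_
        rw [st_injective m η ((hB0 η hn (st m η (st π η v))).trans (map_zero _).symm), map_zero, map_zero]
      refine ⟨hmem η hη hηS, fun he => hv' ?_⟩
      rw [Set.mem_singleton_iff] at he
      subst he
      rw [(hee g' (st π (i g') v)).2 hgY', map_zero]
    have hlt : (Sg φ').ncard < (Sg φ).ncard :=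
      lt_of_le_of_lt (Set.ncard_le_ncard hsub (hfinG.subset Set.diff_subset))
        (Set.ncard_diff_singleton_lt_of_mem (hmem _ hgS'.1 hgS'.2) hfinG)
    exact absurd (hmin φ' hne') (not_le.2 hlt)
  refine ⟨J, hJred, hconn, hJdim, ?_⟩
  -- the inequality
  haveI : CompactSpace J.subscheme := i.isClosedEmbedding.compactSpace
  haveI : IsNoetherian J.subscheme := {}
  obtain ⟨t, ht⟩ := exists_isRDualOver_shriek i rfl hω hωc
  obtain ⟨hωJc, -, hωJ1⟩ := isTF1_dualizing hJdim hJX ht
  have hNc : Coh.IsCoh Nm := ZClosLib.isCoh_pullback _ hGc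
  have hNω : Curv2.euler k J.subscheme Nm ≤ - Curv2.euler k J.subscheme (Coh.structureModule J.subscheme) := by
    rw [← euler_dualizing hJdim (cm_of_reduced k hJX) ht]
    refine (CurveCohLib.euler_le_of_mono (k := k) ψ hNc hωJc fun z hz => ?_).1
    refine isClosed_singleton_of_notMem hJdim.le fun hzg => hz ?_
    have hz' : i z ∈ genericPoints X := map_mem_genericPoints hScl hSs hzg
    obtain ⟨w, hw⟩ := (hmem _ hz' (hrange ▸ Set.mem_range_self z)).2
    obtain ⟨e, -⟩ := exists_stalkPushEquiv i z
    have hne : (e Nm (st u.hom (i z) (st π (i z) w))) ≠ 0 := by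
      intro h
      refine hw ?_
      rw [← hπφ, st_comp, st_injective u.hom (i z) (((e Nm).injective (h.trans (map_zero _).symm)).trans
        (map_zero _).symm), map_zero]
    obtain ⟨lω⟩ := hωJ1 z hzg
    have hsurj := surjective_of_field (isField_stalk_generic hzg) lω (st ψ z).hom
      (fun h => hne (st_injective ψ z (h.trans (map_zero _).symm)))
    haveI : Epi ((DerSch.stalkFunctor J.subscheme z).map ψ) := (ModuleCat.epi_iff_surjective _).2 hsurj
    exact ModuleCat.subsingleton_of_isZero ((isZero_cokernel_of_epi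
      ((DerSch.stalkFunctor J.subscheme z).map ψ)).of_iso
        (PreservesCokernel.iso (DerSch.stalkFunctor J.subscheme z) ψ))
  have hGe : Curv2.euler k X G = Curv2.euler k J.subscheme Nm :=
    (Euler.euler_congr k u).trans (AmpleDev.euler_push k i rfl hNc.1)
  -- `χ(G)`
  have hSG : (ShortComplex.mk m (cokernel.π m) (cokernel.condition m)).ShortExact :=
    { exact := ShortComplex.exact_of_g_is_cokernel _ (cokernelIsCokernel m) }
  have e1 := CurveBundle.euler_add' k _ _ _ hSG hGc hBc (QCoh.isCoh_cokernel hGc.1 hBc _)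
  -- the cokernel of the restriction map
  have hLc := CurveDeg.isCoh_of_isInvertible hL
  have hQc : Coh.IsCoh (cokernel j) := QCoh.isCoh_cokernel hTc.1 hLc _
  have hsupp : ∀ x ∈ CohB1.support (cokernel j), IsClosed ({x} : Set X) := fun x hx => by
    refine isClosed_singleton_of_notMem hdim.le fun hxg => hx ?_
    haveI : Epi ((DerSch.stalkFunctor X x).map j) := (ModuleCat.epi_iff_surjective _).2 (hgen x hxg)
    exact ModuleCat.subsingleton_of_isZero ((isZero_cokernel_of_epi
      ((DerSch.stalkFunctor X x).map j)).of_iso (PreservesCokernel.iso (DerSch.stalkFunctor X x) j))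
  let p : cokernel j ⟶ cokernel a := cokernel.map j a (𝟙 T) r (Category.id_comp _).symm
  haveI : Epi p := by
    haveI : Epi (cokernel.π j ≫ p) := by
      rw [cokernel.π_desc]
      exact epi_comp _ _
    exact epi_of_epi (cokernel.π j) p
  have hac : Coh.IsCoh (cokernel a) := QCoh.isCoh_cokernel hTc.1 hBc _
  have hcok : Curv2.euler k X (cokernel m) ≤ Curv2.euler k X L - Curv2.euler k X T := by
    have hSj : (ShortComplex.mk j (cokernel.π j) (cokernel.condition j)).ShortExact :=
      { exact := ShortComplex.exact_of_g_is_cokernel _ (cokernelIsCokernel j) }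
    have e2 := CurveBundle.euler_add' k _ _ _ hSj hTc hLc hQc
    have hKp := QCoh.isCoh_kernel hQc hac p
    have e3 := CurveBundle.euler_add' k _ _ _ (CurveSlope.shortExact_kernel_of_epi p) hKp hQc hac
    have h0K : 0 ≤ Curv2.euler k X (kernel p) := by
      rw [CurveCohLib.euler_eq_finrank_zero hKp fun x hx => hsupp x fun hs => hx ?_]
      · exact Int.natCast_nonneg _
      · haveI : Subsingleton ((DerSch.stalkFunctor X x).obj (cokernel j)) := hs
        exact (Function.Injective.subsingleton (α := ((DerSch.stalkFunctor X x).obj (kernel p) : Type u))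
          (st_injective (kernel.ι p) x))
    let c2 : cokernel m ≅ cokernel a := (cokernelEpiComp π m).symm ≪≫ cokernelIsoOfEq hπm
    rw [Euler.euler_congr k c2]
    linarith
  have eB : Curv2.euler k X B = @Curv2.deg k _ J.subscheme ⟨i ≫ (X ↘ Spec (CommRingCat.of k))⟩
      ((Scheme.Modules.pullback i).obj L) 1 + Curv2.euler k J.subscheme (Coh.structureModule J.subscheme) := by
    have h := AmpleDev.euler_sub_eq_deg k J hL
    rw [← Euler.euler_congr k cm, AmpleDev.euler_push k i rfl QCoh.isQCoh_structureModule] at h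
    have h' : Curv2.euler k X B - Curv2.euler k J.subscheme (Coh.structureModule J.subscheme) =
        @Curv2.deg k _ J.subscheme ⟨i ≫ (X ↘ Spec (CommRingCat.of k))⟩ ((Scheme.Modules.pullback i).obj L) 1 := h
    linarith
  rw [eB, hGe] at e1
  linarith

/-- Vanishing of `H¹` for submodules of small colength. -/
theorem subsingleton_H1_of_sub [IsReduced X] (hdim : topologicalKrullDim X = 1) (hX : Proj16.ClosedDimOne X)
    {L T : X.Modules} (hL : PicF.IsInvertible L) (j : T ⟶ L) [Mono j] (hTc : Coh.IsCoh T)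
    (hgen : ∀ η ∈ genericPoints X, Function.Surjective (st j η))
    (hdeg : ∀ J : X.IdealSheafData, IsReduced J.subscheme → ConnectedSpace J.subscheme →
      topologicalKrullDim J.subscheme = 1 →
      -2 * @Curv2.euler k _ J.subscheme ⟨J.subschemeι ≫ (X ↘ Spec (CommRingCat.of k))⟩
          (Coh.structureModule J.subscheme) + (Curv2.euler k X L - Curv2.euler k X T) <
        @Curv2.deg k _ J.subscheme ⟨J.subschemeι ≫ (X ↘ Spec (CommRingCat.of k))⟩
          ((Scheme.Modules.pullback J.subschemeι).obj L) 1) :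
    Subsingleton (Coh.HH X T 1) := by
  rw [← not_nontrivial_iff_subsingleton]
  intro h1
  obtain ⟨J, h₁, h₂, h₃, h₄⟩ := exists_subcurve_deg_le_sub (k := k) hdim hX hL j hTc hgen h1
  exact absurd (hdeg J h₁ h₂ h₃) (not_lt.2 h₄)

end Groth.Agent.CanonDual
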