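import Groth.Agent.ExtShX.HomShLocFree
import Groth.Agent.ExtShX.LinearHom
import Groth.Agent.KZ.QuasiProj
import Groth.Agent.PnVan.HomTw
import Groth.Agent.SheafHomX.Coherent
import Groth.Agent.CanonDual.Curve
import Groth.Prelude

/-!
# Duality with the dual sheaf on curves
-/

set_option autoImplicit false
set_option linter.style.haveILetI false
set_option linter.unusedSectionVars false
set_option backward.isDefEq.respectTransparency false
set_option backward.isDefEq.respectTransparency.types false
set_option maxHeartbeats 1000000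

universe u

open CategoryTheory CategoryTheory.Limits AlgebraicGeometry TopologicalSpace Opposite
open scoped TensorProduct
open Curves

noncomputable section

attribute [local instance] CategoryTheory.Abelian.hasFiniteBiproducts

namespace Groth.Agent.ExtShX

variable {X : Scheme.{u}}

/-- The internal Hom and the sheaf Hom agree on coherent modules. -/
theorem nonempty_hom_iso_homSh_of_coh [IsNoetherian X] (hX : KRR.HasEnoughLocFree X) {L : X.Modules} (hL : Coh.IsCoh L) (G : X.Modules) :
    Nonempty ((SheafHomX.hom L).obj G ≅ RefHull.homSh L G) := by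
  let H := (SheafHomX.hom L).obj G
  let fam : ∀ (U : X.Opens), Γ(H, U) → Γ(RefHull.homSh L G, U) := fun U t =>
    ⟨fun z => phi z.1 L G (H.presheaf.germ U z.1 z.2 t), fun V i m z => by
      refine ⟨V, z.2, 𝟙 V, ((SheafHomX.adj L).counit.app G).app V (KFlatLib.tmSh H L (AModX.res H i.le t) m),
        fun y => ?_⟩
      refine (phi_apply y.1 L G _ _).trans ?_
      rw [← RefX.germ_res H i.le y.2 t]
      refine (congrArg ((DerSch.stalkFunctor X y.1).map ((SheafHomX.adj L).counit.app G)).hom
        (KFlatLib.stalkTensorIso_gm H L V y.2 (AModX.res H i.le t) m)).trans ?_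
      exact DerSch.stalkFunctor_map_germ y.1 _ V y.2 _⟩
  let α : H ⟶ RefHull.homSh L G :=
    ⟨PresheafOfModules.homMk
      { app := fun U => AddCommGrpCat.ofHom
          { toFun := fam U.unop
            map_zero' := RefX.sect_ext fun z => by
              show phi z.1 L G _ = 0
              rw [map_zero]; exact map_zero _
            map_add' := fun a b => RefX.sect_ext fun z => by
              show phi z.1 L G _ = phi z.1 L G _ + phi z.1 L G _
              rw [map_add]; exact map_add _ _ _ }
        naturality := fun {U V} i => by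
          ext t
          refine RefX.sect_ext fun z => ?_
          show phi z.1 L G _ = phi z.1 L G _
          exact congrArg _ (TopCat.Presheaf.germ_res_apply' H.presheaf i z.1 z.2 t) }
      (fun U a t => RefX.sect_ext fun z => by
        show phi z.1 L G _ = X.presheaf.germ U.unop z.1 z.2 a • phi z.1 L G _
        exact (congrArg _ (QCoh.germ_smul' H z.2 a t)).trans (map_smul _ _ _))⟩
  have hev : ∀ x (m : H.presheaf.stalk x), RefHull.evalStalk L G x (stk α x m) = phi x L G m := fun x m => by
    obtain ⟨U, hU, t, rfl⟩ := TopCat.Presheaf.exists_germ_eq H.presheaf m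
    erw [stk_germ α hU t, RefHull.evalStalk_germ]
    rfl
  have hft : CohB1.IsFT L := hL.2
  obtain ⟨E₀, p, hE₀, hp⟩ := hX L hL
  have hK : Coh.IsCoh (kernel p) := QCoh.isCoh_kernel (QCoh.isCoh_iff_isFP.2 (QCoh.isFP_of_isFinLocFree hE₀)) hL p
  obtain ⟨E₁, q, hE₁, hq⟩ := hX (kernel p) hK
  have hphi : ∀ x, Function.Bijective (phi x L G) := fun x => by
    let S : ShortComplex X.Modules := ShortComplex.mk (q ≫ kernel.ι p) p (by simp)
    haveI : Epi S.g := hp
    have hS : S.Exact := by
      let S' : ShortComplex X.Modules := ShortComplex.mk (kernel.ι p) p (kernel.condition p)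
      let φ : S ⟶ S' := { τ₁ := q, τ₂ := 𝟙 _, τ₃ := 𝟙 _ }
      haveI : Epi φ.τ₁ := hq
      haveI : IsIso φ.τ₂ := inferInstanceAs (IsIso (𝟙 E₀))
      haveI : Mono φ.τ₃ := inferInstanceAs (Mono (𝟙 L))
      exact (ShortComplex.exact_iff_of_epi_of_isIso_of_mono φ).2
        (ShortComplex.exact_of_f_is_kernel _ (kernelIsKernel p))
    exact bijective_phi_of_exact x hS G (bijective_phi_of_locFree x hE₀ G) (bijective_phi_of_locFree x hE₁ G).1
  haveI : IsIso α := KFlatLib.isIso_of_stalk _ fun x => by
    refine (ConcreteCategory.isIso_iff_bijective _).2 ⟨fun a b hab => (hphi x).1 ?_, fun v => ?_⟩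
    · rw [← hev, ← hev]; exact congrArg _ hab
    · obtain ⟨m, hm⟩ := (hphi x).2 (RefHull.evalStalk L G x v)
      exact ⟨m, RefX.evalStalk_injective hft x ((hev x m).trans hm)⟩
  exact ⟨asIso α⟩

end Groth.Agent.ExtShX

namespace Groth.Agent.CanonDual

variable (k : Type u) [Field k] {X : Scheme.{u}} [X.Over (Spec (CommRingCat.of k))]
  [IsProper (X ↘ Spec (CommRingCat.of k))]

/-- Tensoring with an invertible module is linear and bijective on morphisms. -/
theorem nonempty_hom_ten_equiv {ω : X.Modules} (hω : PicF.IsInvertible ω) (A B : X.Modules) :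
    Nonempty ((A ⟶ B) ≃ₗ[k] ((SheafHomX.ten ω).obj A ⟶ (SheafHomX.ten ω).obj B)) := by
  haveI : (SheafHomX.ten ω).IsEquivalence := AmpleVan.isEquivalence_tw hω
  let f : (A ⟶ B) →ₗ[k] ((SheafHomX.ten ω).obj A ⟶ (SheafHomX.ten ω).obj B) :=
    { toFun := fun φ => (SheafHomX.ten ω).map φ
      map_add' := fun φ ψ => Functor.map_add _
      map_smul' := fun a φ => by
        show (SheafHomX.ten ω).map (Formal.smulMod k A a ≫ φ) = Formal.smulMod k _ a ≫ (SheafHomX.ten ω).map φ
        rw [Functor.map_comp, SheafHomX.ten_map_smulMod] }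
  exact ⟨LinearEquiv.ofBijective f ⟨(SheafHomX.ten ω).map_injective, (SheafHomX.ten ω).map_surjective⟩⟩

/-- Global sections of the internal Hom, linearly. -/
theorem finrank_hom_eq_h0 {A B C : X.Modules} (e : (SheafHomX.hom A).obj B ≅ C) :
    Module.finrank k (A ⟶ B) = Module.finrank k (Coh.HH X C 0) := by
  obtain ⟨a⟩ := ExtShX.exists_hom_HH0 (A := k) ((SheafHomX.hom A).obj B)
  rw [← (ExtShX.evLin (A := k) A B).finrank_eq, a.finrank_eq]
  exact (CurveCohLib.hhEquiv (k := k) e 0).finrank_eq

/-- Duality for a reflexive sheaf and the twist of its dual. -/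
theorem finrank_dual_tensor (hdim : topologicalKrullDim X ≤ 1) {ω : X.Modules} {tr : Coh.HH X ω 1 →ₗ[k] k}
    (hω : Canon.IsRDualOver k X 1 ω tr) (hinv : PicF.IsInvertible ω) {F : X.Modules} (hF : Coh.IsCoh F) :
    Module.finrank k (Coh.HH X F 1) =
        Module.finrank k (Coh.HH X (CohB1.tensorMod (RefHull.dual F) ω) 0) ∧
      (RefHull.IsReflexive F → Module.finrank k (Coh.HH X F 0) =
        Module.finrank k (Coh.HH X (CohB1.tensorMod (RefHull.dual F) ω) 1)) := by
  haveI := CurveCohLib.isNoetherian_of_proper (k := k) (X := X)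
  obtain ⟨N, ι, hι, -⟩ := exists_embedding (k := k) hdim
  haveI := hι
  haveI : IsProper (CohB1.ProjSpace.toSpec N k) := PnCoh.Chow.isProper_toSpec N k
  letI : (CohB1.ProjSpace N k).Over (Spec (CommRingCat.of k)) := ⟨CohB1.ProjSpace.toSpec N k⟩
  haveI : IsProper (CohB1.ProjSpace N k ↘ Spec (CommRingCat.of k)) := PnCoh.Chow.isProper_toSpec N k
  haveI := CurveCohLib.isNoetherian_of_proper (k := k) (X := CohB1.ProjSpace N k)
  have hX : KRR.HasEnoughLocFree X := KZ.QuasiProj.enough_closed (KZ.QuasiProj.enough_projSpace k N) ι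
  have hO : Coh.IsCoh (Coh.structureModule X) := QCoh.isCoh_structureModule'
  obtain ⟨eD⟩ := ExtShX.nonempty_hom_iso_homSh_of_coh hX hF (Coh.structureModule X)
  have hD : Coh.IsCoh (RefHull.dual F) := SheafHomX.isCoh_of_iso eD (SheafHomX.isCoh_hom hF hO)
  let u : CohB1.tensorMod (Coh.structureModule X) ω ≅ ω := SheafHomX.tenUnitIso ω
  have hinvf : FlatMod.IsFinLocFree ω := KZ.QuasiProj.flf_of_invertible hinv
  refine ⟨?_, fun hr => ?_⟩
  · obtain ⟨e⟩ := PnVan.hom_tensor_iso F (Coh.structureModule X) hinv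
    rw [← finrank_hom hω hF.1]
    exact finrank_hom_eq_h0 k ((SheafHomX.hom F).mapIso u.symm ≪≫ e ≪≫
      PicGrp.tensorModIso eD (Iso.refl ω))
  · obtain ⟨eB⟩ := ExtShX.nonempty_hom_iso_homSh_of_coh hX hD (Coh.structureModule X)
    haveI : IsIso (RefHull.bidualMap F) := hr
    have hωq : Coh.IsQCoh ω := QCoh.isQCoh_of_isFinLocFree hinvf
    have hDq : Coh.IsQCoh (RefHull.dual F) := hD.1
    have hG : Coh.IsQCoh (CohB1.tensorMod (RefHull.dual F) ω) := by
      generalize RefHull.dual F = D at hDq ⊢
      exact KFlatLib.isQCoh_tensor hDq hωq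
    obtain ⟨t⟩ := nonempty_hom_ten_equiv k hinv (RefHull.dual F) (Coh.structureModule X)
    have h1 : Module.finrank k (RefHull.dual F ⟶ Coh.structureModule X) =
        Module.finrank k (CohB1.tensorMod (RefHull.dual F) ω ⟶ CohB1.tensorMod (Coh.structureModule X) ω) := t.finrank_eq
    have h2 : Module.finrank k (CohB1.tensorMod (RefHull.dual F) ω ⟶ CohB1.tensorMod (Coh.structureModule X) ω) =
        Module.finrank k (CohB1.tensorMod (RefHull.dual F) ω ⟶ ω) :=
      (Linear.homCongr k (Iso.refl _) u).finrank_eq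
    rw [← finrank_hom hω hG, ← h2, ← h1]
    exact (finrank_hom_eq_h0 k (eB ≪≫ (asIso (RefHull.bidualMap F)).symm)).symm

end Groth.Agent.CanonDual
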