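import Groth.Agent.CanonDual.Deg
import Groth.Agent.CanonDual.DegSub
import Groth.Agent.CanonDual.GGCrit
import Groth.Agent.AmpleDev.Nef
import Groth.Agent.AmpleVan.Pull
import Groth.Agent.HilbSnap.GeClosed

/-!
# Nef invertible modules on curves and extension of the field
-/

set_option autoImplicit false
set_option linter.style.haveILetI false
set_option linter.unusedSectionVars false
set_option backward.isDefEq.respectTransparency false
set_option backward.isDefEq.respectTransparency.types false

universe u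

open CategoryTheory CategoryTheory.Limits AlgebraicGeometry TopologicalSpace Opposite

attribute [local instance] HasDerivedCategory.standard

noncomputable section

namespace Groth.Agent.CanonDual

open Groth.Agent

theorem deg_restrict_twist {k : Type u} [Field k] {X : Scheme.{u}} [X.Over (Spec (CommRingCat.of k))]
    [IsProper (X ↘ Spec (CommRingCat.of k))] (J : X.IdealSheafData) (hJ : topologicalKrullDim J.subscheme = 1)
    {L A : X.Modules} (hL : PicF.IsInvertible L) (hA : PicF.IsInvertible A) (m : ℕ) :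
    @Curv2.deg k _ J.subscheme ⟨J.subschemeι ≫ (X ↘ Spec (CommRingCat.of k))⟩
        ((Scheme.Modules.pullback J.subschemeι).obj (CohB1.tensorMod (CohB1.tensorPow L m) A)) 1 =
      m * @Curv2.deg k _ J.subscheme ⟨J.subschemeι ≫ (X ↘ Spec (CommRingCat.of k))⟩
          ((Scheme.Modules.pullback J.subschemeι).obj L) 1 +
        @Curv2.deg k _ J.subscheme ⟨J.subschemeι ≫ (X ↘ Spec (CommRingCat.of k))⟩
          ((Scheme.Modules.pullback J.subschemeι).obj A) 1 := by
  rw [← deg_restrict_tensorPow J hJ hL m]
  letI : J.subscheme.Over (Spec (CommRingCat.of k)) := ⟨J.subschemeι ≫ (X ↘ Spec (CommRingCat.of k))⟩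
  haveI : IsProper (J.subscheme ↘ Spec (CommRingCat.of k)) :=
    inferInstanceAs (IsProper (J.subschemeι ≫ (X ↘ Spec (CommRingCat.of k))))
  obtain ⟨e⟩ := H23.PicMul.pull J.subschemeι (CohB1.tensorPow L m) A
  rw [← deg_tensorMod hJ.le (PicClLib.isInvertible_pullback _ (InvX.isInvertible_tensorPow hL m))
    (PicClLib.isInvertible_pullback _ hA)]
  unfold Curv2.deg
  rw [Euler.euler_congr k e]

/-- An invertible module of nonnegative degree on the components stays so after extending the field. -/
theorem deg_pullback_nonneg_of_nef {k : Type u} [Field k] {X : Scheme.{u}} [X.Over (Spec (CommRingCat.of k))]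
    [IsProper (X ↘ Spec (CommRingCat.of k))] (hdim : topologicalKrullDim X ≤ 1) {L : X.Modules}
    (hL : PicF.IsInvertible L)
    (h : ∀ (C : Set X) (hC : C ∈ irreducibleComponents (X : Type u)), topologicalKrullDim C = 1 →
      0 ≤ @Curv2.deg k _ (Scheme.IdealSheafData.vanishingIdeal ⟨C, isClosed_of_mem_irreducibleComponents C hC⟩).subscheme
        ⟨(Scheme.IdealSheafData.vanishingIdeal ⟨C, isClosed_of_mem_irreducibleComponents C hC⟩).subschemeι ≫ (X ↘ Spec (CommRingCat.of k))⟩
        ((Scheme.Modules.pullback (Scheme.IdealSheafData.vanishingIdeal ⟨C, isClosed_of_mem_irreducibleComponents C hC⟩).subschemeι).obj L) 1)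
    {K : Type u} [Field K] [Algebra k K] {X' : Scheme.{u}} [X'.Over (Spec (CommRingCat.of K))]
    [IsProper (X' ↘ Spec (CommRingCat.of K))] {π : X' ⟶ X}
    (hpb : IsPullback π (X' ↘ Spec (CommRingCat.of K)) (X ↘ Spec (CommRingCat.of k))
      (Spec.map (CommRingCat.ofHom (algebraMap k K))))
    (J : X'.IdealSheafData) (hJ : topologicalKrullDim J.subscheme = 1) :
    0 ≤ @Curv2.deg K _ J.subscheme ⟨J.subschemeι ≫ (X' ↘ Spec (CommRingCat.of K))⟩
      ((Scheme.Modules.pullback J.subschemeι).obj ((Scheme.Modules.pullback π).obj L)) 1 := by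
  haveI := CurveCohLib.isNoetherian_of_proper (k := k) (X := X)
  obtain ⟨N, ι, hι, -⟩ := exists_embedding (k := k) hdim
  haveI := hι
  obtain ⟨A, hA⟩ := AmpleVan.exists_ample_of_closedImmersion_projSpace ι
  have hamp : ∀ m : ℕ, CohB1.IsAmple (CohB1.tensorMod (CohB1.tensorPow L m) A) := fun m => by
    refine AmpleDev.isAmple_of_deg_pos_components k hdim
      (InvX.isInvertible_tensorMod (InvX.isInvertible_tensorPow hL m) hA.1) fun C hC hC1 => ?_
    rw [show (X.irreducibleComponentIdeal C hC).radical =
      Scheme.IdealSheafData.vanishingIdeal ⟨C, isClosed_of_mem_irreducibleComponents C hC⟩ from by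
        rw [← Scheme.IdealSheafData.vanishingIdeal_support]; exact congrArg _ (Closeds.ext rfl)]
    set I := Scheme.IdealSheafData.vanishingIdeal ⟨C, isClosed_of_mem_irreducibleComponents C hC⟩
    have hI1 : topologicalKrullDim I.subscheme = 1 := by
      rw [AmpleDev.dim_subscheme k I, show (I.support : Set X) = C from
        I.range_subschemeι.symm.trans (H23.RedSub.range_vanishingIdeal _)]
      exact hC1
    rw [deg_restrict_twist I hI1 hL hA.1]
    letI : I.subscheme.Over (Spec (CommRingCat.of k)) := ⟨I.subschemeι ≫ (X ↘ Spec (CommRingCat.of k))⟩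
    haveI : IsProper (I.subscheme ↘ Spec (CommRingCat.of k)) :=
      inferInstanceAs (IsProper (I.subschemeι ≫ (X ↘ Spec (CommRingCat.of k))))
    exact add_pos_of_nonneg_of_pos (mul_nonneg (Int.natCast_nonneg m) (h C hC hC1))
      (deg_pos_of_ample k hI1 (AmpleDev.isAmple_pullback_finite k I.subschemeι hA))
  have key : ∀ m : ℕ, 0 < @Curv2.deg K _ J.subscheme ⟨J.subschemeι ≫ (X' ↘ Spec (CommRingCat.of K))⟩
      ((Scheme.Modules.pullback J.subschemeι).obj
        (CohB1.tensorMod (CohB1.tensorPow ((Scheme.Modules.pullback π).obj L) m) ((Scheme.Modules.pullback π).obj A))) 1 := by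
    intro m
    obtain ⟨e₁⟩ := H23.PicMul.pull π (CohB1.tensorPow L m) A
    obtain ⟨e₂⟩ := HilbSnap.pullback_tensorPow π L m
    have ha := AmpleX.isAmple_of_iso (e₁ ≪≫ PicGrp.tensorModIso e₂ (Iso.refl _))
      (HilbSnap.isAmple_of_affine_square hpb (hamp m))
    letI : J.subscheme.Over (Spec (CommRingCat.of K)) := ⟨J.subschemeι ≫ (X' ↘ Spec (CommRingCat.of K))⟩
    haveI : IsProper (J.subscheme ↘ Spec (CommRingCat.of K)) :=
      inferInstanceAs (IsProper (J.subschemeι ≫ (X' ↘ Spec (CommRingCat.of K))))
    exact deg_pos_of_ample K hJ (AmpleDev.isAmple_pullback_finite K J.subschemeι ha)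
  by_contra hneg
  push Not at hneg
  set d := @Curv2.deg K _ J.subscheme ⟨J.subschemeι ≫ (X' ↘ Spec (CommRingCat.of K))⟩
      ((Scheme.Modules.pullback J.subschemeι).obj ((Scheme.Modules.pullback π).obj L)) 1 with hd
  set a := @Curv2.deg K _ J.subscheme ⟨J.subschemeι ≫ (X' ↘ Spec (CommRingCat.of K))⟩
      ((Scheme.Modules.pullback J.subschemeι).obj ((Scheme.Modules.pullback π).obj A)) 1 with ha
  have h1 := key a.toNat
  rw [deg_restrict_twist J hJ (PicClLib.isInvertible_pullback π hL) (PicClLib.isInvertible_pullback π hA.1),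
    ← hd, ← ha] at h1
  have h2 : a ≤ (a.toNat : ℤ) := Int.self_le_toNat a
  nlinarith [mul_le_mul_of_nonneg_left (show d ≤ -1 by omega) (Int.natCast_nonneg a.toNat)]

/-- Degrees on the components are at most the total degree, if all are nonnegative. -/
theorem deg_component_le_total {k : Type u} [Field k] {X : Scheme.{u}} [X.Over (Spec (CommRingCat.of k))]
    [IsProper (X ↘ Spec (CommRingCat.of k))] [IsReduced X] [ConnectedSpace X] (hdim : topologicalKrullDim X = 1)
    {L : X.Modules} (hL : PicF.IsInvertible L)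
    (h : ∀ (C : Set X) (hC : C ∈ irreducibleComponents (X : Type u)),
      0 ≤ @Curv2.deg k _ (Scheme.IdealSheafData.vanishingIdeal ⟨C, isClosed_of_mem_irreducibleComponents C hC⟩).subscheme
        ⟨(Scheme.IdealSheafData.vanishingIdeal ⟨C, isClosed_of_mem_irreducibleComponents C hC⟩).subschemeι ≫ (X ↘ Spec (CommRingCat.of k))⟩
        ((Scheme.Modules.pullback (Scheme.IdealSheafData.vanishingIdeal ⟨C, isClosed_of_mem_irreducibleComponents C hC⟩).subschemeι).obj L) 1)
    (C : Set X) (hC : C ∈ irreducibleComponents (X : Type u)) :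
    @Curv2.deg k _ (Scheme.IdealSheafData.vanishingIdeal ⟨C, isClosed_of_mem_irreducibleComponents C hC⟩).subscheme
        ⟨(Scheme.IdealSheafData.vanishingIdeal ⟨C, isClosed_of_mem_irreducibleComponents C hC⟩).subschemeι ≫ (X ↘ Spec (CommRingCat.of k))⟩
        ((Scheme.Modules.pullback (Scheme.IdealSheafData.vanishingIdeal ⟨C, isClosed_of_mem_irreducibleComponents C hC⟩).subschemeι).obj L) 1 ≤
      Curv2.deg k X L 1 := by
  set J := Scheme.IdealSheafData.vanishingIdeal (⊤ : Closeds X) with hJdef
  haveI : IsReduced J.subscheme := H23.RedSub.isReduced_vanishingIdeal _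
  have hr : Set.range J.subschemeι = Set.univ := H23.RedSub.range_vanishingIdeal _
  let e : J.subscheme ≃ₜ X := J.subschemeι.isEmbedding.toHomeomorph.trans ((Homeomorph.setCongr hr).trans (Homeomorph.Set.univ X))
  haveI : ConnectedSpace J.subscheme :=
    connectedSpace_iff_univ.2 (by rw [← e.symm.surjective.range_eq]; exact isConnected_range e.symm.continuous)
  have hJ1 : topologicalKrullDim J.subscheme = 1 := e.isHomeomorph.topologicalKrullDim_eq.trans hdim
  letI : J.subscheme.Over (Spec (CommRingCat.of k)) := ⟨J.subschemeι ≫ (X ↘ Spec (CommRingCat.of k))⟩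
  haveI : IsProper (J.subscheme ↘ Spec (CommRingCat.of k)) :=
    inferInstanceAs (IsProper (J.subschemeι ≫ (X ↘ Spec (CommRingCat.of k))))
  refine ((deg_subcurve_nonneg k hdim.le J (closedDimOne_of_connected k hJ1) hL fun C hC _ => h C hC).2 C hC
    (J.range_subschemeι ▸ hr ▸ Set.subset_univ C)).trans (le_of_eq ?_)
  refine (deg_pullback_eq (k := k) (𝟙 X) (S := (⊤ : Closeds X)) (by simp) hL).symm.trans ?_
  rw [show (⟨𝟙 X ≫ (X ↘ Spec (CommRingCat.of k))⟩ : X.Over (Spec (CommRingCat.of k))) = ‹X.Over (Spec (CommRingCat.of k))› from by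
    simp only [Category.id_comp]; rfl]
  unfold Curv2.deg
  rw [Euler.euler_congr k ((Scheme.Modules.pullbackId X).app L)]
  rfl

end Groth.Agent.CanonDual
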