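import Groth.Agent.CanonDual.NodeCount
import Groth.Agent.CanonDual.Branch
import Groth.Agent.CanonDual.DegSub
import Groth.Agent.AlgSpDec.ElemBranches
import Groth.Agent.CILib.Basic
import Groth.Agent.RegLoc6.Basic
import Groth.Prelude

/-!
# Components through a node, and degrees as sums over components
-/

set_option autoImplicit false
set_option linter.style.haveILetI false
set_option linter.unusedSectionVars false
set_option backward.isDefEq.respectTransparency false
set_option backward.isDefEq.respectTransparency.types false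
set_option maxHeartbeats 1000000

universe u

open CategoryTheory CategoryTheory.Limits AlgebraicGeometry TopologicalSpace IsLocalRing
open Curves

namespace Groth.Agent.CanonDual

/-- An ordinary double point has at most two branches and is not regular. -/
theorem minimalPrimes_le_two_and_not_regular {K : Type u} [Field K] {A : Type u} [CommRing A] [IsLocalRing A]
    [IsNoetherianRing A] [Algebra K A] (h : Curv2.IsOrdDoublePt K A) :
    (minimalPrimes A).encard ≤ 2 ∧ ¬ IsRegularLocalRing A := by
  obtain ⟨e, -⟩ := h
  let ψ : A →+* (MvPowerSeries (Fin 2) K ⧸ Ideal.span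
      {(MvPowerSeries.X 0 * MvPowerSeries.X 1 : MvPowerSeries (Fin 2) K)}) :=
    (e : AdicCompletion (maximalIdeal A) A →+* _).comp (algebraMap A _)
  constructor
  · let p : Fin 2 → Ideal A := fun i => (RingHom.ker (Branch.qaxis (K := K) i)).comap ψ
    refine (Set.encard_le_encard (t := {p 0, p 1}) fun q hq => ?_).trans ((Set.encard_insert_le _ _).trans (by rw [Set.encard_singleton]; norm_num))
    haveI := hq.1.1
    have hp : ∀ i, (p i).IsPrime := fun i => by
      haveI := RingHom.ker_isPrime (Branch.qaxis (K := K) i)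
      exact Ideal.IsPrime.comap ψ
    have hprod : p 0 * p 1 ≤ q := by
      rw [Ideal.mul_le]
      intro a ha b hb
      have hz : ψ (a * b) = 0 := by
        refine Branch.eq_zero_of_qaxis _ fun i => ?_
        rw [map_mul, map_mul]
        fin_cases i
        · show Branch.qaxis 0 (ψ a) * _ = 0
          rw [show Branch.qaxis 0 (ψ a) = 0 from ha, zero_mul]
        · show _ * Branch.qaxis 1 (ψ b) = 0
          rw [show Branch.qaxis 1 (ψ b) = 0 from hb, mul_zero]
      haveI : Module.FaithfullyFlat A (AdicCompletion (maximalIdeal A) A) :=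
        Module.FaithfullyFlat.of_flat_of_isLocalHom
      have h1 : algebraMap A (AdicCompletion (maximalIdeal A) A) (a * b) = 0 :=
        e.injective (hz.trans (map_zero e).symm)
      rw [FaithfulSMul.algebraMap_injective A (AdicCompletion (maximalIdeal A) A) (h1.trans (map_zero _).symm)]
      exact zero_mem q
    rcases (Ideal.IsPrime.mul_le inferInstance).1 hprod with h0 | h0
    · exact Or.inl (le_antisymm (hq.2 ⟨hp 0, bot_le⟩ h0) h0)
    · exact Or.inr (le_antisymm (hq.2 ⟨hp 1, bot_le⟩ h0) h0)
  · intro hreg
    haveI := hreg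
    haveI := CILib.isRegularLocalRing_adicCompletion A
    haveI := RegLoc6.isDomain_of_isRegularLocalRing (AdicCompletion (maximalIdeal A) A)
    haveI : IsDomain (MvPowerSeries (Fin 2) K ⧸ Ideal.span
      {(MvPowerSeries.X 0 * MvPowerSeries.X 1 : MvPowerSeries (Fin 2) K)}) := e.symm.toMulEquiv.isDomain _
    have hx : ∀ i j : Fin 2, j ≠ i → Branch.qaxis (K := K) j (Ideal.Quotient.mk _ (MvPowerSeries.X i)) = 0 :=
      fun i j hij => Branch.axis_X hij.symm
    have hne : ∀ i : Fin 2, Ideal.Quotient.mk (Ideal.span
        {(MvPowerSeries.X 0 * MvPowerSeries.X 1 : MvPowerSeries (Fin 2) K)}) (MvPowerSeries.X i) ≠ 0 := fun i h0 => by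
      classical
      have h1 := congrArg (fun f => PowerSeries.coeff 1 (Branch.qaxis (K := K) i f)) h0
      simp [Branch.qaxis, NodalLib.axis, MvPowerSeries.coeff_X] at h1
    have hz : Ideal.Quotient.mk (Ideal.span {(MvPowerSeries.X 0 * MvPowerSeries.X 1 : MvPowerSeries (Fin 2) K)})
        (MvPowerSeries.X 0) * Ideal.Quotient.mk _ (MvPowerSeries.X 1) = 0 := by
      rw [← map_mul, Ideal.Quotient.eq_zero_iff_mem]
      exact Ideal.subset_span rfl
    rcases mul_eq_zero.1 hz with h0 | h0
    · exact hne 0 h0
    · exact hne 1 h0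

variable (k : Type u) [Field k] [IsAlgClosed k] {X : Scheme.{u}} [X.Over (Spec (CommRingCat.of k))]
  [IsProper (X ↘ Spec (CommRingCat.of k))]

include k in
/-- A node lies on at most two components, and its local ring is not regular. -/
theorem node_components_le_two {x : X} (hn : Curv2.IsNode k X x) :
    {Z : Set X | Z ∈ irreducibleComponents (X : Type u) ∧ x ∈ Z}.encard ≤ 2 ∧
      ¬ IsRegularLocalRing (X.presheaf.stalk x) := by
  haveI := CurveCohLib.isNoetherian_of_proper (k := k) (X := X)
  obtain ⟨hxc, xb, hxb, hodp⟩ := hn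
  subst hxb
  have hnode := (NodalLib.isOrdDoublePt_bc_iff k X (AlgebraicClosure k) xb hxc).2 hodp
  letI := Curv2.stalkAlgebra k X (Curv2.bcFst k X (AlgebraicClosure k) xb)
  obtain ⟨h1, h2⟩ := minimalPrimes_le_two_and_not_regular hnode
  rw [AlgSpDec.ElemBranches.encard_minimalPrimes_stalk] at h1
  exact ⟨h1, h2⟩

include k in
/-- On a reduced curve the degree is the sum over the components. -/
theorem deg_eq_sum_components [IsReduced X] (hdim : topologicalKrullDim X ≤ 1)
    (hXc : Proj16.ClosedDimOne X) {L : X.Modules} (hL : PicF.IsInvertible L)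
    [Fintype (irreducibleComponents (X : Type u))] :
    Curv2.deg k X L 1 = ∑ C : irreducibleComponents (X : Type u),
      @Curv2.deg k _ (Scheme.IdealSheafData.vanishingIdeal ⟨C.1, isClosed_of_mem_irreducibleComponents C.1 C.2⟩).subscheme
        ⟨(Scheme.IdealSheafData.vanishingIdeal ⟨C.1, isClosed_of_mem_irreducibleComponents C.1 C.2⟩).subschemeι ≫ (X ↘ Spec (CommRingCat.of k))⟩
        ((Scheme.Modules.pullback (Scheme.IdealSheafData.vanishingIdeal ⟨C.1, isClosed_of_mem_irreducibleComponents C.1 C.2⟩).subschemeι).obj L) 1 := by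
  haveI := CurveCohLib.isNoetherian_of_proper (k := k) (X := X)
  rw [CurveFinMap.deg_eq_sum k hdim (InvEnd.isFinLocFreeOfRank_one hL), finsum_eq_sum_of_fintype]
  refine Finset.sum_congr rfl fun C _ => ?_
  have hgen : CurveFinMap.gpt C ∈ genericPoints (X : Type u) := by
    unfold genericPoints
    rw [Set.mem_setOf_eq, (CurveFinMap.isGenericPoint_gpt C).def]
    exact C.2
  have hone : (Module.length (X.presheaf.stalk (CurveFinMap.gpt C)) (X.presheaf.stalk (CurveFinMap.gpt C))).toNat = 1 := by
    letI := (TFQuot.isField_stalk_generic hgen).toField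
    haveI : IsSimpleModule (X.presheaf.stalk (CurveFinMap.gpt C)) (X.presheaf.stalk (CurveFinMap.gpt C)) := inferInstance
    rw [Module.length_eq_one]
    rfl
  have hIv : (X.irreducibleComponentIdeal C.1 C.2).radical =
      Scheme.IdealSheafData.vanishingIdeal ⟨C.1, isClosed_of_mem_irreducibleComponents C.1 C.2⟩ := by
    rw [← Scheme.IdealSheafData.vanishingIdeal_support]
    exact congrArg _ (Closeds.ext rfl)
  rw [if_pos (by exact_mod_cast components_dim_one k hXc C.1 C.2), hone, hIv]
  simp

end Groth.Agent.CanonDual
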