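import Groth.Agent.CanonDual.Branch
import Groth.Agent.CanonDual.Semistable
import Groth.Agent.CanonDual.GGCrit
import Groth.Agent.CDivEq.Basic
import Groth.Agent.NodalLib.BaseChange

/-!
# A subcurve meets the rest of a nodal curve in reduced points
-/

set_option autoImplicit false
set_option linter.style.haveILetI false
set_option linter.unusedSectionVars false
set_option backward.isDefEq.respectTransparency false
set_option backward.isDefEq.respectTransparency.types false

universe u

open CategoryTheory CategoryTheory.Limits AlgebraicGeometry TopologicalSpace Opposite IsLocalRing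

attribute [local instance] HasDerivedCategory.standard

noncomputable section

namespace Groth.Agent.CanonDual

open Groth.Agent

theorem fromSpecStalk_mem_support {X : Scheme.{u}} (I : X.IdealSheafData) (ζ : X) (U : X.affineOpens) (hU : ζ ∈ U.1)
    (p : PrimeSpectrum (X.presheaf.stalk ζ)) :
    X.fromSpecStalk ζ p ∈ (I.support : Set X) ↔ CDivEq.stk I U hU ≤ p.asIdeal := by
  have hsp : X.fromSpecStalk ζ p ⤳ ζ := by
    have : X.fromSpecStalk ζ p ∈ Set.range (X.fromSpecStalk ζ) := ⟨p, rfl⟩
    rwa [Scheme.range_fromSpecStalk] at this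
  have hpU : X.fromSpecStalk ζ p ∈ U.1 := hsp.mem_open U.1.2 hU
  have key : ∀ a : Γ(X, U.1), X.fromSpecStalk ζ p ∈ X.basicOpen a ↔ X.presheaf.germ U.1 ζ hU a ∉ p.asIdeal := fun a => by
    rw [← U.2.fromSpecStalk_eq_fromSpecStalk hU]
    unfold IsAffineOpen.fromSpecStalk
    rw [Scheme.Hom.comp_apply]
    show Spec.map (X.presheaf.germ U.1 ζ hU) p ∈ U.2.fromSpec ⁻¹ᵁ X.basicOpen a ↔ _
    rw [U.2.fromSpec_preimage_basicOpen]
    rfl
  refine (Scheme.IdealSheafData.mem_support_iff_of_mem (U := U) hpU).trans ?_
  rw [Scheme.mem_zeroLocus_iff, CDivEq.stk, Ideal.map_le_iff_le_comap]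
  exact forall₂_congr fun a _ => (not_congr (key a)).trans not_not

theorem isRadical_stk {X : Scheme.{u}} {I : X.IdealSheafData} (U : X.affineOpens) {x : X} (hx : x ∈ U.1)
    (hI : (I.ideal U).IsRadical) : (CDivEq.stk I U hx).IsRadical := by
  letI := X.presheaf.algebra_section_stalk (U := U.1) ⟨x, hx⟩
  haveI := U.2.isLocalization_stalk ⟨x, hx⟩
  have := IsLocalization.map_radical (U.2.primeIdealOf ⟨x, hx⟩).asIdeal.primeCompl (X.presheaf.stalk x) (I.ideal U)
  rw [hI.radical] at this
  show (Ideal.map (algebraMap Γ(X, U.1) (X.presheaf.stalk x)) (I.ideal U)).IsRadical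
  rw [this]
  exact Ideal.radical_isRadical _

variable {k : Type u} [Field k] {X : Scheme.{u}} [X.Over (Spec (CommRingCat.of k))]
  [IsProper (X ↘ Spec (CommRingCat.of k))]

theorem ideal_sup_eq_radical [IsAlgClosed k] (hdim : topologicalKrullDim X ≤ 1) (hX : Curv2.AtWorstNodal k X)
    (hXc : Proj16.ClosedDimOne X) (J : X.IdealSheafData) [IsReduced J.subscheme]
    (hJ : ∀ z ∈ (J.support : Set X), z ∈ closure ((J.support : Set X)ᶜ) →
      ∃ w ∈ (J.support : Set X), w ⤳ z ∧ w ≠ z) :
    J ⊔ compl J = Scheme.IdealSheafData.vanishingIdeal (J ⊔ compl J).support := by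
  haveI := CurveCohLib.isNoetherian_of_proper (k := k) (X := X)
  haveI := isReduced_of_nodal k hdim hX
  have hsupp : ((J ⊔ compl J).support : Set X) = (J.support : Set X) ∩ closure ((J.support : Set X)ᶜ) := by
    rw [Scheme.IdealSheafData.support_sup]
    exact congrArg ((J.support : Set X) ∩ ·) (Scheme.IdealSheafData.coe_support_vanishingIdeal _)
  set K := J ⊔ compl J with hK
  set I := Scheme.IdealSheafData.vanishingIdeal K.support
  refine le_antisymm (Scheme.IdealSheafData.le_support_iff_le_vanishingIdeal.1 le_rfl) fun U => ?_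
  refine CDivEq.le_of_stk I K U fun z hz => ?_
  by_cases hzK : z ∈ (K.support : Set X)
  swap
  · have : CDivEq.stk K U hz = ⊤ := by
      by_contra h
      exact hzK ((CDivEq.mem_support_iff K U hz).2 h)
    rw [this]
    exact le_top
  have hz1 : z ∈ (J.support : Set X) := ((Set.ext_iff.1 hsupp z).1 hzK).1
  have hz2 : z ∈ closure ((J.support : Set X)ᶜ) := ((Set.ext_iff.1 hsupp z).1 hzK).2
  have hzc : IsClosed ({z} : Set X) := isClosed_of_mem_inter (k := k) hXc J hz1 hz2
  have hC : ((compl J).support : Set X) = closure ((J.support : Set X)ᶜ) :=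
    Scheme.IdealSheafData.coe_support_vanishingIdeal _
  letI := X.presheaf.algebra_section_stalk (U := U.1) ⟨z, hz⟩
  haveI := U.2.isLocalization_stalk ⟨z, hz⟩
  set a := CDivEq.stk J U hz with ha
  set b := CDivEq.stk (compl J) U hz with hb
  have hKab : CDivEq.stk K U hz = a ⊔ b := by
    rw [ha, hb, CDivEq.stk, CDivEq.stk, CDivEq.stk, hK, Scheme.IdealSheafData.ideal_sup, Pi.sup_apply, Ideal.map_sup]
  have hab : a ⊓ b = ⊥ := by
    rw [ha, hb, CDivEq.stk, CDivEq.stk]
    refine (IsLocalization.map_inf (U.2.primeIdealOf ⟨z, hz⟩).asIdeal.primeCompl (X.presheaf.stalk z)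
      (J.ideal U) ((compl J).ideal U)).symm.trans ?_
    rw [← Pi.inf_apply, ← Scheme.IdealSheafData.ideal_inf, inf_compl J, Scheme.IdealSheafData.ideal_bot, Pi.bot_apply,
      Ideal.map_bot]
  -- branches on both sides
  have hfrom : ∀ w, w ⤳ z → ∃ p : PrimeSpectrum (X.presheaf.stalk z), X.fromSpecStalk z p = w := fun w hw => by
    have : w ∈ Set.range (X.fromSpecStalk z) := by rw [Scheme.range_fromSpecStalk]; exact hw
    exact this
  have hb0 : b ≠ ⊥ := by
    obtain ⟨w, hw, hwz, hne⟩ := hJ z hz1 hz2
    intro h0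
    obtain ⟨p, rfl⟩ := hfrom w hwz
    have h1 : X.fromSpecStalk z p ∈ closure ((J.support : Set X)ᶜ) := by
      rw [← hC, fromSpecStalk_mem_support (compl J) z U hz, ← hb, h0]
      exact bot_le
    exact hne ((hwz.mem_closed (isClosed_of_mem_inter (k := k) hXc J hw h1) rfl : z ∈ ({X.fromSpecStalk z p} : Set X))).symm
  have ha0 : a ≠ ⊥ := by
    intro h0
    have hall : ∀ w, w ⤳ z → w ∈ (J.support : Set X) := fun w hw => by
      obtain ⟨p, rfl⟩ := hfrom w hw
      rw [fromSpecStalk_mem_support J z U hz, ← ha, h0]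
      exact bot_le
    let S := {C ∈ irreducibleComponents X | ¬ C ⊆ (J.support : Set X)}
    have hsub : closure ((J.support : Set X)ᶜ) ⊆ ⋃ C ∈ S, C := by
      refine closure_minimal (fun x hx => Set.mem_biUnion (x := irreducibleComponent x)
        ⟨irreducibleComponent_mem_irreducibleComponents x, fun h => hx (h mem_irreducibleComponent)⟩
        mem_irreducibleComponent) ?_
      exact ((TopologicalSpace.NoetherianSpace.finite_irreducibleComponents (α := X)).subset
        fun C hC => hC.1).isClosed_biUnion fun C hC => isClosed_of_mem_irreducibleComponents C hC.1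
    obtain ⟨C, hC', hzC⟩ := Set.mem_iUnion₂.1 (hsub hz2)
    obtain ⟨η, hη⟩ := QuasiSober.sober hC'.1.1 (isClosed_of_mem_irreducibleComponents C hC'.1)
    exact hC'.2 (hη.def ▸ closure_minimal (Set.singleton_subset_iff.2 (hall η (hη.specializes hzC))) J.support.isClosed)
  have hm : maximalIdeal (X.presheaf.stalk z) ≤ (a ⊔ b).radical := by
    rw [Ideal.radical_eq_sInf]
    refine le_sInf ?_
    rintro q ⟨hq, hqp⟩
    let p : PrimeSpectrum (X.presheaf.stalk z) := ⟨q, hqp⟩
    have hw : X.fromSpecStalk z p ∈ (K.support : Set X) := by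
      rw [fromSpecStalk_mem_support K z U hz, hKab]
      exact hq
    have hwc : IsClosed ({X.fromSpecStalk z p} : Set X) :=
      isClosed_of_mem_inter (k := k) hXc J ((Set.ext_iff.1 hsupp _).1 hw).1 ((Set.ext_iff.1 hsupp _).1 hw).2
    have hsp : X.fromSpecStalk z p ⤳ z := by
      have : X.fromSpecStalk z p ∈ Set.range (X.fromSpecStalk z) := ⟨p, rfl⟩
      rwa [Scheme.range_fromSpecStalk] at this
    have he : X.fromSpecStalk z p = X.fromSpecStalk z (closedPoint (X.presheaf.stalk z)) := by
      rw [Scheme.fromSpecStalk_closedPoint]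
      exact ((hsp.mem_closed hwc rfl : z ∈ ({X.fromSpecStalk z p} : Set X))).symm
    exact (congrArg PrimeSpectrum.asIdeal ((X.fromSpecStalk z).isEmbedding.injective he)).ge
  -- the node
  have hnode : @Curv2.IsOrdDoublePt k _ (X.presheaf.stalk z) _ (Curv2.stalkAlgebra k X z) _ := by
    rcases hX z hzc with hsm | ⟨-, xb, hxb, hodp⟩
    · exfalso
      haveI := SmoothReg.isRegularLocalRing_stalk_of_mem_smoothLocus (X ↘ Spec (CommRingCat.of k))
        (NodalLib.mem_smoothLocus_of_open k X hsm)
      haveI := RegLoc6.isDomain_of_isRegularLocalRing (X.presheaf.stalk z)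
      have h0 : a * b = ⊥ := le_bot_iff.1 (hab ▸ Ideal.mul_le_inf)
      rcases Ideal.mul_eq_bot.1 h0 with h | h
      · exact ha0 h
      · exact hb0 h
    · subst hxb
      exact (NodalLib.isOrdDoublePt_bc_iff k X (AlgebraicClosure k) xb hzc).2 hodp
  letI := Curv2.stalkAlgebra k X z
  have hfin := Branch.maximalIdeal_le_sup hnode (isRadical_stk U hz (H23.RedSub.isRadical_of_isReduced_subscheme U))
    (isRadical_stk U hz (by
      haveI : IsReduced (compl J).subscheme := H23.RedSub.isReduced_vanishingIdeal _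
      exact H23.RedSub.isRadical_of_isReduced_subscheme U)) hab ha0 hb0 hm
  rw [hKab]
  refine le_trans (IsLocalRing.le_maximalIdeal ?_) hfin
  refine (CDivEq.mem_support_iff I U hz).1 ?_
  rw [Scheme.IdealSheafData.coe_support_vanishingIdeal]
  exact hzK

/-- A subcurve meets the rest in as many reduced points as their number. -/
theorem finrank_inter_eq [IsAlgClosed k] [ConnectedSpace X] (hdim : topologicalKrullDim X = 1)
    (hX : Curv2.AtWorstNodal k X) (J : X.IdealSheafData) [IsReduced J.subscheme] [ConnectedSpace J.subscheme]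
    (hJ1 : topologicalKrullDim J.subscheme = 1) :
    Module.finrank k (Coh.HH X (ClSub.quotMod (J ⊔ compl J)) 0) =
      ((J.support : Set X) ∩ closure ((J.support : Set X)ᶜ)).ncard := by
  haveI := CurveCohLib.isNoetherian_of_proper (k := k) (X := X)
  haveI := isReduced_of_nodal k hdim.le hX
  have hXc := closedDimOne_of_connected k hdim
  letI : J.subscheme.Over (Spec (CommRingCat.of k)) := ⟨J.subschemeι ≫ (X ↘ Spec (CommRingCat.of k))⟩
  haveI : IsProper (J.subscheme ↘ Spec (CommRingCat.of k)) :=
    inferInstanceAs (IsProper (J.subschemeι ≫ (X ↘ Spec (CommRingCat.of k))))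
  have hJc := closedDimOne_of_connected k hJ1
  have hdata := ideal_sup_eq_radical (k := k) hdim.le hX hXc J fun z hz _ => by
    obtain ⟨z', rfl⟩ : z ∈ Set.range J.subschemeι := by rwa [J.range_subschemeι]
    obtain ⟨g, hg, hmax⟩ := VarDim.exists_maximal_generalization (J.subscheme ↘ Spec (CommRingCat.of k)) z'
    refine ⟨J.subschemeι g, J.range_subschemeι ▸ Set.mem_range_self g, hg.map J.subschemeι.continuous, fun e => ?_⟩
    have e' := J.subschemeι.isEmbedding.injective e
    subst e'
    have hd := (Proj16.closedDimOne_iff_deg (J.subscheme ↘ Spec (CommRingCat.of k))).1 hJc g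
      (isMaximal_of_generic (VarDim.closure_mem_irreducibleComponents hmax))
    have hcl : IsClosed ({g} : Set J.subscheme) := by
      have := (isClosed_of_mem_inter (k := k) hXc J hz ‹_›).preimage J.subschemeι.continuous
      rwa [show J.subschemeι ⁻¹' {J.subschemeι g} = ({g} : Set J.subscheme) from by
        ext y; exact J.subschemeι.isEmbedding.injective.eq_iff] at this
    rw [(VarDim.closedPoint_iff_deg_eq_zero (J.subscheme ↘ Spec (CommRingCat.of k)) g).1 hcl] at hd
    exact zero_ne_one hd
  have hsupp : ((J ⊔ compl J).support : Set X) = (J.support : Set X) ∩ closure ((J.support : Set X)ᶜ) := by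
    rw [Scheme.IdealSheafData.support_sup]
    exact congrArg ((J.support : Set X) ∩ ·) (Scheme.IdealSheafData.coe_support_vanishingIdeal _)
  haveI : Finite (J ⊔ compl J).subscheme := finite_inter k hXc J
  have hfin : ((J ⊔ compl J).support : Set X).Finite := by
    rw [← (J ⊔ compl J).range_subschemeι]
    exact Set.finite_range _
  have h1 := euler_quot_finite k hfin (J ⊔ compl J).support.isClosed
  rw [show (⟨((J ⊔ compl J).support : Set X), (J ⊔ compl J).support.isClosed⟩ : Closeds X) = (J ⊔ compl J).support from rfl,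
    ← hdata, CurveCohLib.euler_eq_finrank_zero (ParShLib.isCoh_quotMod _) (fun x hx => ?_)] at h1
  · rw [Nat.card_coe_set_eq] at h1
    rw [← hsupp]
    exact_mod_cast h1
  · exact isClosed_of_mem_finite k hfin (J ⊔ compl J).support.isClosed (by
      by_contra h
      exact hx (ParShLib.subsingleton_stalk_quotMod _ h))

end Groth.Agent.CanonDual
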