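import Groth.Agent.NodalLib.Gor
import Groth.Agent.AlgSpPts.Diag
import Groth.Agent.FBaseLib.Reduced
import Mathlib.FieldTheory.SeparableClosure
import Mathlib.FieldTheory.PurelyInseparable.Basic

/-!
# A node is never a regular point

If the geometric base change of a regular one-dimensional point is an ordinary double point, comparing
orders of vanishing along the two branches gives a contradiction: after the separable closure the local
ring still has principal maximal ideal, and the remaining extension is purely inseparable, so every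
element of the local ring at the node has a power coming from that local ring.
-/

set_option autoImplicit false
set_option linter.style.haveILetI false
set_option linter.unusedSectionVars false
set_option backward.isDefEq.respectTransparency false
set_option backward.isDefEq.respectTransparency.types false
set_option maxHeartbeats 1000000

universe u

open CategoryTheory CategoryTheory.Limits AlgebraicGeometry IsLocalRing TensorProduct

noncomputable section

namespace Groth.Agent.CanonDual.NodeRegular

open Groth.Agent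

section Local

variable {K : Type u} [Field K]

local notation "P" => MvPowerSeries (Fin 2) K
local notation "Q" => (MvPowerSeries (Fin 2) K) ⧸
  Ideal.span {(MvPowerSeries.X 0 * MvPowerSeries.X 1 : MvPowerSeries (Fin 2) K)}

theorem axis_X (i j : Fin 2) :
    NodalLib.axis i (MvPowerSeries.X j : P) = if i = j then PowerSeries.X else 0 := by
  classical
  ext n
  show PowerSeries.coeff n (PowerSeries.mk fun n => MvPowerSeries.coeff (Finsupp.single i n) (MvPowerSeries.X j : P)) = _
  rw [PowerSeries.coeff_mk, MvPowerSeries.coeff_X]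
  by_cases hij : i = j
  · subst hij
    simp only [if_true, PowerSeries.coeff_X]
    by_cases hn : n = 1
    · subst hn; simp
    · rw [if_neg hn, if_neg]
      intro h
      exact hn (by simpa using congrArg (fun f => f i) h)
  · rw [if_neg hij, map_zero, if_neg]
    intro h
    exact hij ((Finsupp.single_eq_single_iff _ _ _ _).1 h |>.resolve_right (by simp)).1

/-- Restriction of the node to an axis. -/
def axisQ (i : Fin 2) : Q →+* PowerSeries K :=
  Ideal.Quotient.lift _ (NodalLib.axis i) fun f hf => by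
    obtain ⟨c, rfl⟩ := Ideal.mem_span_singleton'.1 hf
    rw [map_mul, map_mul, axis_X, axis_X]
    fin_cases i <;> simp

theorem coeff_axis (i : Fin 2) (n : ℕ) (f : P) :
    PowerSeries.coeff n (NodalLib.axis i f) = MvPowerSeries.coeff (Finsupp.single i n) f := by
  show PowerSeries.coeff n (PowerSeries.mk fun n => MvPowerSeries.coeff (Finsupp.single i n) f) = _
  rw [PowerSeries.coeff_mk]

theorem constantCoeff_axis (i : Fin 2) (f : P) :
    PowerSeries.constantCoeff (NodalLib.axis i f) = MvPowerSeries.constantCoeff f := by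
  rw [← PowerSeries.coeff_zero_eq_constantCoeff_apply, coeff_axis, Finsupp.single_zero]
  rfl

theorem axis_C (i : Fin 2) (c : K) : NodalLib.axis i (MvPowerSeries.C c : P) = PowerSeries.C c := by
  classical
  ext n
  rw [coeff_axis, MvPowerSeries.coeff_C, PowerSeries.coeff_C]
  simp [Finsupp.single_eq_zero]

variable {A B : Type u} [CommRing A] [IsLocalRing A] [IsNoetherianRing A]
  [CommRing B] [IsLocalRing B] [IsNoetherianRing B] [Algebra K B]

/-- An ordinary double point is not power-wise dominated by a ring with principal maximal ideal. -/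
theorem false_of_node (hB : Curv2.IsOrdDoublePt K B) (φ : A →+* B) [IsLocalHom φ]
    (hA : ∃ p : A, maximalIdeal A = Ideal.span {p})
    (hpow : ∀ b : B, ∃ n, 0 < n ∧ b ^ n ∈ φ.range) : False := by
  obtain ⟨e, he⟩ := hB
  let ψ : Fin 2 → B →+* PowerSeries K := fun i =>
    (axisQ i).comp (e.toRingHom.comp (algebraMap B (AdicCompletion (maximalIdeal B) B)))
  have hψC : ∀ i c, ψ i (algebraMap K B c) = PowerSeries.C c := fun i c => by
    show axisQ i (e (algebraMap B _ (algebraMap K B c))) = _
    rw [he]
    exact axis_C i c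
  let g : B →+* Q := e.toRingHom.comp (algebraMap B (AdicCompletion (maximalIdeal B) B))
  have hg : (maximalIdeal B).map g = maximalIdeal Q := by
    rw [← Ideal.map_map, NodalLib.completion_map]
    exact map_maximalIdeal_of_surjective _ e.surjective
  have h0 : ∀ i, ∀ w ∈ maximalIdeal Q, PowerSeries.constantCoeff (axisQ i w) = 0 := by
    intro i w hw
    rw [← NodalLib.model_span] at hw
    obtain ⟨r, s, rfl⟩ := Ideal.mem_span_pair.1 hw
    have hz : ∀ j, PowerSeries.constantCoeff (axisQ i (Ideal.Quotient.mk _ (MvPowerSeries.X j : P))) = 0 :=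
      fun j => by
        show PowerSeries.constantCoeff (NodalLib.axis i (MvPowerSeries.X j : P)) = 0
        rw [constantCoeff_axis, MvPowerSeries.constantCoeff_X]
    simp only [map_add, map_mul, hz, mul_zero, add_zero]
  have hlin : ∀ w ∈ (maximalIdeal B).map g, ∃ z ∈ maximalIdeal B,
      ∀ i, PowerSeries.coeff 1 (ψ i z) = PowerSeries.coeff 1 (axisQ i w) := by
    intro w hw
    refine Submodule.span_induction ?_ ?_ ?_ ?_ hw
    · rintro _ ⟨z, hz, rfl⟩
      exact ⟨z, hz, fun i => rfl⟩
    · exact ⟨0, zero_mem _, fun i => by simp⟩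
    · rintro _ _ _ _ ⟨z, hz, e1⟩ ⟨z', hz', e2⟩
      exact ⟨z + z', add_mem hz hz', fun i => by simp only [map_add, e1, e2]⟩
    · rintro r w hw ⟨z, hz, e1⟩
      obtain ⟨f, rfl⟩ := Ideal.Quotient.mk_surjective r
      refine ⟨algebraMap K B (MvPowerSeries.constantCoeff f) * z, Ideal.mul_mem_left _ _ hz, fun i => ?_⟩
      have hwm : w ∈ maximalIdeal Q := hg ▸ hw
      rw [map_mul, hψC, PowerSeries.coeff_C_mul, e1, smul_eq_mul, map_mul, PowerSeries.coeff_mul,
        Finset.Nat.antidiagonal_succ, Finset.sum_cons, Finset.Nat.antidiagonal_zero, Finset.map_singleton,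
        Finset.sum_singleton]
      show _ = PowerSeries.coeff 0 (axisQ i (Ideal.Quotient.mk _ f)) * PowerSeries.coeff 1 (axisQ i w) +
        PowerSeries.coeff 1 (axisQ i (Ideal.Quotient.mk _ f)) * PowerSeries.coeff 0 (axisQ i w)
      rw [PowerSeries.coeff_zero_eq_constantCoeff_apply, PowerSeries.coeff_zero_eq_constantCoeff_apply,
        h0 i w hwm, mul_zero, add_zero]
      exact congrArg (fun t => t * _) (constantCoeff_axis i f).symm
  have hex : ∀ j : Fin 2, ∃ z ∈ maximalIdeal B, ∀ i,
      PowerSeries.coeff 1 (ψ i z) = if i = j then (1 : K) else 0 := by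
    intro j
    obtain ⟨z, hz, h1⟩ := hlin (Ideal.Quotient.mk _ (MvPowerSeries.X j : P)) (by
      rw [hg, ← NodalLib.model_span]
      fin_cases j <;> exact Ideal.subset_span (by simp))
    refine ⟨z, hz, fun i => ?_⟩
    rw [h1]
    show PowerSeries.coeff 1 (NodalLib.axis i (MvPowerSeries.X j : P)) = _
    rw [axis_X]
    split_ifs <;> simp
  choose z hzm hz using hex
  have hord : ∀ i j, if i = j then (ψ i (z j)).order = 1 else 2 ≤ (ψ i (z j)).order := by
    intro i j
    have h00 : PowerSeries.coeff 0 (ψ i (z j)) = 0 := by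
      rw [PowerSeries.coeff_zero_eq_constantCoeff_apply]
      exact h0 i _ (hg ▸ Ideal.mem_map_of_mem g (hzm j))
    have h01 := hz j i
    split_ifs at h01 ⊢ with hij
    · refine (PowerSeries.order_eq_nat (n := 1)).2 ⟨by rw [h01]; exact one_ne_zero, fun a ha => ?_⟩
      obtain rfl : a = 0 := by omega
      exact h00
    · refine PowerSeries.nat_le_order _ 2 fun a ha => ?_
      interval_cases a
      · exact h00
      · exact h01
  obtain ⟨p, hp⟩ := hA
  have hfac : ∀ j : Fin 2, ∃ (n v : ℕ), 0 < n ∧
      ∀ i, (n : ℕ∞) * (ψ i (z j)).order = (v : ℕ∞) * (ψ i (φ p)).order := by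
    intro j
    obtain ⟨n, hn, a, ha⟩ := hpow (z j)
    have hne : a ≠ 0 := by
      rintro rfl
      have h1 := hord j j
      rw [if_pos rfl] at h1
      have h2 : ψ j (z j) ^ n = 0 := by rw [← map_pow, ← ha, map_zero, map_zero]
      rw [(pow_eq_zero_iff hn.ne').1 h2, PowerSeries.order_zero] at h1
      exact absurd h1 (by simp)
    have hex : ∃ v, a ∉ maximalIdeal A ^ (v + 1) := by
      by_contra hcon
      push Not at hcon
      refine hne ?_
      have h3 : a ∈ (⨅ t, maximalIdeal A ^ t : Ideal A) := by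
        simp only [Ideal.mem_iInf]
        intro t
        cases t with
        | zero => simp
        | succ t => exact hcon t
      rwa [Ideal.iInf_pow_eq_bot_of_isLocalRing _ (maximalIdeal.isMaximal A).ne_top, Ideal.mem_bot] at h3
    classical
    let v := Nat.find hex
    have hv : a ∈ maximalIdeal A ^ v := by
      rcases Nat.eq_zero_or_pos v with hv0 | hv0
      · rw [hv0, pow_zero, Ideal.one_eq_top]; trivial
      · obtain ⟨v', hv'⟩ := Nat.exists_eq_add_of_le hv0
        have := Nat.find_min hex (m := v') (by omega)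
        push Not at this
        rw [show v = v' + 1 by omega]; exact this
    rw [hp, Ideal.span_singleton_pow, Ideal.mem_span_singleton'] at hv
    obtain ⟨c, hc⟩ := hv
    have hcu : IsUnit c := by
      by_contra hcn
      apply Nat.find_spec hex
      have h6 : c * p ^ v ∈ maximalIdeal A ^ (v + 1) := by
        rw [pow_succ']
        refine Ideal.mul_mem_mul hcn ?_
        rw [hp, Ideal.span_singleton_pow]
        exact Ideal.mem_span_singleton_self _
      exact (congrArg (fun t => t ∈ maximalIdeal A ^ (v + 1)) hc).mp h6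
    refine ⟨n, v, hn, fun i => ?_⟩
    have e3 : ψ i (z j) ^ n = ψ i (φ c) * ψ i (φ p) ^ v := by
      rw [← map_pow, ← ha, ← hc, map_mul, map_mul, map_pow, map_pow]
    have e4 : (ψ i (φ c)).order = 0 :=
      PowerSeries.order_zero_of_unit ((hcu.map φ).map (ψ i))
    rw [← nsmul_eq_mul, ← nsmul_eq_mul, ← PowerSeries.order_pow, ← PowerSeries.order_pow, e3,
      PowerSeries.order_mul, e4, zero_add]
  obtain ⟨n, v, hn, hA0⟩ := hfac 0
  obtain ⟨m, w, hm, hA1⟩ := hfac 1
  have o00 := hord 0 0
  have o11 := hord 1 1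
  have o10 := hord 1 0
  have o01 := hord 0 1
  rw [if_pos rfl] at o00 o11
  rw [if_neg (by decide)] at o10 o01
  have a0 := hA0 0
  have a1 := hA0 1
  have b0 := hA1 0
  have b1 := hA1 1
  rw [o00, mul_one] at a0
  rw [o11, mul_one] at b1
  have key : ((n : ℕ∞) * m) * ((ψ 1 (z 0)).order * (ψ 0 (z 1)).order) = (n : ℕ∞) * m := by
    calc ((n : ℕ∞) * m) * ((ψ 1 (z 0)).order * (ψ 0 (z 1)).order)
        = ((n : ℕ∞) * (ψ 1 (z 0)).order) * ((m : ℕ∞) * (ψ 0 (z 1)).order) := by ring
      _ = ((v : ℕ∞) * (ψ 0 (φ p)).order) * ((w : ℕ∞) * (ψ 1 (φ p)).order) := by rw [a1, b0]; ring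
      _ = _ := by rw [← a0, ← b1]
  have h4 : ((n : ℕ∞) * m) * 4 ≤ (n : ℕ∞) * m := by
    calc ((n : ℕ∞) * m) * 4 ≤ ((n : ℕ∞) * m) * ((ψ 1 (z 0)).order * (ψ 0 (z 1)).order) := by
          gcongr
          calc (4 : ℕ∞) = 2 * 2 := by norm_num
            _ ≤ _ := mul_le_mul' o10 o01
      _ = _ := key
  have h5 : n * m * 4 ≤ n * m := by exact_mod_cast h4
  nlinarith

end Local

section Scheme

variable {F K : Type u} [Field F] [Field K] [Algebra F K]

/-- Along a purely inseparable extension of the base, every germ has a power coming from below. -/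
theorem exists_pow_mem_range_affine [IsPurelyInseparable F K] {W Y : Scheme.{u}} [IsAffine W] [IsAffine Y]
    {h : W ⟶ Y} {sW : W ⟶ Spec (CommRingCat.of K)} {sY : Y ⟶ Spec (CommRingCat.of F)}
    (H : IsPullback h sW sY (Spec.map (CommRingCat.ofHom (algebraMap F K)))) (w : W)
    (b : W.presheaf.stalk w) : ∃ n, 0 < n ∧ b ^ n ∈ (h.stalkMap w).hom.range := by
  let q := ringExpChar F
  haveI : ExpChar K q := expChar_of_injective_ringHom (algebraMap F K).injective q
  have hq : 0 < q := expChar_pos K q
  let R := W.presheaf.obj (Opposite.op ⊤)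
  let ρ : K →+* R := sW.appTop.hom.comp (Scheme.ΓSpecIso (CommRingCat.of K)).inv.hom
  haveI : Nontrivial R := by
    refine nontrivial_of_ne (0 : R) 1 fun he => ?_
    have := congrArg (W.presheaf.germ ⊤ w trivial).hom he
    rw [map_zero, map_one] at this
    exact zero_ne_one this
  haveI : ExpChar R q := expChar_of_injective_ringHom ρ.injective q
  let S : Subring R :=
    { carrier := {r | ∃ e : ℕ, r ^ q ^ e ∈ h.appTop.hom.range}
      zero_mem' := ⟨0, by simp⟩
      one_mem' := ⟨0, by simp⟩
      add_mem' := by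
        rintro a a' ⟨e, he⟩ ⟨e', he'⟩
        refine ⟨e + e', ?_⟩
        rw [add_pow_expChar_pow]
        refine add_mem ?_ ?_
        · rw [pow_add, pow_mul]; exact pow_mem he _
        · rw [pow_add, mul_comm, pow_mul]; exact pow_mem he' _
      mul_mem' := by
        rintro a a' ⟨e, he⟩ ⟨e', he'⟩
        refine ⟨e + e', ?_⟩
        rw [mul_pow]
        refine mul_mem ?_ ?_
        · rw [pow_add, pow_mul]; exact pow_mem he _
        · rw [pow_add, mul_comm, pow_mul]; exact pow_mem he' _
      neg_mem' := by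
        rintro a ⟨e, he⟩
        refine ⟨e, ?_⟩
        rw [neg_pow]
        exact mul_mem (pow_mem (neg_mem (one_mem _)) _) he }
  have hS : S = ⊤ := by
    rw [eq_top_iff, ← AlgSpPts.closure_eq_top_of_isPushout (isPushout_appTop_of_isPullback H), Subring.closure_le]
    rintro _ (⟨r, rfl⟩ | ⟨t, rfl⟩)
    · exact ⟨0, r, by simp⟩
    · obtain ⟨e, c, hc⟩ := IsPurelyInseparable.pow_mem F q
        ((Scheme.ΓSpecIso (CommRingCat.of K)).hom.hom t)
      refine ⟨e, sY.appTop.hom ((Scheme.ΓSpecIso (CommRingCat.of F)).inv.hom c), ?_⟩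
      have h1 := congrArg (fun m : W ⟶ _ => m.appTop.hom ((Scheme.ΓSpecIso (CommRingCat.of F)).inv.hom c)) H.w
      simp only [Scheme.Hom.comp_appTop, CommRingCat.comp_apply] at h1
      refine h1.trans ?_
      have h2 : (Spec.map (CommRingCat.ofHom (algebraMap F K))).appTop.hom
          ((Scheme.ΓSpecIso (CommRingCat.of F)).inv.hom c) =
          (Scheme.ΓSpecIso (CommRingCat.of K)).inv.hom (algebraMap F K c) :=
        (congrArg (fun m => m.hom c) (Scheme.ΓSpecIso_inv_naturality (CommRingCat.ofHom (algebraMap F K)))).symm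
      show sW.appTop.hom ((Spec.map (CommRingCat.ofHom (algebraMap F K))).appTop.hom
        ((Scheme.ΓSpecIso (CommRingCat.of F)).inv.hom c)) = _
      rw [h2, hc, map_pow, map_pow]
      exact congrArg (fun r => sW.appTop.hom r ^ q ^ e) ((Scheme.ΓSpecIso (CommRingCat.of K)).hom_inv_id_apply t)
  have hgerm : ∀ r : R, ∃ (e : ℕ) (a : Y.presheaf.stalk (h w)),
      (W.presheaf.germ ⊤ w trivial).hom r ^ q ^ e = (h.stalkMap w).hom a := by
    intro r
    obtain ⟨e, a, ha⟩ : r ∈ S := hS ▸ Subring.mem_top r
    refine ⟨e, (Y.presheaf.germ ⊤ (h w) trivial).hom a, ?_⟩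
    rw [← map_pow, ← ha]
    exact (Scheme.Hom.germ_stalkMap_apply h ⊤ w trivial a).symm
  letI := TopCat.Presheaf.algebra_section_stalk W.presheaf (⟨w, trivial⟩ : ↥(⊤ : W.Opens))
  haveI := (isAffineOpen_top W).isLocalization_stalk ⟨w, trivial⟩
  obtain ⟨⟨num, den⟩, hnd⟩ := IsLocalization.surj ((isAffineOpen_top W).primeIdealOf ⟨w, trivial⟩).asIdeal.primeCompl b
  obtain ⟨e, a, ha⟩ := hgerm num
  obtain ⟨e', a', ha'⟩ := hgerm den
  refine ⟨q ^ (e + e'), pow_pos hq _, ?_⟩
  have hu : IsUnit ((W.presheaf.germ ⊤ w trivial).hom (den : R)) :=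
    IsLocalization.map_units (W.presheaf.stalk w) den
  haveI : IsLocalHom (h.stalkMap w).hom := h.toLRSHom.prop w
  have hu' : IsUnit a' := isUnit_of_map_unit (h.stalkMap w).hom a' (ha' ▸ hu.pow _)
  obtain ⟨u, hu''⟩ := hu'
  have e1 : b ^ q ^ (e + e') * (h.stalkMap w).hom a' ^ q ^ e = (h.stalkMap w).hom a ^ q ^ e' := by
    rw [← ha, ← ha', ← pow_mul, ← pow_mul, ← pow_add, ← pow_add, Nat.add_comm e' e, ← mul_pow]
    congr 1
  refine ⟨a ^ q ^ e' * ↑(u⁻¹) ^ q ^ e, ?_⟩
  rw [map_mul, map_pow, map_pow, ← e1, mul_assoc, ← mul_pow, ← hu'', ← map_mul, Units.mul_inv,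
    map_one, one_pow, mul_one]

theorem exists_pow_mem_range [IsPurelyInseparable F K] {W Y : Scheme.{u}}
    {h : W ⟶ Y} {sW : W ⟶ Spec (CommRingCat.of K)} {sY : Y ⟶ Spec (CommRingCat.of F)}
    (H : IsPullback h sW sY (Spec.map (CommRingCat.ofHom (algebraMap F K)))) (w : W)
    (b : W.presheaf.stalk w) : ∃ n, 0 < n ∧ b ^ n ∈ (h.stalkMap w).hom.range := by
  obtain ⟨V, hV, hwV, -⟩ := exists_isAffineOpen_mem_and_subset (x := h w) (U := (⊤ : Y.Opens)) trivial
  haveI : IsAffine V.toScheme := hV
  have H' : IsPullback (h ∣_ V) ((h ⁻¹ᵁ V).ι ≫ sW) (V.ι ≫ sY) (Spec.map (CommRingCat.ofHom (algebraMap F K))) :=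
    (isPullback_morphismRestrict h V).paste_vert H
  haveI : IsAffineHom (Spec.map (CommRingCat.ofHom (algebraMap F K))) := isAffineHom_of_isAffine _
  haveI : IsAffineHom h := MorphismProperty.of_isPullback H.flip inferInstance
  haveI : IsAffine (h ⁻¹ᵁ V).toScheme := hV.preimage h
  let w' : (h ⁻¹ᵁ V).toScheme := ⟨w, hwV⟩
  obtain ⟨n, hn, a, ha⟩ := exists_pow_mem_range_affine H' w' (((h ⁻¹ᵁ V).ι.stalkMap w').hom b)
  refine ⟨n, hn, (Y.presheaf.stalkCongr (.of_eq (congrArg (fun m : (h ⁻¹ᵁ V).toScheme ⟶ Y => m w')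
    (morphismRestrict_ι h V)))).hom.hom ((asIso (V.ι.stalkMap ((h ∣_ V) w'))).inv.hom a), ?_⟩
  apply ((asIso ((h ⁻¹ᵁ V).ι.stalkMap w')).commRingCatIsoToRingEquiv).injective
  show ((h ⁻¹ᵁ V).ι.stalkMap w').hom _ = ((h ⁻¹ᵁ V).ι.stalkMap w').hom (b ^ n)
  rw [map_pow, ← ha]
  have e := Scheme.Hom.stalkMap_congr_hom _ _ (morphismRestrict_ι h V) w'
  rw [Scheme.Hom.stalkMap_comp, Scheme.Hom.stalkMap_comp] at e
  have e' := congrArg (fun m => m.hom ((asIso (V.ι.stalkMap ((h ∣_ V) w'))).inv.hom a)) e
  simp only [CommRingCat.comp_apply] at e'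
  erw [(asIso (V.ι.stalkMap ((h ∣_ V) w'))).inv_hom_id_apply] at e'
  exact e'.symm

end Scheme

section Field

variable (k : Type u) [Field k] (X : Scheme.{u}) [X.Over (Spec (CommRingCat.of k))]
  [LocallyOfFiniteType (X ↘ Spec (CommRingCat.of k))]

theorem isGeometricallyReduced_of_isSeparable (L : Type u) [Field L] [Algebra k L] [Algebra.IsSeparable k L] :
    Algebra.IsGeometricallyReduced k L := by
  refine Algebra.IsGeometricallyReduced.of_forall_fg fun S hS => ?_
  haveI : Algebra.IsAlgebraic k L := Algebra.IsSeparable.isAlgebraic k L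
  haveI : Algebra.FiniteType k S := (Subalgebra.fg_iff_finiteType S).1 hS
  haveI : Algebra.IsIntegral k S := ⟨fun s => (isIntegral_algHom_iff S.val Subtype.coe_injective).1
    (Algebra.IsIntegral.isIntegral (R := k) (s : L))⟩
  letI : Field S := (isField_of_isIntegral_of_isField' (R := k) (Field.toIsField k)).toField
  haveI : Module.Finite k S := Algebra.IsIntegral.finite
  haveI : Algebra.IsSeparable k S := Algebra.IsSeparable.of_algHom k L S.val
  rw [Algebra.isGeometricallyReduced_field_iff]
  haveI : Algebra.FormallyEtale k S := Algebra.FormallyEtale.of_isSeparable k S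
  haveI : Algebra.EssFiniteType (AlgebraicClosure k) (AlgebraicClosure k ⊗[k] S) := inferInstance
  exact Algebra.FormallyUnramified.isReduced_of_field (AlgebraicClosure k) _

variable (L : Type u) [Field L] [Algebra k L]

theorem map_maximalIdeal_of_isSeparable [Algebra.IsSeparable k L]
    (v : Curv2.bc k X L) (hx : IsClosed ({Curv2.bcFst k X L v} : Set X)) :
    (maximalIdeal (X.presheaf.stalk (Curv2.bcFst k X L v))).map ((Curv2.bcFst k X L).stalkMap v).hom =
      maximalIdeal ((Curv2.bc k X L).presheaf.stalk v) := by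
  let str := X ↘ Spec (CommRingCat.of k)
  let gL := Spec.map (CommRingCat.ofHom (algebraMap k L))
  let f := Curv2.bcFst k X L
  let x := f v
  let i := X.fromSpecResidueField x
  haveI : IsClosedImmersion i := isClosed_singleton_iff_isClosedImmersion.mp hx
  letI : (Curv2.bc k X L).Over (Spec (CommRingCat.of L)) := ⟨Curv2.bcSnd k X L⟩
  haveI : LocallyOfFiniteType ((Curv2.bc k X L) ↘ Spec (CommRingCat.of L)) :=
    inferInstanceAs (LocallyOfFiniteType (pullback.snd str gL))
  obtain ⟨z, hz⟩ : ∃ z : ↥(pullback f i), pullback.fst f i z = v := by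
    obtain ⟨z, hz, -⟩ := Scheme.Pullback.exists_preimage_pullback (f := f) (g := i) v
      (IsLocalRing.closedPoint (X.residueField x)) (Scheme.fromSpecResidueField_apply x _).symm
    exact ⟨z, hz⟩
  have e := H23.GysinPb.fibreLen_snd f i z
  rw [hz] at e
  haveI : IsReduced (pullback f i) := by
    have h1 : IsPullback (pullback.snd f i) (pullback.fst f i ≫ Curv2.bcSnd k X L) (i ≫ str) gL :=
      (IsPullback.of_hasPullback f i).flip.paste_vert
        (IsPullback.of_hasPullback str gL : IsPullback f (Curv2.bcSnd k X L) str gL)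
    letI := Curv2.resAlgebra k X x
    haveI := isGeometricallyReduced_of_isSeparable k L
    haveI := FBaseLib.isReduced_field_tensor (k := k) L (X.residueField x)
    have h2 : i ≫ str = Spec.map (CommRingCat.ofHom (algebraMap k (X.residueField x))) := GeomConn5.spec_resMap x
    rw [h2] at h1
    exact isReduced_of_isOpenImmersion (h1.isoPullback ≪≫ pullbackSpecIso k (X.residueField x) L).hom
  have hclosed : ∀ z' : ↥(pullback f i), IsClosed ({z'} : Set ↥(pullback f i)) := by
    intro z'
    have hv : IsClosed ({pullback.fst f i z'} : Set (Curv2.bc k X L)) := by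
      rw [NodalLib.isClosed_iff_rd_eq_zero (k := L)]
      have h0 := FibDim.rd_baseChange_le (IsPullback.of_hasPullback str gL) (pullback.fst f i z')
      have h1 : pullback.fst str gL (pullback.fst f i z') = x := by
        show (pullback.fst f i ≫ f) z' = x
        rw [pullback.condition]
        exact Scheme.fromSpecResidueField_apply x _
      rw [h1, (NodalLib.isClosed_iff_rd_eq_zero (k := k) x).1 hx] at h0
      exact Nat.le_zero.1 h0
    have h2 := hv.preimage (pullback.fst f i).continuous
    rwa [show (pullback.fst f i) ⁻¹' {pullback.fst f i z'} = {z'} from by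
      ext t; exact ⟨fun h => (pullback.fst f i).isClosedEmbedding.injective h, fun h => h ▸ rfl⟩] at h2
  have hfield : IsField ((pullback f i).presheaf.stalk z) := by
    haveI : Ring.KrullDimLE 0 ((pullback f i).presheaf.stalk z) := by
      refine Ring.krullDimLE_iff.2 ?_
      rw [ringKrullDim_stalk_eq_coheight, show Order.coheight z = 0 from ?_]
      · rfl
      rw [Order.coheight_eq_zero]
      intro z' hz'
      exact ((hclosed z').closure_eq.le (specializes_iff_mem_closure.1 (show z' ⤳ z from hz')) : z = z').ge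
    exact Ring.KrullDimLE.isField_of_isReduced
  have hlen : H23.FiniteFibreSum.fibreLen (pullback.snd f i) z = 1 := by
    unfold H23.FiniteFibreSum.fibreLen
    rw [show (maximalIdeal ((Spec (X.residueField x)).presheaf.stalk (pullback.snd f i z))).map
        ((pullback.snd f i).stalkMap z).hom = maximalIdeal ((pullback f i).presheaf.stalk z) from ?_]
    · exact NodalLib.ell_maximal
    rw [(IsLocalRing.isField_iff_maximalIdeal_eq).1 hfield, eq_bot_iff]
    refine le_trans (IsLocalRing.map_maximalIdeal_le _) ?_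
    rw [(IsLocalRing.isField_iff_maximalIdeal_eq).1 hfield]
  rw [hlen] at e
  let I := (maximalIdeal (X.presheaf.stalk x)).map (f.stalkMap v).hom
  have hI : I ≤ maximalIdeal _ := IsLocalRing.map_maximalIdeal_le _
  show I = _
  by_contra hne
  have hI1 : Module.length ((Curv2.bc k X L).presheaf.stalk v) (_ ⧸ I) = 1 := e.symm
  haveI : IsSimpleModule ((Curv2.bc k X L).presheaf.stalk v) (_ ⧸ I) := Module.length_eq_one_iff.1 hI1
  exact hne (IsLocalRing.eq_maximalIdeal ⟨isSimpleModule_iff_isCoatom.1 this⟩)

/-- A node of a curve is not a regular point. -/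
theorem not_isNode_of_isRegularLocalRing (hdim : topologicalKrullDim X ≤ 1) (x : X)
    (hreg : IsRegularLocalRing (X.presheaf.stalk x)) : ¬ Curv2.IsNode k X x := by
  rintro ⟨hxc, w, hw, hodp⟩
  let K := AlgebraicClosure k
  let F := separableClosure k K
  let str := X ↘ Spec (CommRingCat.of k)
  let gK := Spec.map (CommRingCat.ofHom (algebraMap k K))
  let gF := Spec.map (CommRingCat.ofHom (algebraMap k F))
  let jFK := Spec.map (CommRingCat.ofHom (algebraMap F K))
  have hj : jFK ≫ gF = gK := by rw [← Spec.map_comp]; rfl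
  let h : Curv2.bc k X K ⟶ Curv2.bc k X F :=
    pullback.lift (pullback.fst str gK) (pullback.snd str gK ≫ jFK) (by rw [Category.assoc, hj]; exact pullback.condition)
  have H : IsPullback h (Curv2.bcSnd k X K) (Curv2.bcSnd k X F) jFK := by
    have h1 : IsPullback (h ≫ Curv2.bcFst k X F) (Curv2.bcSnd k X K) str (jFK ≫ gF) := by
      rw [hj, show h ≫ Curv2.bcFst k X F = pullback.fst str gK from pullback.lift_fst _ _ _]
      exact IsPullback.of_hasPullback str gK
    exact IsPullback.of_right h1 (pullback.lift_snd _ _ _) (IsPullback.of_hasPullback str gF)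
  haveI : LocallyOfFiniteType (Curv2.bcSnd k X F) := inferInstanceAs (LocallyOfFiniteType (pullback.snd str gF))
  haveI : LocallyOfFiniteType (Curv2.bcSnd k X K) := inferInstanceAs (LocallyOfFiniteType (pullback.snd str gK))
  haveI : IsLocallyNoetherian X := LocallyOfFiniteType.isLocallyNoetherian str
  haveI : IsLocallyNoetherian (Curv2.bc k X F) := LocallyOfFiniteType.isLocallyNoetherian (Curv2.bcSnd k X F)
  haveI : IsLocallyNoetherian (Curv2.bc k X K) := LocallyOfFiniteType.isLocallyNoetherian (Curv2.bcSnd k X K)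
  have hfst : Curv2.bcFst k X F (h w) = x := by
    rw [← Scheme.Hom.comp_apply, show h ≫ Curv2.bcFst k X F = pullback.fst str gK from pullback.lift_fst _ _ _]
    exact hw
  subst hfst
  have hmap := map_maximalIdeal_of_isSeparable k X F (h w) hxc
  obtain ⟨p, hp⟩ : ∃ p, maximalIdeal (X.presheaf.stalk (Curv2.bcFst k X F (h w))) = Ideal.span {p} := by
    have h1 := (isRegularLocalRing_iff _).1 hreg
    have h2 := h1.trans_le ((SchTop.ringKrullDim_stalk_le _).trans hdim)
    have h3 : (maximalIdeal (X.presheaf.stalk (Curv2.bcFst k X F (h w)))).spanFinrank ≤ 1 := by exact_mod_cast h2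
    obtain ⟨T, hTc, hT⟩ : ∃ T : Set (X.presheaf.stalk (Curv2.bcFst k X F (h w))), T.ncard ≤ 1 ∧
        Ideal.span T = maximalIdeal (X.presheaf.stalk (Curv2.bcFst k X F (h w))) ∧ T.Finite := by
      have fg := (maximalIdeal (X.presheaf.stalk (Curv2.bcFst k X F (h w)))).fg_of_isNoetherianRing
      exact ⟨_, (Submodule.FG.generators_ncard fg).le.trans h3,
        (maximalIdeal _).span_generators, Submodule.FG.finite_generators fg⟩
    rcases (Set.ncard_le_one_iff_eq hT.2).1 hTc with h0 | ⟨p, h0⟩
    · exact ⟨0, by rw [← hT.1, h0, Ideal.span_empty, Ideal.span_singleton_eq_bot.2 rfl]⟩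
    · exact ⟨p, by rw [← hT.1, h0]⟩
  letI := @Curv2.stalkAlgebra K _ (Curv2.bc k X K) ⟨Curv2.bcSnd k X K⟩ w
  haveI : IsLocalHom (h.stalkMap w).hom := h.toLRSHom.prop w
  refine false_of_node hodp (h.stalkMap w).hom ⟨((Curv2.bcFst k X F).stalkMap (h w)).hom p, ?_⟩
    (exists_pow_mem_range H w)
  rw [← hmap, hp, Ideal.map_span, Set.image_singleton]

end Field

end Groth.Agent.CanonDual.NodeRegular
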