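import Groth.Agent.FlatLoc6.NormalAscent
import Groth.Agent.Codepth5.Field
import Groth.Agent.SchTop.Closed
import Groth.Agent.RegLoc6.Serre

/-!
# Normality of families of reduced curves over a normal base with normal generic fibre
-/

set_option autoImplicit false
set_option linter.style.haveILetI false
set_option linter.unusedSectionVars false
set_option backward.isDefEq.respectTransparency false
set_option backward.isDefEq.respectTransparency.types false
set_option maxHeartbeats 1000000

universe u

open CategoryTheory AlgebraicGeometry IsLocalRing TensorProduct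

noncomputable section

namespace Groth.Agent.CanonDual.NormalFlat

open Groth.Agent

/-- A reduced local ring of dimension at most one satisfies `(S₂)` at its closed point. -/
theorem depth_of_reduced (R : Type u) [CommRing R] [IsNoetherianRing R] [IsLocalRing R] [_root_.IsReduced R]
    (h1 : ringKrullDim R ≤ 1) :
    min (2 : WithBot ℕ∞) (ringKrullDim R) ≤ ((LocCoh.depth R R : ℕ∞) : WithBot ℕ∞) := by
  by_cases hF : IsField R
  · rw [ringKrullDim_eq_zero_of_isField hF]
    exact (min_le_right _ _).trans (WithBot.coe_le_coe.mpr zero_le)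
  have hd : (1 : ℕ∞) ≤ LocCoh.depth R R := Alg6.one_le_depth_iff.mpr fun h => by
    obtain ⟨-, z, hz⟩ := Alg6.mem_ass_iff.mp h
    have hz0 : z = 0 := by
      by_cases hzu : IsUnit z
      · refine absurd (isField_iff_maximalIdeal_eq.mpr (eq_bot_iff.mpr fun b hb => ?_)) hF
        exact (hzu.mul_left_eq_zero).mp ((hz b).mp hb : b * z = 0)
      · exact IsReduced.eq_zero z ⟨2, by rw [pow_two]; exact (hz z).mp hzu⟩
    exact (maximalIdeal.isMaximal R).ne_top ((Ideal.eq_top_iff_one _).mpr ((hz 1).mpr (by simp [hz0])))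
  exact (min_le_right _ _).trans (h1.trans (WithBot.coe_le_coe.mpr hd))

section Algebra

variable (A B : Type u) [CommRing A] [CommRing B] [IsNoetherianRing A] [IsNoetherianRing B] [Algebra A B]
  [Module.Flat A B]

theorem fib_numbers (q : Ideal B) [q.IsPrime] :
    FlatLoc6.fibDim A q B = ringKrullDim (EGA4.FibLocRing A B q) ∧
      (haveI := FlatLoc6.isLocalRing_fibLocRing (A := A) q
       FlatLoc6.fibDepth A q B = LocCoh.depth (EGA4.FibLocRing A B q) (EGA4.FibLocRing A B q)) := by
  haveI := FlatLoc6.isLocalRing_fibLocRing (A := A) q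
  haveI : IsNoetherianRing (Localization.AtPrime q) := IsLocalization.isNoetherianRing q.primeCompl _ inferInstance
  let J : Ideal (Localization.AtPrime q) := (q.comap (algebraMap A B)).map (algebraMap A (Localization.AtPrime q))
  have hJ : (J • ⊤ : Submodule (Localization.AtPrime q) (LocalizedModule q.primeCompl B)).map
      (LC.selfLoc q.primeCompl).toLinearMap = J := by
    rw [Submodule.map_smul'', Submodule.map_top, LinearMap.range_eq_top.mpr (LC.selfLoc q.primeCompl).surjective,
      Ideal.smul_eq_mul, Ideal.mul_top]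
  let e : EGA4.FibLocMod A B q B ≃ₗ[Localization.AtPrime q] EGA4.FibLocRing A B q :=
    Submodule.Quotient.equiv _ J (LC.selfLoc q.primeCompl) hJ
  exact ⟨((Module.supportDim_eq_of_equiv e).trans (Alg6.supportDim_eq_of_semilinear (Ideal.Quotient.mk J)
      Ideal.Quotient.mk_surjective (AddEquiv.refl (EGA4.FibLocRing A B q)) fun r x => by
        obtain ⟨x, rfl⟩ := Ideal.Quotient.mk_surjective x
        rfl)).trans (Module.supportDim_self_eq_ringKrullDim _),
    (Hensel.depth_congr e).trans (Alg6.depth_eq_of_semilinear (Ideal.Quotient.mk J) Ideal.Quotient.mk_surjective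
      (AddEquiv.refl (EGA4.FibLocRing A B q)) fun r x => by
        obtain ⟨x, rfl⟩ := Ideal.Quotient.mk_surjective x
        rfl)⟩

/-- A flat algebra over a normal domain with reduced fibres of dimension at most one and normal
generic fibre is normal. -/
theorem normal_of_fibres [IsDomain A] [IsIntegrallyClosed A]
    (hfib : ∀ (q : Ideal B) [q.IsPrime], _root_.IsReduced (EGA4.FibLocRing A B q) ∧
      ringKrullDim (EGA4.FibLocRing A B q) ≤ 1)
    (hgen : ∀ (q : Ideal B) [q.IsPrime], q.comap (algebraMap A B) = ⊥ →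
      IsDomain (Localization.AtPrime q) ∧ IsIntegrallyClosed (Localization.AtPrime q))
    (q : Ideal B) [q.IsPrime] :
    IsDomain (Localization.AtPrime q) ∧ IsIntegrallyClosed (Localization.AtPrime q) := by
  have hAn : ∀ (p : Ideal A) [p.IsPrime],
      IsDomain (Localization.AtPrime p) ∧ IsIntegrallyClosed (Localization.AtPrime p) := fun p _ => by
    have hp : p.primeCompl ≤ nonZeroDivisors A := fun z hz =>
      mem_nonZeroDivisors_of_ne_zero fun h0 => hz (h0 ▸ p.zero_mem)
    exact ⟨IsLocalization.isDomain_localization hp,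
      isIntegrallyClosed_of_isLocalization (Localization.AtPrime p) p.primeCompl hp⟩
  obtain ⟨hAR, hAS⟩ := FlatLoc6.R1_S2_of_normal hAn
  refine FlatLoc6.normal_atPrime_of_le q (fun q' _ _ hk => ?_) (fun q' _ _ => ?_)
  · haveI : IsNoetherianRing (Localization.AtPrime q') := IsLocalization.isNoetherianRing q'.primeCompl _ inferInstance
    by_cases hp : q'.comap (algebraMap A B) = ⊥
    · obtain ⟨_, _⟩ := hgen q' hp
      refine FlatLoc6.regular_of_normal _ ?_
      rw [IsLocalization.AtPrime.ringKrullDim_eq_height q']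
      exact_mod_cast hk
    obtain ⟨hred, -⟩ := hfib q'
    haveI := hred
    haveI := FlatLoc6.isLocalRing_fibLocRing (A := A) q'
    haveI : IsNoetherianRing (Localization.AtPrime q') := IsLocalization.isNoetherianRing q'.primeCompl _ inferInstance
    set p := q'.comap (algebraMap A B) with hpdef
    -- the fibre is zero-dimensional
    have hB : (⟨q', ‹_›⟩ : PrimeSpectrum B) ∈ Module.support B B := by
      rw [Module.mem_support_iff]
      exact (LC.selfLoc q'.primeCompl).toEquiv.nontrivial
    have hA' : (⟨p, inferInstance⟩ : PrimeSpectrum A) ∈ Module.support A A := by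
      rw [Module.mem_support_iff]
      exact (LC.selfLoc p.primeCompl).toEquiv.nontrivial
    obtain ⟨-, h2⟩ := FlatLoc6.formulas_atPrime B A _ q' rfl hB hA'
    let e : LocalizedModule q'.primeCompl (B ⊗[A] A) ≃ₗ[Localization.AtPrime q'] LocalizedModule q'.primeCompl B :=
      IsLocalizedModule.mapEquiv q'.primeCompl (LocalizedModule.mkLinearMap _ _) (LocalizedModule.mkLinearMap _ _)
        (Localization.AtPrime q') (AlgebraTensorModule.rid A B B)
    rw [Module.supportDim_eq_of_equiv e, FlatLoc6.supportDim_self_atPrime, FlatLoc6.supportDim_self_atPrime,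
      (fib_numbers A B q').1] at h2
    have hp1 : (1 : ℕ∞) ≤ p.height := Order.one_le_iff_ne_zero.mpr fun h0 => hp (by
      have h3 := Ideal.height_eq_zero_iff.mp h0
      exact eq_bot_iff.mpr (h3.2 ⟨Ideal.isPrime_bot, bot_le⟩ bot_le))
    have h0 : ringKrullDim (EGA4.FibLocRing A B q') ≤ 0 := by
      have hne := ringKrullDim_nonneg_of_nontrivial (R := EGA4.FibLocRing A B q')
      generalize ringKrullDim (EGA4.FibLocRing A B q') = d at h2 hne ⊢
      induction d using WithBot.recBotCoe with
      | bot => exact absurd hne (by simp)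
      | coe d =>
        rw [← WithBot.coe_add, WithBot.coe_inj] at h2
        refine WithBot.coe_le_coe.mpr ?_
        have h4 : p.height + d ≤ 1 := h2 ▸ hk
        generalize p.height = a at hp1 h4
        induction a using ENat.recTopCoe with
        | top => simp at h4
        | coe a =>
          induction d using ENat.recTopCoe with
          | top => simp at h4
          | coe d => norm_cast at hp1 h4 ⊢; omega
    haveI : Ring.KrullDimLE 0 (EGA4.FibLocRing A B q') := Ring.krullDimLE_iff.2 h0
    have hF : IsField (EGA4.FibLocRing A B q') := Ring.KrullDimLE.isField_of_isReduced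
    refine FlatLoc6.regular_ascend 1 q' hk (fun P _ _ => ?_) (fun h => hAR p h)
    refine RegLoc6.isRegularLocalRing_of_isField ?_
    letI := hF.toField
    let e := IsLocalization.atUnits (EGA4.FibLocRing A B q') P.primeCompl (S := Localization.AtPrime P)
      fun s hs => IsUnit.mk0 s fun h0 => hs (h0 ▸ P.zero_mem)
    exact e.symm.toRingEquiv.toMulEquiv.isField hF
  · obtain ⟨hred, hdim⟩ := hfib q'
    haveI := hred
    haveI := FlatLoc6.isLocalRing_fibLocRing (A := A) q'
    haveI : IsNoetherianRing (Localization.AtPrime q') := IsLocalization.isNoetherianRing q'.primeCompl _ inferInstance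
    refine FlatLoc6.sk_self_ascend 2 q' ?_ ((FlatLoc6.hasSk_self_iff 2).mp hAS _)
    rw [(fib_numbers A B q').1, (fib_numbers A B q').2]
    exact depth_of_reduced _ hdim

end Algebra

section Scheme

variable {X Y : Scheme.{u}} (f : X ⟶ Y)

/-- Normality of the total space of a family of reduced curves. -/
theorem isNormalScheme_of_reduced_fibres [IsLocallyNoetherian Y] [IsLocallyNoetherian X] [Flat f]
    (hY : ∀ (U : Y.Opens), IsAffineOpen U → ∀ y ∈ U, ∃ V : Y.Opens, y ∈ V ∧ V ≤ U ∧ IsAffineOpen V ∧
      IsDomain Γ(Y, V) ∧ IsIntegrallyClosed Γ(Y, V))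
    (hred : ∀ y : Y, IsReduced (f.fiber y)) (hdim : ∀ y : Y, topologicalKrullDim ↥(f.fiber y) ≤ 1)
    (hgen : ∀ x : X, IsField (Y.presheaf.stalk (f x)) →
      IsDomain (X.presheaf.stalk x) ∧ IsIntegrallyClosed (X.presheaf.stalk x)) (x₀ : X) :
    IsDomain (X.presheaf.stalk x₀) ∧ IsIntegrallyClosed (X.presheaf.stalk x₀) := by
  obtain ⟨U₀, hU₀, hxU₀, -⟩ := exists_isAffineOpen_mem_and_subset (x := f x₀) (U := (⊤ : Y.Opens)) trivial
  obtain ⟨U, hfU, -, hU, hdom, hnor⟩ := hY U₀ hU₀ (f x₀) hxU₀
  obtain ⟨V, hV, hxV, hVU⟩ := exists_isAffineOpen_mem_and_subset (x := x₀) (U := f ⁻¹ᵁ U) hfU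
  haveI := hdom
  haveI := hnor
  let φ := f.appLE U V hVU
  letI : Algebra Γ(Y, U) Γ(X, V) := φ.hom.toAlgebra
  haveI : IsNoetherianRing Γ(Y, U) := IsLocallyNoetherian.component_noetherian ⟨U, hU⟩
  haveI : IsNoetherianRing Γ(X, V) := IsLocallyNoetherian.component_noetherian ⟨V, hV⟩
  haveI : Module.Flat Γ(Y, U) Γ(X, V) := RingHom.flat_algebraMap_iff.mp (by
    rw [RingHom.algebraMap_toAlgebra]
    exact Flat.flat_appLE f hU hV hVU)
  -- the local rings
  have key : ∀ (q : Ideal Γ(X, V)) [q.IsPrime], ∃ (x : X) (e : Localization.AtPrime q ≃+* X.presheaf.stalk x),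
      Nonempty (EGA4.FibLocRing Γ(Y, U) Γ(X, V) q ≃+* (X.presheaf.stalk x ⧸ Codepth5.fibIdeal f x)) ∧
      (q.comap (algebraMap Γ(Y, U) Γ(X, V)) = ⊥ → IsField (Y.presheaf.stalk (f x))) := by
    intro q _
    let x : X := hV.fromSpec ⟨q, ‹_›⟩
    have hx : x ∈ V := by
      have : x ∈ Set.range hV.fromSpec := ⟨_, rfl⟩
      rwa [hV.range_fromSpec] at this
    have hpr : hV.primeIdealOf ⟨x, hx⟩ = ⟨q, ‹_›⟩ :=
      hV.fromSpec.injective (hV.fromSpec_primeIdealOf ⟨x, hx⟩)
    letI := TopCat.Presheaf.algebra_section_stalk X.presheaf (⟨x, hx⟩ : ↥V)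
    haveI hlV : IsLocalization.AtPrime (X.presheaf.stalk x) q := by
      have := hV.isLocalization_stalk ⟨x, hx⟩
      rwa [hpr] at this
    let e : Localization.AtPrime q ≃+* X.presheaf.stalk x :=
      (IsLocalization.algEquiv q.primeCompl (Localization.AtPrime q) (X.presheaf.stalk x)).toRingEquiv
    have he : ∀ b, e (algebraMap Γ(X, V) (Localization.AtPrime q) b) = (X.presheaf.germ V x hx).hom b :=
      fun b => (IsLocalization.algEquiv q.primeCompl (Localization.AtPrime q) (X.presheaf.stalk x)).commutes b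
    have hy : f x ∈ U := hVU hx
    letI := TopCat.Presheaf.algebra_section_stalk Y.presheaf (⟨f x, hy⟩ : ↥U)
    haveI hlU := hU.isLocalization_stalk ⟨f x, hy⟩
    set p := (hU.primeIdealOf ⟨f x, hy⟩).asIdeal with hp
    have hcomm : ∀ a, (f.stalkMap x).hom ((Y.presheaf.germ U (f x) hy).hom a) =
        (X.presheaf.germ V x hx).hom (algebraMap Γ(Y, U) Γ(X, V) a) := fun a => by
      have h1 := congrArg (fun m => m.hom a) (Scheme.Hom.germ_stalkMap f U x hy)
      have h2 := congrArg (fun m => m.hom (f.app U a)) (X.presheaf.germ_res (homOfLE hVU) x hx)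
      simp only [CommRingCat.comp_apply] at h1 h2
      exact h1.trans h2.symm
    haveI hloc : IsLocalHom (f.stalkMap x).hom := f.toLRSHom.prop x
    have hqp : q.comap (algebraMap Γ(Y, U) Γ(X, V)) = p := by
      ext a
      rw [Ideal.mem_comap, ← IsLocalization.AtPrime.to_map_mem_maximal_iff (X.presheaf.stalk x) q,
        ← IsLocalization.AtPrime.to_map_mem_maximal_iff (Y.presheaf.stalk (f x)) p,
        IsLocalRing.mem_maximalIdeal, IsLocalRing.mem_maximalIdeal, mem_nonunits_iff, mem_nonunits_iff]
      refine not_congr ?_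
      show IsUnit ((X.presheaf.germ V x hx).hom _) ↔ IsUnit ((Y.presheaf.germ U (f x) hy).hom a)
      rw [← hcomm]
      exact isUnit_map_iff (f.stalkMap x).hom _
    refine ⟨x, e, ⟨Ideal.quotientEquiv _ _ e ?_⟩, fun h0 => ?_⟩
    · show Codepth5.fibIdeal f x = Ideal.map (e : Localization.AtPrime q →+* X.presheaf.stalk x)
        ((q.comap (algebraMap Γ(Y, U) Γ(X, V))).map (algebraMap Γ(Y, U) (Localization.AtPrime q)))
      rw [hqp, Codepth5.fibIdeal, ← IsLocalization.AtPrime.map_eq_maximalIdeal p (Y.presheaf.stalk (f x)),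
        Ideal.map_map, Ideal.map_map]
      congr 1
      ext a
      simp only [RingHom.comp_apply, RingEquiv.coe_toRingHom]
      rw [IsScalarTower.algebraMap_apply Γ(Y, U) Γ(X, V) (Localization.AtPrime q), he]
      exact hcomm a
    · rw [IsLocalRing.isField_iff_maximalIdeal_eq, ← IsLocalization.AtPrime.map_eq_maximalIdeal p
        (Y.presheaf.stalk (f x)), ← hqp, h0, Ideal.map_bot]
  -- the point x₀
  let q₀ := hV.primeIdealOf ⟨x₀, hxV⟩
  letI := TopCat.Presheaf.algebra_section_stalk X.presheaf (⟨x₀, hxV⟩ : ↥V)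
  haveI := hV.isLocalization_stalk ⟨x₀, hxV⟩
  have main : IsDomain (Localization.AtPrime q₀.asIdeal) ∧ IsIntegrallyClosed (Localization.AtPrime q₀.asIdeal) := by
    refine normal_of_fibres Γ(Y, U) Γ(X, V) (fun q _ => ?_) (fun q _ h0 => ?_) _
    · obtain ⟨x, -, ⟨e'⟩, -⟩ := key q
      obtain ⟨e''⟩ := Codepth5.nonempty_fibre_stalk_equiv f x (f x) (f.asFiber x) (f.fiberι_asFiber x)
      haveI := hred (f x)
      refine ⟨isReduced_of_injective (e'.trans e'') (e'.trans e'').injective, ?_⟩
      rw [ringKrullDim_eq_of_ringEquiv (e'.trans e'')]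
      exact (SchTop.ringKrullDim_stalk_le _).trans (hdim (f x))
    · obtain ⟨x, e, -, hK⟩ := key q
      obtain ⟨_, _⟩ := hgen x (hK h0)
      exact ⟨e.toMulEquiv.isDomain, IsIntegrallyClosed.of_equiv e.symm⟩
  obtain ⟨_, _⟩ := main
  let e₀ := (IsLocalization.algEquiv q₀.asIdeal.primeCompl (Localization.AtPrime q₀.asIdeal) (X.presheaf.stalk x₀)).toRingEquiv
  exact ⟨e₀.symm.toMulEquiv.isDomain, IsIntegrallyClosed.of_equiv e₀⟩

end Scheme

end Groth.Agent.CanonDual.NormalFlat
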