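import Groth.Agent.CanonDual.NormalFlat
import Groth.Agent.EtNorm.Dedekind
import Groth.Agent.SmoothReg.Scheme

/-! # Families of reduced curves over a normal integral base -/

set_option autoImplicit false
set_option linter.style.haveILetI false
set_option backward.isDefEq.respectTransparency false
set_option backward.isDefEq.respectTransparency.types false

universe u

open CategoryTheory AlgebraicGeometry

noncomputable section

namespace Groth.Agent.CanonDual.NormalFlat

theorem eq_genericPoint_of_isField {Y : Scheme.{u}} [IsIntegral Y] (y : Y) (h : IsField (Y.presheaf.stalk y)) :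
    y = genericPoint Y := by
  have h0 : Order.coheight y = 0 := by
    have := ringKrullDim_stalk_eq_coheight y
    rw [ringKrullDim_eq_zero_of_isField h] at this
    exact_mod_cast this.symm
  have hle : y ≤ genericPoint Y := (genericPoint_spec Y).specializes trivial
  exact (Specializes.antisymm ((Order.coheight_eq_zero.1 h0) hle) hle).eq

theorem of_normal_base {X Y : Scheme.{u}} (f : X ⟶ Y) [IsIntegral Y] [IsLocallyNoetherian Y] [IsLocallyNoetherian X]
    [Flat f] (hY : Pi1.IsNormalScheme Y) (hred : ∀ y : Y, IsReduced (f.fiber y))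
    (hdim : ∀ y : Y, topologicalKrullDim ↥(f.fiber y) ≤ 1)
    (hgen : ∀ x : X, f x = genericPoint Y → IsDomain (X.presheaf.stalk x) ∧ IsIntegrallyClosed (X.presheaf.stalk x)) :
    Pi1.IsNormalScheme X :=
  isNormalScheme_of_reduced_fibres f (fun U hU y hy => by
    haveI : Nonempty U.toScheme := ⟨⟨y, hy⟩⟩
    haveI : IsIntegral U.toScheme := isIntegral_of_isOpenImmersion U.ι
    exact ⟨U, hy, le_rfl, hU, EtNorm.isIntegrallyClosed_sections hY U⟩) hred hdim
    fun x hx => hgen x (eq_genericPoint_of_isField _ hx)

/-- A point of a smooth fibre over the generic point of an integral scheme has a normal local ring. -/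
theorem normal_of_smooth_genericFibre {X Y : Scheme.{u}} (f : X ⟶ Y) [IsIntegral Y]
    (hsm : Smooth (f.fiberToSpecResidueField (genericPoint Y))) (x : X) (hx : f x = genericPoint Y) :
    IsDomain (X.presheaf.stalk x) ∧ IsIntegrallyClosed (X.presheaf.stalk x) := by
  obtain ⟨w, hw⟩ : x ∈ Set.range (f.fiberι (genericPoint Y)) := by
    rw [Scheme.Hom.range_fiberι]; exact hx
  obtain ⟨e⟩ := Codepth5.nonempty_fibre_stalk_equiv f x _ w hw
  have hb : Codepth5.fibIdeal f x = ⊥ := by
    have hF : IsField (Y.presheaf.stalk (f x)) := by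
      rw [hx]; exact Field.toIsField Y.functionField
    rw [Codepth5.fibIdeal, IsLocalRing.isField_iff_maximalIdeal_eq.1 hF, Ideal.map_bot]
  let e' : X.presheaf.stalk x ≃+* (f.fiber (genericPoint Y)).presheaf.stalk w :=
    ((RingEquiv.quotientBot _).symm.trans (Ideal.quotEquivOfEq hb.symm)).trans e
  haveI := hsm
  haveI : IsRegularLocalRing ((f.fiber (genericPoint Y)).presheaf.stalk w) :=
    SmoothReg.isRegularLocalRing_stalk_of_mem_smoothLocus (f.fiberToSpecResidueField (genericPoint Y))
      (by rw [Scheme.Hom.smoothLocus_eq_top]; trivial)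
  haveI := RegLoc6.isDomain_of_isRegularLocalRing ((f.fiber (genericPoint Y)).presheaf.stalk w)
  haveI := RegLoc6.isIntegrallyClosed_of_isRegularLocalRing ((f.fiber (genericPoint Y)).presheaf.stalk w)
  exact ⟨e'.toMulEquiv.isDomain, IsIntegrallyClosed.of_equiv e'.symm⟩

end Groth.Agent.CanonDual.NormalFlat
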