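import Groth.Agent.CanonDual.GGCrit
import Groth.Agent.CanonDual.LiftSections
import Groth.Agent.CanonDual.DegSub

/-!
# Sections at points, and degree criteria on integral curves
-/

set_option autoImplicit false
set_option linter.style.haveILetI false
set_option linter.unusedSectionVars false
set_option backward.isDefEq.respectTransparency false
set_option backward.isDefEq.respectTransparency.types false
set_option maxHeartbeats 1000000

universe u

open CategoryTheory CategoryTheory.Limits AlgebraicGeometry TopologicalSpace Opposite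
open Groth.Agent.PnCoh.Finite (mapLin deltaLin)

noncomputable section

namespace Groth.Agent.CanonDual

open Groth.Agent TFQuot

variable {k : Type u} [Field k] {X : Scheme.{u}} [X.Over (Spec (CommRingCat.of k))]
  [IsProper (X ↘ Spec (CommRingCat.of k))]

/-- The fibre of an invertible module at a point is nonzero. -/
theorem nontrivial_stalk_point {L : X.Modules} (hL : PicF.IsInvertible L) (x : X) (hx : IsClosed ({x} : Set X)) :
    Nontrivial (((DCoh.tensorBi.obj L).obj
      (ClSub.quotMod (Scheme.IdealSheafData.vanishingIdeal ⟨{x}, hx⟩))).presheaf.stalk x) := by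
  set Z := Scheme.IdealSheafData.vanishingIdeal ⟨{x}, hx⟩ with hZdef
  have hsupp : (Z.support : Set X) = {x} := by
    rw [hZdef]
    simp [Scheme.IdealSheafData.coe_support_vanishingIdeal, hx.closure_eq]
  obtain ⟨b⟩ := CurveTensor.exists_basis_stalk (InvEnd.isFinLocFreeOfRank_one hL) x
  haveI : Nontrivial ((DerSch.stalkFunctor X x).obj (ClSub.quotMod Z)) :=
    not_subsingleton_iff_nontrivial.1
      (CurveCohLib.GlobGen.nontrivial_stalk_quotMod Z (show x ∈ (Z.support : Set X) by rw [hsupp]; rfl))
  let e₁ := ((KFlatLib.stalkTensorLeftIso L x).app (ClSub.quotMod Z)).toLinearEquiv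
  let e₂ := (TensorProduct.congr (b.equivFun ≪≫ₗ LinearEquiv.funUnique (Fin 1) _ _)
    (LinearEquiv.refl (X.presheaf.stalk x) ((DerSch.stalkFunctor X x).obj (ClSub.quotMod Z)))) ≪≫ₗ
    TensorProduct.lid _ _
  exact (e₁.toEquiv.trans e₂.toEquiv).nontrivial

variable (k) in
include k in
/-- A section lifts the fibre when the twisted cohomology vanishes. -/
theorem exists_point_section_of_h1 {L : X.Modules} (hL : PicF.IsInvertible L) (x : X) (hx : IsClosed ({x} : Set X))
    (h1 : Subsingleton (Coh.HH X (CurveCohLib.Nonspecial.twist (Scheme.IdealSheafData.vanishingIdeal ⟨{x}, hx⟩) L) 1)) :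
    ∃ t, mapLin k ((DCoh.tensorBi.obj L).map (ClSub.toSubscheme (Scheme.IdealSheafData.vanishingIdeal ⟨{x}, hx⟩))) 0 t ≠ 0 := by
  haveI := CurveCohLib.isNoetherian_of_proper (k := k) (X := X)
  haveI := nontrivial_stalk_point hL x hx
  have hL1 := InvEnd.isFinLocFreeOfRank_one hL
  have hLf : FlatMod.IsFinLocFree L := fun y => let ⟨W, hy, he⟩ := hL1 y; ⟨W, 1, hy, he⟩
  set Z := Scheme.IdealSheafData.vanishingIdeal ⟨{x}, hx⟩ with hZdef
  have hsupp : (Z.support : Set X) = {x} := by
    rw [hZdef]
    simp [Scheme.IdealSheafData.coe_support_vanishingIdeal, hx.closure_eq]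
  haveI := epi_toSubscheme Z
  have hS0 : (ShortComplex.mk (ClSub.idealModι Z) (ClSub.toSubscheme Z) (kernel.condition _)).ShortExact :=
    CurveSlope.shortExact_kernel_of_epi _
  have hS := CurveTensor.shortExact_tensor hLf _ _ _ hS0
  let C := (DCoh.tensorBi.obj L).obj (ClSub.quotMod Z)
  have hCc : Coh.IsCoh C := CurveTensor.isCoh_tensor hLf (ParShLib.isCoh_quotMod Z)
  have hCs : CohB1.support C ⊆ {x} := fun y hy => by
    rw [← hsupp]
    exact not_not.1 fun h => (CurveTensor.support_tensor_subset hy) (ParShLib.subsingleton_stalk_quotMod Z h)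
  obtain ⟨e, -⟩ := CurveCohLib.exists_h0Equiv (k := k) hCc
    (fun y hy => Set.mem_singleton_iff.1 (hCs hy) ▸ hx) {x} (by simpa using hCs)
  obtain ⟨v, hv⟩ := exists_ne (0 : C.presheaf.stalk x)
  have hc : e.symm (Pi.single (⟨x, Finset.mem_singleton_self x⟩ : ({x} : Finset X)) v) ≠ 0 := by
    rw [ne_eq, LinearEquiv.map_eq_zero_iff, Pi.single_eq_zero_iff]
    exact hv
  haveI := h1
  obtain ⟨t, ht⟩ := (CurveCohLib.ker_deltaLin k hS 0).le
    (LinearMap.mem_ker.2 (Subsingleton.elim (deltaLin k hS 0 (e.symm (Pi.single (⟨x, Finset.mem_singleton_self x⟩ : ({x} : Finset X)) v))) 0))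
  exact ⟨t, fun h0 => hc (ht.symm.trans h0)⟩

variable (k) in
include k in
/-- A section generating at a point lifts its fibre. -/
theorem exists_point_section_of_bijective {L : X.Modules} (hL : PicF.IsInvertible L)
    (s : Coh.structureModule X ⟶ L) (x : X) (hx : IsClosed ({x} : Set X))
    (hs : Function.Bijective (st s x)) :
    ∃ t, mapLin k ((DCoh.tensorBi.obj L).map (ClSub.toSubscheme (Scheme.IdealSheafData.vanishingIdeal ⟨{x}, hx⟩))) 0 t ≠ 0 := by
  set Z := Scheme.IdealSheafData.vanishingIdeal ⟨{x}, hx⟩ with hZdef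
  haveI := nontrivial_stalk_point hL x hx
  haveI := epi_toSubscheme Z
  let u : L ≅ (DCoh.tensorBi.obj L).obj (Coh.structureModule X) := (KFlatLib.tensorUnitIso L).symm
  let q := (DCoh.tensorBi.obj L).map (ClSub.toSubscheme Z)
  refine ⟨SheafHomX.cls (s ≫ u.hom), fun h0 => ?_⟩
  have h1 : SheafHomX.cls ((s ≫ u.hom) ≫ q) = 0 := (mapLin_cls _ _).symm.trans h0
  have h2 : (s ≫ u.hom) ≫ q = 0 := SheafHomX.cls_injective (h1.trans
    (map_zero (Sheaf.H.equiv₀ (Coh.toAb ((DCoh.tensorBi.obj L).obj (ClSub.quotMod Z))) Limits.isTerminalTop).symm).symm)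
  haveI : Epi q := by
    haveI := CurveCohLib.isNoetherian_of_proper (k := k) (X := X)
    have hLf : FlatMod.IsFinLocFree L := fun y =>
      let ⟨W, hy, he⟩ := InvEnd.isFinLocFreeOfRank_one hL y; ⟨W, 1, hy, he⟩
    exact (CurveTensor.shortExact_tensor hLf (ClSub.idealModι Z) (ClSub.toSubscheme Z) (kernel.condition _)
      (CurveSlope.shortExact_kernel_of_epi _)).epi_g
  let F := DerSch.stalkFunctor X x
  haveI : IsIso (F.map s) := (ConcreteCategory.isIso_iff_bijective _).2 hs
  have h3 : F.map q = 0 := by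
    have h4 : F.map s ≫ F.map u.hom ≫ F.map q = 0 := by
      rw [← Functor.map_comp, ← Functor.map_comp, ← Category.assoc, h2, Functor.map_zero]
    exact (cancel_epi (F.map u.hom)).1 (((cancel_epi (F.map s)).1 (h4.trans comp_zero.symm)).trans comp_zero.symm)
  obtain ⟨v, hv⟩ := exists_ne (0 : ((DCoh.tensorBi.obj L).obj (ClSub.quotMod Z)).presheaf.stalk x)
  obtain ⟨w, hw⟩ := (ModuleCat.epi_iff_surjective (F.map q)).1 inferInstance v
  rw [h3] at hw
  exact hv hw.symm

variable (k) in
include k in
/-- On an integral curve, degree above `-2χ` kills the first cohomology. -/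
theorem subsingleton_H1_integral [IsIntegral X] (hdim : topologicalKrullDim X = 1) {L : X.Modules}
    (hL : PicF.IsInvertible L)
    (hdeg : -2 * Curv2.euler k X (Coh.structureModule X) < Curv2.deg k X L 1) :
    Subsingleton (Coh.HH X L 1) := by
  haveI := CurveCohLib.isNoetherian_of_proper (k := k) (X := X)
  refine subsingleton_H1_of_subcurves (k := k) hdim (closedDimOne_of_connected k hdim) hL fun J h₁ h₂ h₃ => ?_
  haveI := h₁
  haveI : Surjective J.subschemeι := by
    refine ⟨Set.range_eq_univ.1 ?_⟩
    rw [J.range_subschemeι]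
    by_contra hne
    have hfin : ∀ y ∈ (J.support : Set X), IsClosed ({y} : Set X) := fun y hy => by
      by_contra hy'
      obtain rfl := CurveCohLib.eq_genericPoint_of_not_isClosed hdim hy'
      exact hne (Set.eq_univ_of_forall fun z =>
        ((genericPoint_spec X).specializes (Set.mem_univ z)).mem_closed J.support.isClosed hy)
    have h0 : topologicalKrullDim J.subscheme ≤ 0 := Order.krullDim_nonpos_iff_forall_isMax.2 fun A B hAB => by
      obtain ⟨ξ, hξ⟩ := QuasiSober.sober B.isIrreducible B.isClosed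
      have hcl : IsClosed ({ξ} : Set J.subscheme) := by
        have := (hfin (J.subschemeι ξ) (J.range_subschemeι ▸ Set.mem_range_self ξ)).preimage J.subschemeι.continuous
        rwa [show J.subschemeι ⁻¹' {J.subschemeι ξ} = ({ξ} : Set J.subscheme) from by
          ext y; exact J.subschemeι.isEmbedding.injective.eq_iff] at this
      have hB : (B : Set J.subscheme) = {ξ} := by rw [← hξ.def, hcl.closure_eq]
      obtain ⟨a, ha⟩ := A.isIrreducible.nonempty
      have haξ : a = ξ := (hB ▸ hAB ha : a ∈ ({ξ} : Set J.subscheme))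
      show (B : Set J.subscheme) ⊆ A
      rw [hB, Set.singleton_subset_iff]
      exact haξ ▸ ha
    rw [h₃] at h0
    exact absurd h0 (by decide)
  haveI : IsIso J.subschemeι := isIso_of_isClosedImmersion_of_surjective _
  letI : J.subscheme.Over (Spec (CommRingCat.of k)) := ⟨J.subschemeι ≫ (X ↘ Spec (CommRingCat.of k))⟩
  haveI : IsProper (J.subscheme ↘ Spec (CommRingCat.of k)) :=
    inferInstanceAs (IsProper (J.subschemeι ≫ (X ↘ Spec (CommRingCat.of k))))
  obtain ⟨e⟩ := PicClLib.nonempty_pullback_structureModule J.subschemeι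
  have hχ : Curv2.euler k J.subscheme (Coh.structureModule J.subscheme) = Curv2.euler k X (Coh.structureModule X) := by
    rw [← Euler.euler_congr k e]
    exact AVEuler.euler_pullback_iso (k := k) J.subschemeι rfl QCoh.isQCoh_structureModule
  unfold Curv2.deg at hdeg ⊢
  rw [hχ, AVEuler.euler_pullback_iso (k := k) J.subschemeι rfl (ProjUPX.isQCoh_of_isInvertible hL)]
  exact hdeg

end Groth.Agent.CanonDual
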