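import Groth.Agent.CanonDual.Semistable
import Groth.Agent.HilbSnap.Model
import Groth.Agent.KZ.LFRes

/-! Powers of the twisted dualizing module of a semistable pointed curve. -/

set_option autoImplicit false
set_option linter.style.haveILetI false
set_option linter.unusedSectionVars false
set_option backward.isDefEq.respectTransparency false
set_option backward.isDefEq.respectTransparency.types false

universe u

open CategoryTheory CategoryTheory.Limits AlgebraicGeometry TopologicalSpace Opposite

noncomputable section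

namespace Groth.Agent.CanonDual

open Groth.Agent

variable {k : Type u} [Field k] {X : Scheme.{u}} [X.Over (Spec (CommRingCat.of k))]
  [IsProper (X ↘ Spec (CommRingCat.of k))]

variable (k) in
include k in
/-- A tensor inverse of a coherent ideal is invertible. -/
theorem isInvertible_of_inverse_ideal {N : X.Modules} (I : X.IdealSheafData)
    (h : ClSub.IsInverseOf N (ClSub.idealMod I)) : PicF.IsInvertible N := by
  haveI := CurveCohLib.isNoetherian_of_proper (k := k) (X := X)
  obtain ⟨e⟩ := h
  obtain ⟨c⟩ := H23.PicMul.comm (ClSub.idealMod I) N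
  have hIc : Coh.IsCoh (ClSub.idealMod I) :=
    QCoh.isCoh_kernel QCoh.isCoh_structureModule' (ParShLib.isCoh_quotMod I) _
  have hI : PicF.IsInvertible (ClSub.idealMod I) :=
    HilbSnap.isInvertible_of_tensor_inverse (KZ.LFRes.isFP_of_isCoh hIc) (c ≪≫ e)
  obtain ⟨D, hD, ⟨d⟩⟩ := H23.PicInv.exists_inverse hI
  obtain ⟨a⟩ := H23.PicMul.assoc N (ClSub.idealMod I) D
  obtain ⟨u⟩ := H23.PicMul.unit N
  obtain ⟨u'⟩ := H23.PicMul.unit D
  obtain ⟨c'⟩ := H23.PicMul.comm (Coh.structureModule X) D
  exact H23.PicMul.isInvertible_of_iso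
    (u'.symm ≪≫ c'.symm ≪≫ PicGrp.tensorModIso e.symm (Iso.refl D) ≪≫ a ≪≫
      PicGrp.tensorModIso (Iso.refl N) d ≪≫ u) hD

/-- Powers of `ω ⊗ O(D)` on a semistable pointed curve. -/
theorem semistable_crit [IsAlgClosed k] [IsReduced X] [ConnectedSpace X] (hdim : topologicalKrullDim X = 1)
    (hX : Curv2.AtWorstNodal k X)
    [DCoh.HasRpush (X ↘ Spec (CommRingCat.of k))] (h : DCoh.RpushPreservesQCoh (X ↘ Spec (CommRingCat.of k)))
    [DCoh.HasShriek (X ↘ Spec (CommRingCat.of k)) h]
    (OY : DCoh.DQCoh (Spec (CommRingCat.of k)))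
    (hOY : Nonempty (OY.obj ≅ DCoh.inD (Spec (CommRingCat.of k)) (Coh.structureModule (Spec (CommRingCat.of k)))))
    {D : Set X} (hfin : D.Finite) (hcl : IsClosed D) {N : X.Modules}
    (hinv : ClSub.IsInverseOf N (ClSub.idealMod (Scheme.IdealSheafData.vanishingIdeal ⟨D, hcl⟩)))
    (hss : ∀ (E : Set X) (hE : E ∈ irreducibleComponents (X : Type u)),
      Subsingleton (Coh.HH (Scheme.IdealSheafData.vanishingIdeal ⟨E, isClosed_of_mem_irreducibleComponents E hE⟩).subscheme
        (Coh.structureModule (Scheme.IdealSheafData.vanishingIdeal ⟨E, isClosed_of_mem_irreducibleComponents E hE⟩).subscheme) 1) →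
        2 ≤ (E ∩ closure Eᶜ).ncard + (D ∩ E).ncard)
    (hgn : 0 < 2 * (Curv2.genus k X : ℤ) - 2 + (D.ncard : ℤ))
    {M : X.Modules} (eM : M ≅ CohB1.tensorMod (DCoh.dualizingMod (X ↘ Spec (CommRingCat.of k)) h OY 1) N)
    (m : ℕ) (hm : 2 ≤ m) :
    Subsingleton (Coh.HH X (CohB1.tensorPow M m) 1) ∧ Curv2.IsGloballyGenerated (CohB1.tensorPow M m) := by
  have h0 := SurfRR.finrank_h0_reduced k (X := X)
  have hXc := closedDimOne_of_connected k hdim
  obtain ⟨-, -, hequi⟩ := CurveGenusCmp.oneDim_props k hdim h0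
  have hN := isInvertible_of_inverse_ideal k _ hinv
  obtain ⟨tr, hω⟩ := exists_isRDualOver_dualizingMod h OY hOY (d := 1)
    (fun M hM q hq => subsingleton_HH_curve k hdim.le hM hq)
  have hω' := isInvertible_dualizing_nodal hdim h0 hX hω
  have hM := H23.PicMul.isInvertible_of_iso eM.symm (InvX.isInvertible_tensorMod hω' hN)
  have hsplit : ∀ J : X.IdealSheafData, topologicalKrullDim J.subscheme = 1 →
      @Curv2.deg k _ J.subscheme ⟨J.subschemeι ≫ (X ↘ Spec (CommRingCat.of k))⟩
          ((Scheme.Modules.pullback J.subschemeι).obj M) 1 =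
        @Curv2.deg k _ J.subscheme ⟨J.subschemeι ≫ (X ↘ Spec (CommRingCat.of k))⟩
          ((Scheme.Modules.pullback J.subschemeι).obj (DCoh.dualizingMod (X ↘ Spec (CommRingCat.of k)) h OY 1)) 1 +
        @Curv2.deg k _ J.subscheme ⟨J.subschemeι ≫ (X ↘ Spec (CommRingCat.of k))⟩
          ((Scheme.Modules.pullback J.subschemeι).obj N) 1 := by
    intro J hJ
    letI : J.subscheme.Over (Spec (CommRingCat.of k)) := ⟨J.subschemeι ≫ (X ↘ Spec (CommRingCat.of k))⟩
    haveI : IsProper (J.subscheme ↘ Spec (CommRingCat.of k)) :=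
      inferInstanceAs (IsProper (J.subschemeι ≫ (X ↘ Spec (CommRingCat.of k))))
    obtain ⟨e⟩ := H23.PicMul.pull J.subschemeι (DCoh.dualizingMod (X ↘ Spec (CommRingCat.of k)) h OY 1) N
    rw [← deg_tensorMod hJ.le (PicClLib.isInvertible_pullback _ hω') (PicClLib.isInvertible_pullback _ hN)]
    unfold Curv2.deg
    rw [Euler.euler_congr k ((Scheme.Modules.pullback J.subschemeι).mapIso eM ≪≫ e)]
  have hcomp : ∀ (C : Set X) (hC : C ∈ irreducibleComponents (X : Type u)),
      0 ≤ @Curv2.deg k _ (Scheme.IdealSheafData.vanishingIdeal ⟨C, isClosed_of_mem_irreducibleComponents C hC⟩).subscheme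
        ⟨(Scheme.IdealSheafData.vanishingIdeal ⟨C, isClosed_of_mem_irreducibleComponents C hC⟩).subschemeι ≫ (X ↘ Spec (CommRingCat.of k))⟩
        ((Scheme.Modules.pullback (Scheme.IdealSheafData.vanishingIdeal ⟨C, isClosed_of_mem_irreducibleComponents C hC⟩).subschemeι).obj M) 1 := by
    intro C hC
    obtain ⟨hconn, hC1⟩ := component_props hequi C hC
    set IC := Scheme.IdealSheafData.vanishingIdeal ⟨C, isClosed_of_mem_irreducibleComponents C hC⟩ with hIC
    letI : IC.subscheme.Over (Spec (CommRingCat.of k)) := ⟨IC.subschemeι ≫ (X ↘ Spec (CommRingCat.of k))⟩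
    haveI : IsProper (IC.subscheme ↘ Spec (CommRingCat.of k)) :=
      inferInstanceAs (IsProper (IC.subschemeι ≫ (X ↘ Spec (CommRingCat.of k))))
    haveI : IsReduced IC.subscheme := H23.RedSub.isReduced_vanishingIdeal _
    haveI : ConnectedSpace IC.subscheme := hconn
    obtain ⟨he, -⟩ := deg_dualizing_subcurve (k := k) hdim hω hω' IC hC1
    have hl := ncard_le_deg_restrict k hN hfin hcl hinv IC (closedDimOne_of_connected k hC1) hC1.le
    have hδ := ncard_le_finrank_inter k hXc IC
    have hsupp : (IC.support : Set X) = C := by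
      rw [hIC, Scheme.IdealSheafData.coe_support_vanishingIdeal]
      rfl
    rw [hsupp] at hl hδ
    rw [hsplit IC hC1, he, euler_two hC1.le QCoh.isQCoh_structureModule, SurfRR.finrank_h0_reduced k]
    haveI := CurveCohLib.isNoetherian_of_proper (k := k) (X := IC.subscheme)
    haveI := CurveCohLib.finite_HH (k := k) (QCoh.isCoh_structureModule' (X := IC.subscheme)) 1
    rcases Nat.eq_zero_or_pos (Module.finrank k (Coh.HH IC.subscheme (Coh.structureModule IC.subscheme) 1)) with h1 | h1
    · have h2 := hss C hC (Module.finrank_zero_iff.1 h1)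
      rw [h1]
      push_cast
      omega
    · push_cast
      omega
  have hJdata : ∀ J : X.IdealSheafData, IsReduced J.subscheme → ConnectedSpace J.subscheme →
      topologicalKrullDim J.subscheme = 1 →
      -2 * @Curv2.euler k _ J.subscheme ⟨J.subschemeι ≫ (X ↘ Spec (CommRingCat.of k))⟩
          (Coh.structureModule J.subscheme) + 1 <
        (m : ℤ) * @Curv2.deg k _ J.subscheme ⟨J.subschemeι ≫ (X ↘ Spec (CommRingCat.of k))⟩
          ((Scheme.Modules.pullback J.subschemeι).obj M) 1 := by
    intro J h₁ h₂ h₃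
    haveI := h₁
    haveI := h₂
    letI : J.subscheme.Over (Spec (CommRingCat.of k)) := ⟨J.subschemeι ≫ (X ↘ Spec (CommRingCat.of k))⟩
    haveI : IsProper (J.subscheme ↘ Spec (CommRingCat.of k)) :=
      inferInstanceAs (IsProper (J.subschemeι ≫ (X ↘ Spec (CommRingCat.of k))))
    have hd := (deg_subcurve_nonneg k hdim.le J (closedDimOne_of_connected k h₃) hM fun C hC _ => hcomp C hC).1
    obtain ⟨he, hz⟩ := deg_dualizing_subcurve (k := k) hdim hω hω' J h₃
    have hl := ncard_le_deg_restrict k hN hfin hcl hinv J (closedDimOne_of_connected k h₃) h₃.le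
    have hd2 := hsplit J h₃
    have hm' : (2 : ℤ) ≤ (m : ℤ) := by exact_mod_cast hm
    set d := Curv2.deg k J.subscheme ((Scheme.Modules.pullback J.subschemeι).obj M) 1
    set l := Curv2.deg k J.subscheme ((Scheme.Modules.pullback J.subschemeι).obj N) 1
    set χ := Curv2.euler k J.subscheme (Coh.structureModule J.subscheme)
    set δ := Module.finrank k (Coh.HH X (ClSub.quotMod (J ⊔ compl J)) 0) with hδdef
    rw [he] at hd2
    have hnot : d = 0 → 0 < (δ : ℤ) + l := by
      intro hd0
      by_contra hle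
      have hl0 : l = 0 := by
        have := Int.natCast_nonneg δ
        have := Int.natCast_nonneg (D ∩ (J.support : Set X)).ncard
        omega
      have hδ0 : δ = 0 := by
        have := Int.natCast_nonneg (D ∩ (J.support : Set X)).ncard
        omega
      have huniv := support_eq_univ_of_inter_zero (k := k) J hδ0
      rw [huniv, Set.inter_univ, hl0] at hl
      have h2g := hz hδ0
      rw [he] at h2g
      omega
    have hmul := mul_le_mul_of_nonneg_right hm' hd
    have hl' : 0 ≤ l := le_trans (Int.natCast_nonneg _) hl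
    rcases eq_or_lt_of_le hd with hd0 | hd0
    · have := hnot hd0.symm
      omega
    · omega
  exact isGloballyGenerated_of_subcurves (k := k) hdim hXc (InvX.isInvertible_tensorPow hM m) fun J h₁ h₂ h₃ => by
    rw [deg_restrict_tensorPow J h₃ hM m]
    exact hJdata J h₁ h₂ h₃

end Groth.Agent.CanonDual
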