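import Groth.Agent.CanonDual.Basic
import Groth.Agent.ExtShX.ClosedHom
import Groth.Agent.ExtShX.Killed
import Groth.Agent.ExtShX.DualClosed
import Groth.Prelude.Def_DCoh4

/-!
# The dualizing module of a closed subscheme
-/

set_option autoImplicit false
set_option linter.style.haveILetI false
set_option linter.unusedSectionVars false
set_option backward.isDefEq.respectTransparency false
set_option backward.isDefEq.respectTransparency.types false

universe u

open CategoryTheory CategoryTheory.Limits AlgebraicGeometry TopologicalSpace Opposite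

attribute [local instance] HasDerivedCategory.standard

noncomputable section

namespace Groth.Agent.CanonDual

open Groth.Agent ExtShX.ClosedHom

variable {X Z : Scheme.{u}} (i : Z ⟶ X) [IsClosedImmersion i]

/-- `ℋom(i_* O_Z, G) ≅ i_* i^! G`. -/
theorem nonempty_hom_push_iso (G : X.Modules) :
    Nonempty ((SheafHomX.hom ((Coh.push i).obj (Coh.structureModule Z))).obj G ≅
      (Coh.push i).obj ((shriek i).obj G)) := by
  obtain ⟨e⟩ := nonempty_hom_iso i (Coh.structureModule Z)
  obtain ⟨u⟩ : Nonempty ((SheafHomX.hom (Coh.structureModule Z)).obj ((shriek i).obj G) ≅ (shriek i).obj G) :=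
    ⟨ExtShX.homStructIso.app _⟩
  exact ⟨e.app G ≪≫ (Scheme.Modules.pushforward i).mapIso u⟩

theorem isCoh_shriek [IsLocallyNoetherian X] {G : X.Modules} (hG : Coh.IsCoh G) :
    Coh.IsCoh ((shriek i).obj G) := by
  obtain ⟨e⟩ := nonempty_hom_push_iso i G
  haveI : IsLocallyNoetherian Z := LocallyOfFiniteType.isLocallyNoetherian i
  exact ExtShX.isCoh_of_push i (SheafHomX.isCoh_of_iso e
    (SheafHomX.isCoh_hom (QCoh.isCoh_pushforward_finite i QCoh.isCoh_structureModule') hG))

variable {k : Type u} [Field k] [X.Over (Spec (CommRingCat.of k))] [Z.Over (Spec (CommRingCat.of k))] {r : ℕ}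

/-- `i^! ω` is a dualizing pair on the closed subscheme. -/
theorem exists_isRDualOver_shriek [IsLocallyNoetherian X]
    (hi : i ≫ (X ↘ Spec (CommRingCat.of k)) = Z ↘ Spec (CommRingCat.of k))
    {ω : X.Modules} {tr : Coh.HH X ω r →ₗ[k] k} (hω : Canon.IsRDualOver k X r ω tr) (hωc : Coh.IsCoh ω) :
    ∃ t : Coh.HH Z ((shriek i).obj ω) r →ₗ[k] k, Canon.IsRDualOver k Z r ((shriek i).obj ω) t := by
  obtain ⟨e, he⟩ := ExtShX.exists_push_HH k i hi r
  let c : (Coh.push i).obj ((shriek i).obj ω) ⟶ ω := (shriekAdj i).counit.app ω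
  have hs := (isCoh_shriek i hωc).1
  let t : Coh.HH Z ((shriek i).obj ω) r →ₗ[k] k :=
    tr ∘ₗ Canon.HHlin k c r ∘ₗ (e _ hs).toLinearMap
  refine ⟨t, hs, fun F hF => ?_⟩
  have h1 : Function.Bijective fun φ : F ⟶ (shriek i).obj ω => (Coh.push i).map φ ≫ c := by
    have : (fun φ : F ⟶ (shriek i).obj ω => (Coh.push i).map φ ≫ c) = ⇑((shriekAdj i).homEquiv F ω).symm :=
      funext fun φ => (Adjunction.homEquiv_counit _ _ _ _).symm
    rw [this]
    exact Equiv.bijective _
  have h2 : Function.Bijective fun ψ : (Coh.push i).obj F ⟶ ω =>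
      (Canon.dualityMap k X r ω tr ((Coh.push i).obj F) ψ) ∘ₗ (e F hF).toLinearMap :=
    (e F hF).dualMap.bijective.comp (hω.2 _ (QCoh.isQCoh_pushforward i hF))
  convert h2.comp h1 using 1
  funext φ
  refine LinearMap.ext fun x => ?_
  show tr (Canon.HHlin k c r (e _ hs (Canon.HHlin k φ r x))) = tr (Canon.HHlin k ((Coh.push i).map φ ≫ c) r (e F hF x))
  rw [he F _ hF hs φ x]
  refine congrArg tr ?_
  exact PnDual.HHlin_comp ((Coh.push i).map φ) c r (e F hF x)

theorem nonempty_sheafHom_iso (M : X.Modules) [DCoh.HasSheafHom M] :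
    Nonempty (DCoh.sheafHom M ≅ SheafHomX.hom M) :=
  ⟨(DCoh.sheafHomAdj M).rightAdjointUniq
    ((SheafHomX.adj M).ofNatIsoLeft ((KFlatLib.tensorBiFlipIso X).app M))⟩

end Groth.Agent.CanonDual
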