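import Groth.Agent.CanonDual.Curve
import Groth.Agent.ExtShX.CanonPn
import Groth.Agent.ExtShX.TraceBij
import Groth.Agent.TFQuot.Sub
import Groth.Agent.Proj16.CurveTop
import Groth.Agent.VarDim.Top
import Groth.Agent.H23.InvStalk

/-!
# The dualizing module of a reduced curve is torsion-free of rank one
-/

set_option autoImplicit false
set_option linter.style.haveILetI false
set_option linter.unusedSectionVars false
set_option backward.isDefEq.respectTransparency false
set_option backward.isDefEq.respectTransparency.types false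

universe u

open CategoryTheory CategoryTheory.Limits AlgebraicGeometry TopologicalSpace Opposite

noncomputable section

namespace Groth.Agent.CanonDual

open Groth.Agent

section General

variable {X : Scheme.{u}}

theorem isMaximal_of_generic {η : X} (hη : η ∈ genericPoints X) : Proj16.IsMaximalPoint η :=
  fun _ h => TFQuot.eq_of_specializes_generic hη h

theorem torsionFree_of_mono {M N : X.Modules} (j : M ⟶ N) [Mono j] (hN : TorSh.IsTorsionFree N) :
    TorSh.IsTorsionFree M := fun x => by
  refine ⟨fun r hr v w h => ?_⟩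
  refine TFQuot.st_injective j x ((hN x).isSMulRegular hr ?_)
  exact ((map_smul (TFQuot.st j x).hom r v).symm.trans (congrArg (TFQuot.st j x).hom h)).trans
    (map_smul (TFQuot.st j x).hom r w)

theorem torsionFree_invertible {L : X.Modules} (hL : PicF.IsInvertible L) : TorSh.IsTorsionFree L := fun x => by
  obtain ⟨l⟩ := H23.InvStalk.exists_stalk_equiv hL x
  exact Function.Injective.moduleIsTorsionFree l l.injective fun r m => map_smul l r m

end General

variable {k : Type u} [Field k] {X : Scheme.{u}} [X.Over (Spec (CommRingCat.of k))]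
  [IsProper (X ↘ Spec (CommRingCat.of k))]

variable (k) in
include k in
theorem components_dim_one (hX : Proj16.ClosedDimOne X) :
    ∀ Z ∈ irreducibleComponents (X : Type u), topologicalKrullDim Z = (1 : ℕ) := fun C hC => by
  let p := X ↘ Spec (CommRingCat.of k)
  obtain ⟨η, hη⟩ := QuasiSober.sober hC.1 (isClosed_of_mem_irreducibleComponents C hC)
  have hm : Proj16.IsMaximalPoint η := Proj16.isMaximalPoint_of_closure (by rw [hη.def]; exact hC)
  rw [← hη.def, VarDim.topologicalKrullDim_closure_singleton p η, (Proj16.closedDimOne_iff_deg p).1 hX η hm]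
  rfl

/-- The dualizing module of a reduced curve is torsion-free of rank one. -/
theorem isTF1_dualizing [IsReduced X] (hdim : topologicalKrullDim X = 1) (hX : Proj16.ClosedDimOne X)
    {ω : X.Modules} {tr : Coh.HH X ω 1 →ₗ[k] k} (hω : Canon.IsRDualOver k X 1 ω tr) : TFOne.IsTF1 X ω := by
  obtain ⟨N, ι, hι, hιf⟩ := exists_embedding (k := k) hdim.le
  let ι' : X ⟶ PnVan.P k N := ι
  haveI : IsClosedImmersion ι' := hι
  haveI := hι
  haveI : IsLocallyNoetherian X := LocallyOfFiniteType.isLocallyNoetherian (X ↘ Spec (CommRingCat.of k))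
  haveI : CompactSpace X := QuasiCompact.compactSpace_of_compactSpace (X ↘ Spec (CommRingCat.of k))
  haveI hP : IsNoetherian (PnVan.P k N) := PnVan.noethP (k := k) (r := N)
  have hN : 1 ≤ N := PnVan.dim_le ι' (show topologicalKrullDim X = (1 : ℕ) from hdim)
  have hL : PicF.IsInvertible (Twist.twistProjSpace N k (-((N : ℤ) + 1))) := PnVan.invertible_twist _
  obtain ⟨ω', ⟨a⟩⟩ := ExtShX.exists_push_iso_E ι' (G := Twist.twistProjSpace N k (-((N : ℤ) + 1)))
    (ProjSerre.isCoh_twist (𝒜 := CohB1.polyGrading N k) _) (N - 1)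
  obtain ⟨hωc, t, ht⟩ := ExtShX.exists_dualizing_closed k ι hιf (n := 1) (c := N - 1) (by omega)
    ((add_le_add hdim.le le_rfl).trans (by exact_mod_cast (by omega : 1 + (N - 1) ≤ N))) a
  have h' : Canon.IsRDualOver k X 1 ω' t := ⟨hωc.1, fun F hF => PnDual.bijective_of_ftSub hF fun G hG =>
      ht _ ⟨QCoh.isQCoh_of_ftOn hF hG, QCoh.isFT_of_ftOn hF hG⟩⟩
  obtain ⟨ρ, hρ⟩ := (hω.2 ω' hωc.1).2 t
  haveI := isIso_of_trace hω h' ρ hρ
  have heq := components_dim_one k hX
  refine ⟨SheafHomX.isCoh_of_iso (asIso ρ) hωc, torsionFree_of_mono (inv ρ) fun x => ⟨fun r hr => ?_⟩, fun η hη => ?_⟩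
  · rw [isSMulRegular_iff_right_eq_zero_of_smul]
    intro w hw
    refine ExtShX.canon_smul_eq_zero ι hN heq hL ⟨a⟩ x r (fun p hp hrp => ?_) w hw
    exact Set.disjoint_left.1 (Ideal.disjoint_nonZeroDivisors_of_mem_minimalPrimes hp)
      hrp (isRegular_iff_mem_nonZeroDivisors.1 hr)
  · obtain ⟨hf, v, hv, hgen⟩ := ExtShX.canon_gen ι hN heq hL ⟨a⟩ (isMaximal_of_generic hη)
    have hinj : Function.Injective (LinearMap.toSpanSingleton (X.presheaf.stalk η) (ω'.presheaf.stalk η) v) := by
      refine (injective_iff_map_eq_zero _).2 fun r hr => ?_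
      by_contra hr0
      obtain ⟨s, hs⟩ := hf.mul_inv_cancel hr0
      rw [LinearMap.toSpanSingleton_apply] at hr
      exact hv (by rw [← one_smul (X.presheaf.stalk η) v, ← hs, mul_comm, mul_smul, hr, smul_zero])
    exact ⟨((DerSch.stalkFunctor X η).mapIso (asIso ρ)).toLinearEquiv.symm.trans
      (LinearEquiv.ofBijective _ ⟨hinj, fun w => hgen w⟩).symm⟩

end Groth.Agent.CanonDual
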