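import Groth.Agent.CanonDual.DualGraph
import Groth.Agent.CanonDual.Components
import Groth.Agent.CanonDual.Nodal
import Groth.Agent.CurveEmbed.Conic
import Groth.Agent.Lib.CurveSection
import Groth.Agent.S7810
import Groth.Prelude

/-!
# Rational tails and bridges by counting
-/

set_option autoImplicit false
set_option linter.style.haveILetI false
set_option linter.unusedSectionVars false
set_option backward.isDefEq.respectTransparency false
set_option backward.isDefEq.respectTransparency.types false
set_option maxHeartbeats 1000000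

universe u

open CategoryTheory CategoryTheory.Limits AlgebraicGeometry TopologicalSpace
open Curves

namespace Groth.Agent.CanonDual

variable (k : Type u) [Field k] [IsAlgClosed k] {X : Scheme.{u}} [X.Over (Spec (CommRingCat.of k))]
  [IsProper (X ↘ Spec (CommRingCat.of k))] [ConnectedSpace X]

include k in
/-- The points of a component on the other components. -/
theorem meetPts_eq (C : Set X) (hC : C ∈ irreducibleComponents (X : Type u)) :
    CurvSt.meetPts X C = C ∩ closure Cᶜ := by
  haveI := CurveCohLib.isNoetherian_of_proper (k := k) (X := X)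
  ext p
  constructor
  · rintro ⟨hp, E', hE', hne, hpE⟩
    have hnsub : ¬ E' ⊆ C := fun hs => hne (Set.Subset.antisymm hs (hE'.2 hC.1 hs))
    obtain ⟨y, hy, hyC⟩ := Set.not_subset.1 hnsub
    exact ⟨hp, closure_mono Set.inter_subset_right (subset_closure_inter_of_isPreirreducible_of_isOpen hE'.1.2
      (isClosed_of_mem_irreducibleComponents C hC).isOpen_compl ⟨y, hy, hyC⟩ hpE)⟩
  · rintro ⟨hp, hpc⟩
    have hsub : closure Cᶜ ⊆ ⋃₀ (irreducibleComponents (X : Type u) \ {C}) := by
      refine closure_minimal (fun y hy => ⟨irreducibleComponent y,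
        ⟨irreducibleComponent_mem_irreducibleComponents y, fun h => ?_⟩, mem_irreducibleComponent⟩) ?_
      · exact hy ((show irreducibleComponent y = C from h) ▸ mem_irreducibleComponent)
      · rw [Set.sUnion_eq_biUnion]
        exact (NoetherianSpace.finite_irreducibleComponents.subset Set.sdiff_subset).isClosed_biUnion
          fun Z hZ => isClosed_of_mem_irreducibleComponents Z hZ.1
    obtain ⟨Z, ⟨hZ, hne⟩, hpZ⟩ := hsub hpc
    exact ⟨hp, Z, hZ, hne, hpZ⟩

/-- Tails, bridges and smooth rational components through numbers. -/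
theorem tail_bridge_iff (hdim : topologicalKrullDim X = 1) (hX : Curv2.AtWorstNodal k X)
    (C : Set X) (hC : C ∈ irreducibleComponents (X : Type u)) :
    (Curv2.IsRationalTail X C hC ↔
      Subsingleton (Coh.HH (Scheme.IdealSheafData.vanishingIdeal ⟨C, isClosed_of_mem_irreducibleComponents C hC⟩).subscheme
        (Coh.structureModule (Scheme.IdealSheafData.vanishingIdeal ⟨C, isClosed_of_mem_irreducibleComponents C hC⟩).subscheme) 1) ∧
      (C ∩ closure Cᶜ).ncard = 1) ∧
    (Curv2.IsRationalBridge k X C hC ↔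
      Subsingleton (Coh.HH (Scheme.IdealSheafData.vanishingIdeal ⟨C, isClosed_of_mem_irreducibleComponents C hC⟩).subscheme
        (Coh.structureModule (Scheme.IdealSheafData.vanishingIdeal ⟨C, isClosed_of_mem_irreducibleComponents C hC⟩).subscheme) 1) ∧
      (C ∩ closure Cᶜ).ncard = 2) ∧
    (C ∩ closure Cᶜ).Finite ∧
    (CurvSt.IsSmRatComp k X (X ↘ Spec (CommRingCat.of k)) C ↔
      Subsingleton (Coh.HH (Scheme.IdealSheafData.vanishingIdeal ⟨C, isClosed_of_mem_irreducibleComponents C hC⟩).subscheme
        (Coh.structureModule (Scheme.IdealSheafData.vanishingIdeal ⟨C, isClosed_of_mem_irreducibleComponents C hC⟩).subscheme) 1)) := by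
  haveI := CurveCohLib.isNoetherian_of_proper (k := k) (X := X)
  haveI := isReduced_of_nodal k hdim.le hX
  have hXc := closedDimOne_of_connected k hdim
  have hequi : ∀ Z ∈ irreducibleComponents (X : Type u), topologicalKrullDim Z = 1 := fun Z hZ => by
    exact_mod_cast components_dim_one k hXc Z hZ
  obtain ⟨hconn, hC1⟩ := component_props hequi C hC
  have hker := compl_component k C (isClosed_of_mem_irreducibleComponents C hC)
  unfold Curv2.IsRationalTail Curv2.IsRationalBridge
  dsimp only
  set IK := (Scheme.Opens.ι (⟨Cᶜ, (isClosed_of_mem_irreducibleComponents C hC).isOpen_compl⟩ : X.Opens)).ker with hIK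
  set IC := Scheme.IdealSheafData.vanishingIdeal (⟨C, isClosed_of_mem_irreducibleComponents C hC⟩ : Closeds X) with hICd
  haveI := hconn
  haveI hred : IsReduced IC.subscheme := H23.RedSub.isReduced_vanishingIdeal _
  have hsupp : (IC.support : Set X) = C := Scheme.IdealSheafData.coe_support_vanishingIdeal _
  letI : IC.subscheme.Over (Spec (CommRingCat.of k)) := ⟨IC.subschemeι ≫ (X ↘ Spec (CommRingCat.of k))⟩
  haveI : IsProper (IC.subscheme ↘ Spec (CommRingCat.of k)) :=
    inferInstanceAs (IsProper (IC.subschemeι ≫ (X ↘ Spec (CommRingCat.of k))))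
  haveI : IrreducibleSpace IC.subscheme := by
    let e : IC.subscheme ≃ₜ C := IC.subschemeι.isEmbedding.toHomeomorph.trans
      (Homeomorph.setCongr (IC.range_subschemeι.trans hsupp))
    haveI : IrreducibleSpace C := Subtype.irreducibleSpace hC.1
    exact e.symm.surjective.irreducibleSpace e.symm.continuous
  haveI : IsIntegral IC.subscheme := isIntegral_of_irreducibleSpace_of_isReduced _
  have hn := finrank_inter_eq hdim hX IC hC1
  have hKs : ((IC ⊔ IK).support : Set X) = C ∩ closure Cᶜ := by
    rw [hker, Scheme.IdealSheafData.support_sup]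
    show (IC.support : Set X) ∩ ((compl IC).support : Set X) = _
    rw [show ((compl IC).support : Set X) = closure ((IC.support : Set X)ᶜ) from
      Scheme.IdealSheafData.coe_support_vanishingIdeal _, hsupp]
  rw [hsupp, ← hker] at hn
  haveI : Finite (IC ⊔ IK).subscheme := by rw [hker]; exact finite_inter k hXc IC
  have hfin : (C ∩ closure Cᶜ).Finite := by
    rw [← hKs, ← (IC ⊔ IK).range_subschemeι]
    exact Set.finite_range _
  have hh0 : Module.finrank k (Coh.HH X (ClSub.quotMod IC) 0) = 1 := by
    rw [finrank_HH_quotMod]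
    exact SurfRR.finrank_h0_reduced k (X := IC.subscheme)
  have hne : (C ∩ closure Cᶜ).Nonempty → (IK.support : Set X).Nonempty := fun ⟨x, hx⟩ =>
    ⟨x, by rw [hker, show ((compl IC).support : Set X) = closure ((IC.support : Set X)ᶜ) from
      Scheme.IdealSheafData.coe_support_vanishingIdeal _, hsupp]; exact hx.2⟩
  refine ⟨⟨fun ⟨_, hKne, hsub, _, _, h1⟩ => ⟨h1, ?_⟩, fun ⟨h1, hone⟩ => ?_⟩,
    ⟨fun ⟨_, hd, h1⟩ => ⟨h1, by rw [hn, hh0] at hd; omega⟩,
      fun ⟨h1, htwo⟩ => ⟨hne (Set.nonempty_of_ncard_ne_zero (by omega)), by rw [hn, hh0, htwo], h1⟩⟩,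
    hfin, ?_, fun h1 => ?_⟩
  · rw [← hKs, ← (IC ⊔ IK).range_subschemeι, ← Set.image_univ,
      Set.ncard_image_of_injective _ (IC ⊔ IK).subschemeι.isEmbedding.injective, Set.ncard_univ]
    exact Nat.card_eq_one_iff_unique.2 ⟨hsub, hKne⟩
  · let K := IC ⊔ IK
    letI : K.subscheme.Over (Spec (CommRingCat.of k)) := ⟨K.subschemeι ≫ (X ↘ Spec (CommRingCat.of k))⟩
    haveI : IsProper (K.subscheme ↘ Spec (CommRingCat.of k)) :=
      inferInstanceAs (IsProper (K.subschemeι ≫ (X ↘ Spec (CommRingCat.of k))))
    haveI : Finite K.subscheme := ‹Finite (IC ⊔ IK).subscheme›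
    have hKne : Nonempty K.subscheme := by
      obtain ⟨x, hx⟩ := Set.nonempty_of_ncard_ne_zero (s := C ∩ closure Cᶜ) (by omega)
      rw [← hKs, ← (IC ⊔ IK).range_subschemeι] at hx
      obtain ⟨z, -⟩ := hx
      exact ⟨z⟩
    let i : K.subscheme ⟶ IC.subscheme := Scheme.IdealSheafData.inclusion (le_sup_left : IC ≤ K)
    have hi : i ≫ (IC.subscheme ↘ Spec (CommRingCat.of k)) = K.subscheme ↘ Spec (CommRingCat.of k) := by
      show i ≫ IC.subschemeι ≫ _ = K.subschemeι ≫ _
      rw [← Category.assoc, Scheme.IdealSheafData.inclusion_subschemeι]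
    obtain ⟨-, hpoint⟩ := finrank_finite_scheme k i hi (GeomField.isField_globalFunctions k IC.subscheme)
    rw [finrank_HH_quotMod, hone] at hn
    obtain ⟨hs, hr, hev⟩ := hpoint hKne (hn.trans (SurfRR.finrank_h0_reduced k (X := IC.subscheme)).symm)
    exact ⟨hne (Set.nonempty_of_ncard_ne_zero (by omega)), hKne, hs, hr, fun c => hev c, h1⟩
  · rintro ⟨-, e, hei, heq, her⟩
    haveI := hei
    have hrange : Set.range e = Set.range IC.subschemeι := by rw [IC.range_subschemeι, hsupp]; exact her
    haveI : IsReduced (CohB1.ProjSpace 1 k) := by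
      haveI := H23.PnChart.isIntegral_projSpace 1 k
      infer_instance
    have hIe : e.ker = IC := by
      rw [ker_eq_vanishingIdeal e (S := ⟨C, isClosed_of_mem_irreducibleComponents C hC⟩) her, hICd]
    let θ : CohB1.ProjSpace 1 k ⟶ IC.subscheme := IsClosedImmersion.lift IC.subschemeι e
      (by rw [Scheme.IdealSheafData.ker_subschemeι]; exact hIe.ge)
    haveI : IsIso θ := IsClosedImmersion.isIso_lift IC.subschemeι e
      (by rw [Scheme.IdealSheafData.ker_subschemeι]; exact hIe.symm)
    letI : (CohB1.ProjSpace 1 k).Over (Spec (CommRingCat.of k)) := ⟨CohB1.ProjSpace.toSpec 1 k⟩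
    haveI : IsProper (CohB1.ProjSpace 1 k ↘ Spec (CommRingCat.of k)) := PnCoh.Chow.isProper_toSpec 1 k
    have hθ : θ ≫ (IC.subscheme ↘ Spec (CommRingCat.of k)) = CohB1.ProjSpace.toSpec 1 k := by
      show θ ≫ IC.subschemeι ≫ _ = _
      rw [← Category.assoc, IsClosedImmersion.lift_fac, heq]
    have hpb : IsPullback θ (CohB1.ProjSpace 1 k ↘ Spec (CommRingCat.of k)) (IC.subscheme ↘ Spec (CommRingCat.of k))
        (Spec.map (CommRingCat.ofHom (algebraMap k k))) := by
      haveI : IsIso (Spec.map (CommRingCat.ofHom (algebraMap k k))) := by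
        rw [show CommRingCat.ofHom (algebraMap k k) = 𝟙 (CommRingCat.of k) from rfl, Spec.map_id]
        infer_instance
      refine IsPullback.of_horiz_isIso ⟨?_⟩
      rw [show CommRingCat.ofHom (algebraMap k k) = 𝟙 (CommRingCat.of k) from rfl, Spec.map_id, Category.comp_id]
      exact hθ
    haveI := CurveCohLib.isNoetherian_of_proper (k := k) (X := IC.subscheme)
    haveI : CompactSpace IC.subscheme := QuasiCompact.compactSpace_of_compactSpace (IC.subscheme ↘ Spec (CommRingCat.of k))
    have h := CurveBC.finrank_hh_unit k k θ hpb 1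
    have h2 : Module.finrank k (Coh.HH (CohB1.ProjSpace 1 k) (Coh.structureModule (CohB1.ProjSpace 1 k)) 1) = 0 :=
      (S7810.projLine_facts k).2
    haveI := CurveCohLib.isNoetherian_of_proper (k := k) (X := IC.subscheme)
    haveI := CurveCohLib.finite_HH (k := k) (QCoh.isCoh_structureModule' (X := IC.subscheme)) 1
    refine (Module.finrank_zero_iff (R := k)).1 ?_
    first | exact h.trans h2 | exact h.symm.trans h2
  · haveI := CurveCohLib.isNoetherian_of_proper (k := k) (X := IC.subscheme)
    haveI : JacobsonSpace IC.subscheme := LocallyOfFiniteType.jacobsonSpace (IC.subscheme ↘ Spec (CommRingCat.of k))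
    let f := IC.subscheme ↘ Spec (CommRingCat.of k)
    obtain ⟨x, hxs, hx⟩ := nonempty_inter_closedPoints
      (Z := ((f.smoothLocus : IC.subscheme.Opens) : Set IC.subscheme))
      ⟨genericPoint IC.subscheme, f.genericPoint_mem_smoothLocus_of_perfectField⟩ f.smoothLocus.2.isLocallyClosed
    obtain ⟨ε, hε⟩ := CurveEmbed.exists_iso_line_of_point k hC1 h1 hx hxs (CurveSection.surjective_resMap k hx)
    refine ⟨hC, ε.inv ≫ IC.subschemeι, inferInstance, ?_, ?_⟩
    · rw [Category.assoc]
      show ε.inv ≫ (IC.subscheme ↘ Spec (CommRingCat.of k)) = _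
      rw [← hε, Iso.inv_hom_id_assoc]
    · rw [Scheme.Hom.comp_base, TopCat.coe_comp, Set.range_comp,
        (Set.range_eq_univ.2 ε.inv.homeomorph.surjective : Set.range ε.inv.base = Set.univ), Set.image_univ,
        IC.range_subschemeι, hsupp]

end Groth.Agent.CanonDual
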