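import Mathlib.RingTheory.Localization.NormTrace
import Mathlib.RingTheory.LocalProperties.Reduced
import Mathlib.RingTheory.Artinian.Module
import Mathlib.RingTheory.SimpleModule.Basic
import Mathlib.RingTheory.Localization.Finiteness

/-!
# The trace pairing of a reduced finite free algebra in characteristic zero

If all traces `tr (a * b)` vanish then `a = 0`: otherwise `a` would generate, after passing to the
fraction field, a nonzero idempotent of trace zero.
-/

set_option autoImplicit false

universe u

namespace Groth.Agent.CanonDual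

theorem eq_zero_of_trace_mul_reduced {R S : Type u} [CommRing R] [CommRing S] [IsDomain R] [CharZero R]
    [Algebra R S] [Module.Free R S] [Module.Finite R S] [IsReduced S] (a : S)
    (h : ∀ b, Algebra.trace R S (a * b) = 0) : a = 0 := by
  classical
  let M := Algebra.algebraMapSubmonoid S (nonZeroDivisors R)
  let K := FractionRing R
  let L := Localization M
  letI : Algebra K L := localizationAlgebra (nonZeroDivisors R) S
  haveI : IsScalarTower R K L := IsScalarTower.of_algebraMap_eq' (by
    rw [IsScalarTower.algebraMap_eq R S L]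
    exact (IsLocalization.map_comp (show nonZeroDivisors R ≤ M.comap (algebraMap R S) from
      fun x hx => ⟨x, hx, rfl⟩)).symm)
  haveI : CharZero K := charZero_of_injective_algebraMap (IsFractionRing.injective R K)
  haveI : Module.Finite K L := Module.Finite.of_isLocalization R S (nonZeroDivisors R)
  have hinj : ∀ z : S, algebraMap S L z = 0 → z = 0 := fun z hz => by
    obtain ⟨⟨_, r, hr, rfl⟩, hm⟩ := (IsLocalization.map_eq_zero_iff M L z).1 hz
    have hrz : r • z = 0 := by rw [Algebra.smul_def]; exact hm
    exact (smul_eq_zero.1 hrz).resolve_left (nonZeroDivisors.ne_zero hr)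
  let a' := algebraMap S L a
  have h' : ∀ y : L, Algebra.trace K L (a' * y) = 0 := fun y => by
    obtain ⟨s, ⟨_, r, hr, rfl⟩, rfl⟩ := IsLocalization.exists_mk'_eq M y
    have hr0 : algebraMap R K r ≠ 0 := IsLocalization.to_map_ne_zero_of_mem_nonZeroDivisors K le_rfl hr
    refine (smul_eq_zero.1 ?_).resolve_left hr0
    rw [← map_smul, Algebra.smul_def, ← IsScalarTower.algebraMap_apply R K L,
      IsScalarTower.algebraMap_apply R S L, mul_left_comm]
    rw [show algebraMap S L (algebraMap R S r) * IsLocalization.mk' L s
        (⟨algebraMap R S r, r, hr, rfl⟩ : M) = algebraMap S L s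
      from IsLocalization.mk'_spec' L s (⟨algebraMap R S r, r, hr, rfl⟩ : M), ← map_mul,
      Algebra.trace_localization R (nonZeroDivisors R), h, map_zero]
  haveI : IsArtinianRing L := IsArtinianRing.of_finite K L
  haveI hsemi : IsSemisimpleRing L := IsArtinianRing.isSemisimpleRing_of_isReduced L
  obtain ⟨e, he, hspan⟩ := IsSemisimpleRing.ideal_eq_span_idempotent (Ideal.span {a'})
  obtain ⟨d, hd⟩ : ∃ d, d * a' = e := Ideal.mem_span_singleton'.1
    (hspan.symm ▸ Ideal.subset_span (Set.mem_singleton e))
  obtain ⟨c, hc⟩ : ∃ c, c * e = a' := Ideal.mem_span_singleton'.1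
    (hspan ▸ Ideal.subset_span (Set.mem_singleton a'))
  let P : L →ₗ[K] L := Algebra.lmul K L e
  have hproj : LinearMap.IsProj (LinearMap.range P) P := ⟨fun x => ⟨x, rfl⟩, by
    rintro _ ⟨y, rfl⟩
    show e * (e * y) = e * y
    rw [← mul_assoc, he.eq]⟩
  have ht : LinearMap.trace K L P = 0 := by
    show Algebra.trace K L e = 0
    rw [← hd, mul_comm]
    exact h' d
  rw [hproj.trace, Nat.cast_eq_zero, Submodule.finrank_eq_zero] at ht
  have he0 : e = 0 := by
    have h1 : P 1 ∈ LinearMap.range P := ⟨1, rfl⟩
    rw [ht, Submodule.mem_bot] at h1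
    exact (mul_one e).symm.trans h1
  exact hinj a (by rw [show algebraMap S L a = a' from rfl, ← hc, he0, mul_zero])

end Groth.Agent.CanonDual
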