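import Groth.Agent.CurveTraceDeg.Main
import Groth.Agent.CanonDual.TraceReduced
import Groth.Agent.CanonDual.Curve
import Groth.Agent.TorLib.Basic
import Groth.Agent.FlatDvr.FibreStalk
import Groth.Agent.QCoh.LocFree

/-!
# Degree of the direct image of a finite flat cover with reduced generic fibre
-/

set_option autoImplicit false
set_option linter.style.haveILetI false
set_option linter.unusedSectionVars false
set_option backward.isDefEq.respectTransparency false
set_option backward.isDefEq.respectTransparency.types false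
set_option maxHeartbeats 1000000

universe u

open CategoryTheory CategoryTheory.Limits AlgebraicGeometry TopologicalSpace Opposite

noncomputable section

namespace Groth.Agent.CanonDual

open Groth.Agent Groth.Agent.CurveTraceDeg RefHull Groth.Agent.CurveBundle Groth.Agent.CurveSlope

variable {X Y : Scheme.{u}} (f : X ⟶ Y) [IsFinite f] [IsIntegral Y]

/-- Nilpotent functions over an open die at every point over the generic point. -/
theorem germ_eq_zero_of_isNilpotent (hred : IsReduced (f.fiber (genericPoint Y)))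
    {V : Y.Opens} {z : Γ(X, f ⁻¹ᵁ V)} (hz : IsNilpotent z) (x : X) (hxV : x ∈ f ⁻¹ᵁ V)
    (hx : f x = genericPoint Y) : X.presheaf.germ (f ⁻¹ᵁ V) x hxV z = 0 := by
  obtain ⟨w, rfl⟩ : ∃ w, f.fiberι (genericPoint Y) w = x := by
    have : x ∈ Set.range (f.fiberι (genericPoint Y)) := by
      rw [Scheme.Hom.range_fiberι]
      exact hx
    exact this
  have hfield : IsField (Y.presheaf.stalk (f (f.fiberι (genericPoint Y) w))) := by
    rw [hx]
    exact CurveBundle.isField_stalk_generic (X := Y)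
  have hker := FlatDvr.ker_stalkMap_fiberι f w
  rw [IsLocalRing.isField_iff_maximalIdeal_eq.1 hfield, Ideal.map_bot] at hker
  refine (RingHom.injective_iff_ker_eq_bot _).2 hker ?_
  rw [map_zero]
  exact ((hz.map (X.presheaf.germ (f ⁻¹ᵁ V) _ hxV).hom).map ((f.fiberι (genericPoint Y)).stalkMap w).hom).eq_zero

/-- The functions over an open form a reduced ring. -/
theorem isReduced_sections (hA : FlatMod.IsFinLocFree (push f)) [IsLocallyNoetherian Y]
    (hred : IsReduced (f.fiber (genericPoint Y))) {V : Y.Opens} (hne : (V : Set Y).Nonempty) :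
    _root_.IsReduced Γ(X, f ⁻¹ᵁ V) := by
  refine ⟨fun z hz => ?_⟩
  have hη : genericPoint Y ∈ V :=
    ((genericPoint_spec Y).specializes (Set.mem_univ hne.some)).mem_open V.2 hne.some_mem
  -- where `z` vanishes
  let G : Set X := {x | ∃ (W : X.Opens) (h : W ≤ f ⁻¹ᵁ V), x ∈ W ∧ X.presheaf.map (homOfLE h).op z = 0}
  have hGo : IsOpen G := by
    rw [isOpen_iff_forall_mem_open]
    rintro x ⟨W, h, hxW, h0⟩
    exact ⟨W, fun y hy => ⟨W, h, hy, h0⟩, W.2, hxW⟩
  have hfG : ∀ x, f x = genericPoint Y → x ∈ G := fun x hx => by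
    have hxV : x ∈ f ⁻¹ᵁ V := show f x ∈ V by rw [hx]; exact hη
    obtain ⟨W, hW, i, j, e⟩ := X.presheaf.germ_eq (U := f ⁻¹ᵁ V) (V := f ⁻¹ᵁ V) x hxV hxV z 0
      ((germ_eq_zero_of_isNilpotent f hred hz x hxV hx).trans (map_zero _).symm)
    exact ⟨W, i.le, hW, e.trans (map_zero _)⟩
  have hcl : IsClosed (f '' Gᶜ) := f.isClosedMap _ hGo.isClosed_compl
  let V' : Y.Opens := ⟨(f '' Gᶜ)ᶜ, hcl.isOpen_compl⟩ ⊓ V
  have hηV' : genericPoint Y ∈ V' := ⟨fun ⟨x, hx, hfx⟩ => hx (hfG x hfx), hη⟩
  have hle : f ⁻¹ᵁ V' ≤ f ⁻¹ᵁ V := f.preimage_mono inf_le_right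
  have h0 : X.presheaf.map (homOfLE hle).op z = 0 := by
    refine TopCat.Presheaf.section_ext ⟨X.presheaf, X.sheaf.2⟩ (f ⁻¹ᵁ V') _ _ fun x hx => ?_
    show X.presheaf.germ _ x hx _ = X.presheaf.germ _ x hx 0
    obtain ⟨W, h, hxW, hW0⟩ : x ∈ G := by
      by_contra hn
      exact hx.1 ⟨x, hn, rfl⟩
    rw [map_zero, X.presheaf.germ_res_apply, ← X.presheaf.germ_res_apply (homOfLE h) x hxW, hW0, map_zero]
  have htf : TorSh.IsTorsionFree (push f) := fun y => by
    haveI := QCoh.free_stalk_of_isFinLocFree hA y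
    infer_instance
  show toFn f (ofFn f z) = toFn f 0
  refine congrArg (toFn f) (TorLib.eq_zero_of_germ_genericPoint
    (CurveDeg.isCoh_of_isFinLocFree hA).1 htf hη (ofFn f z) ?_)
  rw [← (push f).presheaf.germ_res_apply (homOfLE (inf_le_right : V' ≤ V)) (genericPoint Y) hηV', res_eq]
  exact (congrArg ((push f).presheaf.germ V' (genericPoint Y) hηV') h0).trans (map_zero _)

variable {f}

/-- The trace pairing is injective when the generic fibre is reduced and the base has characteristic zero. -/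
theorem mono_toDual_of_reduced (hA : FlatMod.IsFinLocFree (push f)) [IsLocallyNoetherian Y]
    (hchar : ∀ V : Y.Opens, (V : Set Y).Nonempty → CharZero Γ(Y, V))
    (hred : IsReduced (f.fiber (genericPoint Y))) : Mono (toDual hA) := by
  refine Preadditive.mono_of_cancel_zero _ fun {Z} g hg => CurveHom.eq_zero_of_stalk g fun y w => ?_
  have key : ∀ v : (push f).presheaf.stalk y, stalkMapₗ (toDual hA) y v = 0 → v = 0 := by
    intro v hv
    have hp : pairLin hA y v = 0 := by
      rw [← evalStalk_toDual hA y v, hv, map_zero]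
    obtain ⟨U₀, hyU₀, a₀, rfl⟩ := TopCat.Presheaf.exists_germ_eq (push f).presheaf v
    obtain ⟨U, n, hyU, ⟨eU⟩⟩ := hA y
    obtain ⟨_, ⟨V, hV, rfl⟩, hyV, hle⟩ :=
      Y.isBasis_affineOpens.exists_subset_of_mem_open (⟨hyU, hyU₀⟩ : y ∈ U ⊓ U₀) (U ⊓ U₀).2
    obtain ⟨l⟩ := QCoh.free_sections hV (le_trans hle inf_le_left) eU
    letI := H23.CoverPush.alg f V
    let e' : Γ(X, f ⁻¹ᵁ V) ≃ₗ[Γ(Y, V)] _ := { l with map_smul' := fun r x => l.map_smul r x }
    have hfree : Module.Free Γ(Y, V) Γ(X, f ⁻¹ᵁ V) := Module.Free.of_equiv e'.symm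
    have hfin : Module.Finite Γ(Y, V) Γ(X, f ⁻¹ᵁ V) := Module.Finite.equiv e'.symm
    haveI : Nonempty V := ⟨⟨y, hyV⟩⟩
    haveI := hfree
    haveI := hfin
    haveI := hchar V ⟨y, hyV⟩
    haveI : IsDomain Γ(Y, V) := inferInstance
    haveI : _root_.IsReduced Γ(X, f ⁻¹ᵁ V) := isReduced_sections f hA hred ⟨y, hyV⟩
    rw [← germ_res_P (le_trans hle inf_le_right : V ≤ U₀) hyV a₀] at hp ⊢
    refine (congrArg ((push f).presheaf.germ V y hyV) ?_).trans (map_zero _)
    refine eq_zero_of_trace_mul_reduced (R := Γ(Y, V)) (S := Γ(X, f ⁻¹ᵁ V)) (toFn f _) fun b => ?_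
    rw [← trace_app_of_free hA hV hfree hfin]
    have h1 := LinearMap.congr_fun hp ((push f).presheaf.germ V y hyV (ofFn f b))
    change pst hA y _ _ = 0 at h1
    rw [pst_germ] at h1
    exact section_eq_zero_of_germ hyV _ h1
  refine key _ ?_
  rw [← CurveHom.stalkMapₗ_comp, hg, CurveHom.stalkMapₗ_eq, Functor.map_zero]
  rfl

/-- The degree of `f_* O` is non-positive. -/
theorem deg_push_nonpos (k : Type u) [Field k] [CharZero k] [Y.Over (Spec (CommRingCat.of k))]
    [IsProper (Y ↘ Spec (CommRingCat.of k))] (hdim : topologicalKrullDim Y = 1)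
    (hpid : ∀ y : Y, IsPrincipalIdealRing (Y.presheaf.stalk y)) {d : ℕ}
    (hd : FlatMod.IsFinLocFreeOfRank d (push f)) (hred : IsReduced (f.fiber (genericPoint Y))) :
    Curv2.deg k Y (push f) d ≤ 0 := by
  haveI := CurveCohLib.isNoetherian_of_proper (k := k) (X := Y)
  have hA : FlatMod.IsFinLocFree (push f) := fun y => let ⟨W, hy, he⟩ := hd y; ⟨W, _, hy, he⟩
  have hAc := CurveDeg.isCoh_of_isFinLocFree hA
  have hchar : ∀ V : Y.Opens, (V : Set Y).Nonempty → CharZero Γ(Y, V) := fun V hV => by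
    haveI : Nonempty V := hV.to_subtype
    exact charZero_of_injective_ringHom ((Y.presheaf.map (homOfLE (le_top : V ≤ ⊤)).op).hom.comp
      (Coh.toGlobal (Y ↘ Spec (CommRingCat.of k)))).injective
  haveI := mono_toDual_of_reduced hA hchar hred
  obtain ⟨N, ι, hι, -⟩ := exists_embedding (k := k) (X := Y) hdim.le
  haveI := hι
  obtain ⟨L, hL⟩ := AmpleVan.exists_ample_of_closedImmersion_projSpace ι
  have h1 := CurveTraceDeg.euler_le_of_mono k hdim.le hAc (RefX.isCoh_dual hAc) (toDual hA) (rk_dual k hA).symm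
  have h2 := euler_add_dual k hdim hpid (exists_big_line k hdim hL) _ (push f) hA rfl
  rw [rk_eq hd] at h2
  unfold Curv2.deg
  linarith

end Groth.Agent.CanonDual
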