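import Groth.Agent.CanonDual.H1Sub
import Groth.Agent.CurveVA.Separation

/-!
# Very ampleness on a reduced curve
-/

set_option autoImplicit false
set_option linter.style.haveILetI false
set_option linter.unusedSectionVars false
set_option backward.isDefEq.respectTransparency false
set_option backward.isDefEq.respectTransparency.types false

universe u

open CategoryTheory CategoryTheory.Limits AlgebraicGeometry TopologicalSpace Opposite
open Groth.Agent.PnCoh.Finite (mapLin)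

attribute [local instance] HasDerivedCategory.standard

noncomputable section

namespace Groth.Agent.CanonDual

open Groth.Agent Groth.Agent.InvX Groth.Agent.H23 Groth.Agent.CurveVA Groth.Agent.CurvePoint
  Groth.Agent.CurveBundle Groth.Agent.CurveSlope ExtShX.ClosedHom TFQuot

variable (k : Type u) [Field k] [IsAlgClosed k] {X : Scheme.{u}} [X.Over (Spec (CommRingCat.of k))]
  [IsProper (X ↘ Spec (CommRingCat.of k))]

variable {L : X.Modules}

section Sky

variable {F : X.Modules} {x : X} (l : F.presheaf.stalk x →+ k)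
  (hdim : topologicalKrullDim X = 1) (hX : Proj16.ClosedDimOne X)

include hdim hX in
/-- The kernel of a condition at a closed point. -/
theorem kernel_sky_data (hx : IsClosed ({x} : Set X)) (l : F.presheaf.stalk x →+ k) (hl : IsResLinear k x l)
    (hF : Coh.IsCoh F) {m : F.presheaf.stalk x} (hm : l m ≠ 0) :
    Coh.IsCoh (kernel (skyMap k hx l hl)) ∧
      Curv2.euler k X F = Curv2.euler k X (kernel (skyMap k hx l hl)) + 1 ∧
      ∀ η ∈ genericPoints X, Function.Surjective (st (kernel.ι (skyMap k hx l hl)) η) := by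
  haveI := CurveCohLib.isNoetherian_of_proper (k := k) (X := X)
  have hQ := ParShLib.isCoh_quotMod (ptIdeal x hx)
  have hK := QCoh.isCoh_kernel hF hQ (skyMap k hx l hl)
  refine ⟨hK, ?_, fun η hη v => ?_⟩
  · have h := euler_add' k _ _ _ (shortExact_skyMap k hx l hl hm) hK hF hQ
    rwa [euler_quot_pt k hx] at h
  · have hne : η ≠ x := fun e => by
      subst e
      have h0 := (VarDim.closedPoint_iff_deg_eq_zero (X ↘ Spec (CommRingCat.of k)) η).1 hx
      rw [(Proj16.closedDimOne_iff_deg (X ↘ Spec (CommRingCat.of k))).1 hX η (isMaximal_of_generic hη)] at h0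
      exact one_ne_zero h0
    obtain ⟨U, hU, s, rfl⟩ := TopCat.Presheaf.exists_germ_eq F.presheaf v
    let W : X.Opens := U ⊓ ⟨({x} : Set X)ᶜ, hx.isOpen_compl⟩
    obtain ⟨w, hw⟩ := exists_kernel_germ k hx l hl hm (y := η) (U := W) ⟨hU, hne⟩
      (F.presheaf.map (homOfLE (inf_le_left : W ≤ U)).op s) fun h => absurd rfl h.2
    exact ⟨w, hw.trans (TopCat.Presheaf.germ_res_apply F.presheaf _ η _ s)⟩

variable [IsReduced X]

include hdim hX in
/-- A submodule of small colength has a section satisfying an open condition at a point. -/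
theorem exists_section_sub (hL : PicF.IsInvertible L) (j : F ⟶ L) [Mono j] (hF : Coh.IsCoh F)
    (hgen : ∀ η ∈ genericPoints X, Function.Surjective (st j η))
    (hdeg : ∀ J : X.IdealSheafData, IsReduced J.subscheme → ConnectedSpace J.subscheme →
      topologicalKrullDim J.subscheme = 1 →
      -2 * @Curv2.euler k _ J.subscheme ⟨J.subschemeι ≫ (X ↘ Spec (CommRingCat.of k))⟩
          (Coh.structureModule J.subscheme) + (Curv2.euler k X L - Curv2.euler k X F) + 1 <
        @Curv2.deg k _ J.subscheme ⟨J.subschemeι ≫ (X ↘ Spec (CommRingCat.of k))⟩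
          ((Scheme.Modules.pullback J.subschemeι).obj L) 1)
    {m : F.presheaf.stalk x} (hx : IsClosed ({x} : Set X)) (hm : l m ≠ 0) (hl : IsResLinear k x l) :
    ∃ t : Γ(F, ⊤), l (F.presheaf.germ ⊤ x trivial t) ≠ 0 := by
  haveI := CurveCohLib.isNoetherian_of_proper (k := k) (X := X)
  obtain ⟨hK, he, hKgen⟩ := kernel_sky_data k hdim hX hx l hl hF hm
  haveI := subsingleton_H1_of_sub (k := k) hdim hX hL (kernel.ι (skyMap k hx l hl) ≫ j) hK
    (fun η hη v => by
      obtain ⟨w, rfl⟩ := hgen η hη v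
      obtain ⟨w', rfl⟩ := hKgen η hη w
      exact ⟨w', st_comp _ _ _ _⟩)
    fun J h₁ h₂ h₃ => by have := hdeg J h₁ h₂ h₃; linarith
  have hS := shortExact_skyMap k hx l hl hm
  have hsurj : Function.Surjective (mapLin k (skyMap k hx l hl) 0) := fun y =>
    (CurveCohLib.ker_deltaLin k hS 0).le (LinearMap.mem_ker.2 (Subsingleton.elim _ 0) : y ∈ _)
  have hQ := ParShLib.isCoh_quotMod (ptIdeal x hx)
  have h1 := CurveCohLib.euler_eq_finrank_zero (k := k) hQ
    (fun _ hz => Set.mem_singleton_iff.1 (support_quot_subset x hx hz) ▸ hx)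
  rw [euler_quot_pt k hx] at h1
  haveI := CurveCohLib.finite_HH (k := k) hQ 0
  obtain ⟨y, hy⟩ := Module.finrank_pos_iff_exists_ne_zero.1
    (show 0 < Module.finrank k (Coh.HH X (ClSub.quotMod (ptIdeal x hx)) 0) by omega)
  obtain ⟨z, hz⟩ := hsurj y
  refine ⟨Sheaf.H.equiv₀ (Coh.toAb F) isTerminalTop z, fun h => hy ?_⟩
  apply (Sheaf.H.equiv₀ (Coh.toAb (ClSub.quotMod (ptIdeal x hx))) isTerminalTop).injective
  refine Eq.trans ?_ (map_zero _).symm
  rw [← hz]
  refine Eq.trans ?_ ((skyMap_app_eq_zero k hx l hl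
    (show Γ(F, ⊤) from Sheaf.H.equiv₀ (Coh.toAb F) isTerminalTop z)).2 fun _ => h)
  exact (Sheaf.H.equiv₀_naturality isTerminalTop ((QCoh.toAbFunctor X).map (skyMap k hx l hl)) z).symm

end Sky

section Sub

variable [IsReduced X] (hdim : topologicalKrullDim X = 1) (hX : Proj16.ClosedDimOne X) (hL : PicF.IsInvertible L)
  (hdeg : ∀ J : X.IdealSheafData, IsReduced J.subscheme → ConnectedSpace J.subscheme →
    topologicalKrullDim J.subscheme = 1 →
    -2 * @Curv2.euler k _ J.subscheme ⟨J.subschemeι ≫ (X ↘ Spec (CommRingCat.of k))⟩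
        (Coh.structureModule J.subscheme) + 2 <
      @Curv2.deg k _ J.subscheme ⟨J.subschemeι ≫ (X ↘ Spec (CommRingCat.of k))⟩
        ((Scheme.Modules.pullback J.subschemeι).obj L) 1)

include hdim hX hL hdeg in
/-- Sections do not vanish at any closed point. -/
theorem exists_not_mem_max {U : X.Opens} {e : Γ(L, U)} (he : IsFrame e) {a : X} (ha : a ∈ U) (hac : IsClosed ({a} : Set X)) :
    ∃ z : Γ(L, ⊤), coord he ha (L.presheaf.germ ⊤ a trivial z) ∉ IsLocalRing.maximalIdeal (X.presheaf.stalk a) := by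
  haveI := CurveCohLib.isNoetherian_of_proper (k := k) (X := X)
  obtain ⟨t, ht⟩ := exists_section_sub k (valFun k he ha hac) hdim hX hL (𝟙 L) (CurveDeg.isCoh_of_isInvertible hL)
    (fun η _ v => ⟨v, st_id η v⟩) (fun J h₁ h₂ h₃ => by have := hdeg J h₁ h₂ h₃; linarith) hac
    (m := L.presheaf.germ U a ha e) (by rw [valFun_germ]; exact one_ne_zero) (isResLinear_valFun k he ha hac)
  exact ⟨t, fun h => ht ((valFun_eq_zero k he ha hac _).2 h)⟩

variable {U : X.Opens} {e : Γ(L, U)} (he : IsFrame e) {a : X} (ha : a ∈ U) (hac : IsClosed ({a} : Set X))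

include hdim hX hL hdeg hac

/-- Sections separate two closed points. -/
theorem exists_separate {b : X} (hb : b ∈ U) (hbc : IsClosed ({b} : Set X)) (hne : b ≠ a) :
    ∃ z : Γ(L, ⊤), coord he ha (L.presheaf.germ ⊤ a trivial z) ∈ IsLocalRing.maximalIdeal (X.presheaf.stalk a) ∧
      coord he hb (L.presheaf.germ ⊤ b trivial z) ∉ IsLocalRing.maximalIdeal (X.presheaf.stalk b) := by
  haveI := CurveCohLib.isNoetherian_of_proper (k := k) (X := X)
  let l₀ := valFun k he ha hac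
  have hl₀ : IsResLinear k a l₀ := isResLinear_valFun k he ha hac
  have hm₀ : l₀ (L.presheaf.germ U a ha e) ≠ 0 := by rw [valFun_germ]; exact one_ne_zero
  have hLc := CurveDeg.isCoh_of_isInvertible hL
  obtain ⟨hK, hKe, hgen⟩ := kernel_sky_data k hdim hX hac l₀ hl₀ hLc hm₀
  let j := kernel.ι (skyMap k hac l₀ hl₀)
  let F := DerSch.stalkFunctor X b
  let l : (kernel (skyMap k hac l₀ hl₀)).presheaf.stalk b →+ k :=
    (valFun k he hb hbc).comp (F.map j).hom.toAddMonoidHom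
  have hl : IsResLinear k b l := fun r m c hc => by
    show valFun k he hb hbc (F.map j (r • m)) = c * valFun k he hb hbc (F.map j m)
    rw [map_smul (F.map j).hom]
    exact isResLinear_valFun k he hb hbc r _ c hc
  let W : X.Opens := U ⊓ ⟨({a} : Set X)ᶜ, hac.isOpen_compl⟩
  have hbW : b ∈ W := ⟨hb, hne⟩
  obtain ⟨m, hm⟩ := exists_kernel_germ k hac l₀ hl₀ hm₀ hbW (AModX.res L (inf_le_left : W ≤ U) e)
    fun h => absurd rfl h.2
  have hlm : l m ≠ 0 := by
    show valFun k he hb hbc (F.map j m) ≠ 0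
    rw [hm, InvX.germ_res' (inf_le_left : W ≤ U) hbW e, valFun_germ]
    exact one_ne_zero
  obtain ⟨t, ht⟩ := exists_section_sub k l hdim hX hL j hK hgen (fun J h₁ h₂ h₃ => by have := hdeg J h₁ h₂ h₃; linarith) hbc hlm hl
  refine ⟨j.app ⊤ t, ?_, fun h => ht ?_⟩
  · rw [← valFun_eq_zero k he ha hac]
    refine (skyMap_app_eq_zero k hac l₀ hl₀ (U := ⊤) (j.app ⊤ t)).1 ?_ trivial
    exact congr($(kernel.condition (skyMap k hac l₀ hl₀)).app ⊤ t)
  · show valFun k he hb hbc (F.map j ((kernel (skyMap k hac l₀ hl₀)).presheaf.germ ⊤ b trivial t)) = 0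
    rw [show F.map j ((kernel (skyMap k hac l₀ hl₀)).presheaf.germ ⊤ b trivial t) =
        L.presheaf.germ ⊤ b trivial (j.app ⊤ t) from
      TopCat.Presheaf.stalkFunctor_map_germ_apply ⊤ b trivial ((Scheme.Modules.toPresheaf X).map j) t]
    exact (valFun_eq_zero k he hb hbc _).2 h

/-- Sections span the cotangent space. -/
theorem exists_tangent (N : Ideal (X.presheaf.stalk a))
    (hN : IsLocalRing.maximalIdeal (X.presheaf.stalk a) ^ 2 ≤ N)
    (hlt : ¬ IsLocalRing.maximalIdeal (X.presheaf.stalk a) ≤ N) :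
    ∃ z : Γ(L, ⊤), coord he ha (L.presheaf.germ ⊤ a trivial z) ∈ IsLocalRing.maximalIdeal (X.presheaf.stalk a) ∧
      coord he ha (L.presheaf.germ ⊤ a trivial z) ∉ N := by
  haveI := CurveCohLib.isNoetherian_of_proper (k := k) (X := X)
  let R := X.presheaf.stalk a
  let 𝔪 := IsLocalRing.maximalIdeal R
  obtain ⟨a₀, ha₀, ha₀N⟩ := Set.not_subset.1 hlt
  let C := IsLocalRing.CotangentSpace R
  let Wsub : Submodule (IsLocalRing.ResidueField R) C :=
    { toAddSubmonoid := ((Submodule.comap 𝔪.subtype N).map 𝔪.toCotangent).toAddSubmonoid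
      smul_mem' := fun c v hv => by
        obtain ⟨r, rfl⟩ := IsLocalRing.residue_surjective c
        exact Submodule.smul_mem _ r hv }
  have hnot : 𝔪.toCotangent ⟨a₀, ha₀⟩ ∉ Wsub := fun h => by
    obtain ⟨⟨n, hn⟩, hnN, hne⟩ := (Submodule.mem_map.1 h)
    have h2 := (Ideal.toCotangent_eq 𝔪).1 hne
    exact ha₀N (by simpa using N.sub_mem hnN (hN h2))
  obtain ⟨δ, hδ, hW⟩ := Submodule.exists_le_ker_of_notMem hnot
  let l₀ := valFun k he ha hac
  have hl₀ : IsResLinear k a l₀ := isResLinear_valFun k he ha hac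
  have hm₀ : l₀ (L.presheaf.germ U a ha e) ≠ 0 := by rw [valFun_germ]; exact one_ne_zero
  have hLc := CurveDeg.isCoh_of_isInvertible hL
  obtain ⟨hK, hKe, hgen⟩ := kernel_sky_data k hdim hX hac l₀ hl₀ hLc hm₀
  let j := kernel.ι (skyMap k hac l₀ hl₀)
  let F := DerSch.stalkFunctor X a
  have hmem : ∀ m, coord he ha (F.map j m) ∈ 𝔪 := fun m => by
    obtain ⟨V, hV, s, rfl⟩ := TopCat.Presheaf.exists_germ_eq (kernel (skyMap k hac l₀ hl₀)).presheaf m
    rw [show F.map j ((kernel (skyMap k hac l₀ hl₀)).presheaf.germ V a hV s) =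
        L.presheaf.germ V a hV (j.app V s) from
      TopCat.Presheaf.stalkFunctor_map_germ_apply V a hV ((Scheme.Modules.toPresheaf X).map j) s]
    rw [← valFun_eq_zero k he ha hac]
    exact (skyMap_app_eq_zero k hac l₀ hl₀ _).1
      (congr($(kernel.condition (skyMap k hac l₀ hl₀)).app V s)) hV
  let θ : (kernel (skyMap k hac l₀ hl₀)).presheaf.stalk a →+ 𝔪 :=
    AddMonoidHom.mk' (fun m => (⟨coord he ha (F.map j m), hmem m⟩ : 𝔪)) fun p q => Subtype.ext (by
      show coord he ha (F.map j (p + q)) = coord he ha (F.map j p) + coord he ha (F.map j q)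
      rw [map_add (F.map j).hom, map_add])
  let l : (kernel (skyMap k hac l₀ hl₀)).presheaf.stalk a →+ k :=
    (resInv k hac).toAddMonoidHom.comp
      ((δ.toAddMonoidHom.comp 𝔪.toCotangent.toAddMonoidHom).comp θ)
  have hl : IsResLinear k a l := fun r m c hc => by
    show resInv k hac (δ (𝔪.toCotangent (θ (r • m)))) = c * resInv k hac (δ (𝔪.toCotangent (θ m)))
    have h1 : θ (r • m) = r • θ m := Subtype.ext (by
      show coord he ha (F.map j (r • m)) = r * coord he ha (F.map j m)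
      rw [map_smul (F.map j).hom]
      exact coord_smul he ha r _)
    rw [h1, map_smul]
    show resInv k hac (δ (IsLocalRing.residue R r • 𝔪.toCotangent (θ m))) = _
    rw [map_smul, smul_eq_mul]
    refine (map_mul (resInv k hac) _ _).trans ?_
    rw [show IsLocalRing.residue R r = Curv2.resMap k X a c from hc, resInv_resMap]
  obtain ⟨V, haV, r₀, hr₀⟩ := TopCat.Presheaf.exists_germ_eq X.presheaf a₀
  let W : X.Opens := U ⊓ V
  have haW : a ∈ W := ⟨ha, haV⟩
  let r : Γ(X, W) := X.presheaf.map (homOfLE (inf_le_right : W ≤ V)).op r₀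
  have hr : X.presheaf.germ W a haW r = a₀ :=
    (TopCat.Presheaf.germ_res_apply X.presheaf _ a haW r₀).trans hr₀
  have hs : coord he ha (L.presheaf.germ W a haW (r • AModX.res L (inf_le_left : W ≤ U) e)) = a₀ :=
    (coord_germ he (inf_le_left : W ≤ U) haW r).trans hr
  obtain ⟨m, hm⟩ := exists_kernel_germ k hac l₀ hl₀ hm₀ haW (r • AModX.res L (inf_le_left : W ≤ U) e)
    fun h => (valFun_eq_zero k he ha hac _).2 (by rw [hs]; exact ha₀)
  have hlm : l m ≠ 0 := by
    show resInv k hac (δ (𝔪.toCotangent (θ m))) ≠ 0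
    rw [show θ m = ⟨a₀, ha₀⟩ from Subtype.ext ((congrArg (coord he ha) hm).trans hs)]
    exact fun h => hδ ((resInv k hac).injective (h.trans (map_zero _).symm))
  obtain ⟨t, ht⟩ := exists_section_sub k l hdim hX hL j hK hgen (fun J h₁ h₂ h₃ => by have := hdeg J h₁ h₂ h₃; linarith) hac hlm hl
  have e1 : F.map j ((kernel (skyMap k hac l₀ hl₀)).presheaf.germ ⊤ a trivial t) =
      L.presheaf.germ ⊤ a trivial (j.app ⊤ t) :=
    TopCat.Presheaf.stalkFunctor_map_germ_apply ⊤ a trivial ((Scheme.Modules.toPresheaf X).map j) t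
  refine ⟨j.app ⊤ t, e1 ▸ hmem _, fun h => ht ?_⟩
  show resInv k hac (δ (𝔪.toCotangent (θ _))) = 0
  rw [LinearMap.mem_ker.1 (hW (Submodule.mem_map_of_mem (f := 𝔪.toCotangent) (p := Submodule.comap 𝔪.subtype N)
    (show coord he ha (F.map j _) ∈ N by rw [e1]; exact h))), map_zero]

end Sub

/-- The chart condition, for sections separating points and tangent vectors. -/
theorem isClosedImmersion_of_separation'
    (hsep : ∀ {U : X.Opens} {e : Γ(L, U)} (he : IsFrame e) {a b : X} (ha : a ∈ U) (hb : b ∈ U),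
      IsClosed ({a} : Set X) → IsClosed ({b} : Set X) → b ≠ a →
      ∃ z : Γ(L, ⊤), coord he ha (L.presheaf.germ ⊤ a trivial z) ∈ IsLocalRing.maximalIdeal (X.presheaf.stalk a) ∧
        coord he hb (L.presheaf.germ ⊤ b trivial z) ∉ IsLocalRing.maximalIdeal (X.presheaf.stalk b))
    (htan : ∀ {U : X.Opens} {e : Γ(L, U)} (he : IsFrame e) {a : X} (ha : a ∈ U), IsClosed ({a} : Set X) →
      ∀ N : Ideal (X.presheaf.stalk a), IsLocalRing.maximalIdeal (X.presheaf.stalk a) ^ 2 ≤ N →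
      ¬ IsLocalRing.maximalIdeal (X.presheaf.stalk a) ≤ N →
      ∃ z : Γ(L, ⊤), coord he ha (L.presheaf.germ ⊤ a trivial z) ∈ IsLocalRing.maximalIdeal (X.presheaf.stalk a) ∧
        coord he ha (L.presheaf.germ ⊤ a trivial z) ∉ N)
    {Y : Scheme.{u}} (q : Y ⟶ Spec (CommRingCat.of k)) [LocallyOfFiniteType q] [QuasiCompact q]
    [IsSeparated q] (g : X ⟶ Y) (hg : g ≫ q = X ↘ Spec (CommRingCat.of k))
    (hchart : ∀ y : Y, ∃ (V : Y.Opens) (_ : y ∈ V) (e : Γ(L, g ⁻¹ᵁ V)), IsFrame e ∧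
      ∀ z : Γ(L, ⊤), ∃ r : Γ(Y, V), AModX.res L (le_top : g ⁻¹ᵁ V ≤ ⊤) z = g.app V r • e) :
    IsClosedImmersion g := by
  haveI : IsProper g := by
    haveI : IsProper (g ≫ q) := by rw [hg]; infer_instance
    exact IsProper.of_comp g q
  haveI : LocallyOfFiniteType (g ≫ q) := by rw [hg]; infer_instance
  have key : ∀ (V : Y.Opens) (e : Γ(L, g ⁻¹ᵁ V)) (he : IsFrame e) (x : X) (hxV : x ∈ g ⁻¹ᵁ V)
      (z : Γ(L, ⊤)) (r : Γ(Y, V)), AModX.res L (le_top : g ⁻¹ᵁ V ≤ ⊤) z = g.app V r • e →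
      coord he hxV (L.presheaf.germ ⊤ x trivial z) = g.stalkMap x (Y.presheaf.germ V (g x) hxV r) := by
    intro V e he x hxV z r h
    rw [← InvX.germ_res' (le_top : g ⁻¹ᵁ V ≤ ⊤) hxV z, h, QCoh.germ_smul', coord_smul_germ,
      Scheme.Hom.germ_stalkMap_apply]
  refine S10867.result k g q (fun a ha b hb hab => ?_) fun a ha => ?_
  · by_contra hne
    obtain ⟨V, hV, e, he, hz⟩ := hchart (g a)
    have haV : a ∈ g ⁻¹ᵁ V := hV
    have hbV : b ∈ g ⁻¹ᵁ V := (show g b ∈ V from (hab : g a = g b) ▸ hV)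
    obtain ⟨z, hza, hzb⟩ := hsep he haV hbV ha hb (Ne.symm hne)
    obtain ⟨r, hr⟩ := hz z
    rw [key V e he a haV z r hr] at hza
    rw [key V e he b hbV z r hr] at hzb
    have hya : g a ∉ Y.basicOpen r := fun h => by
      rw [Y.mem_basicOpen _ (g a) haV] at h
      exact (IsLocalRing.mem_maximalIdeal _).1 hza (h.map (g.stalkMap a).hom)
    have hyb : g b ∈ Y.basicOpen r := by
      rw [Y.mem_basicOpen _ (g b) hbV]
      exact (isUnit_map_iff (g.stalkMap b).hom _).1 (by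
        by_contra h
        exact hzb ((IsLocalRing.mem_maximalIdeal _).2 h))
    exact hya ((hab : g a = g b) ▸ hyb)
  · set M := Ideal.map (g.stalkMap a).hom (IsLocalRing.maximalIdeal (Y.presheaf.stalk (g a))) with hM
    refine le_antisymm (sup_le ?_ (Ideal.pow_le_self two_ne_zero)) ?_
    · rw [Ideal.map_le_iff_le_comap]
      intro r hr
      exact (IsLocalRing.mem_maximalIdeal _).2 fun h =>
        (IsLocalRing.mem_maximalIdeal _).1 hr ((isUnit_map_iff (g.stalkMap a).hom r).1 h)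
    by_contra hlt
    obtain ⟨V, hV, e, he, hz⟩ := hchart (g a)
    obtain ⟨z, hzm, hzN⟩ := htan he (hV : a ∈ g ⁻¹ᵁ V) ha _ le_sup_right hlt
    obtain ⟨r, hr⟩ := hz z
    rw [key V e he a hV z r hr] at hzm hzN
    exact hzN (Ideal.mem_sup_left (Ideal.mem_map_of_mem _ ((IsLocalRing.mem_maximalIdeal _).2 fun h =>
      (IsLocalRing.mem_maximalIdeal _).1 hzm (h.map (g.stalkMap a).hom))))

/-- Sections separating points and tangent vectors give a projective embedding. -/
theorem exists_embedding_of_separation' [Nonempty X] (hdim : topologicalKrullDim X = 1) (hL : PicF.IsInvertible L)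
    (hgg : ∀ {U : X.Opens} {e : Γ(L, U)} (he : IsFrame e) {a : X} (ha : a ∈ U), IsClosed ({a} : Set X) →
      ∃ z : Γ(L, ⊤), coord he ha (L.presheaf.germ ⊤ a trivial z) ∉ IsLocalRing.maximalIdeal (X.presheaf.stalk a))
    (hsep : ∀ {U : X.Opens} {e : Γ(L, U)} (he : IsFrame e) {a b : X} (ha : a ∈ U) (hb : b ∈ U),
      IsClosed ({a} : Set X) → IsClosed ({b} : Set X) → b ≠ a →
      ∃ z : Γ(L, ⊤), coord he ha (L.presheaf.germ ⊤ a trivial z) ∈ IsLocalRing.maximalIdeal (X.presheaf.stalk a) ∧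
        coord he hb (L.presheaf.germ ⊤ b trivial z) ∉ IsLocalRing.maximalIdeal (X.presheaf.stalk b))
    (htan : ∀ {U : X.Opens} {e : Γ(L, U)} (he : IsFrame e) {a : X} (ha : a ∈ U), IsClosed ({a} : Set X) →
      ∀ N : Ideal (X.presheaf.stalk a), IsLocalRing.maximalIdeal (X.presheaf.stalk a) ^ 2 ≤ N →
      ¬ IsLocalRing.maximalIdeal (X.presheaf.stalk a) ≤ N →
      ∃ z : Γ(L, ⊤), coord he ha (L.presheaf.germ ⊤ a trivial z) ∈ IsLocalRing.maximalIdeal (X.presheaf.stalk a) ∧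
        coord he ha (L.presheaf.germ ⊤ a trivial z) ∉ N) :
    ∃ (n : ℕ) (i : X ⟶ CohB1.ProjSpace n k), IsClosedImmersion i ∧
      i ≫ CohB1.ProjSpace.toSpec n k = X ↘ Spec (CommRingCat.of k) ∧
      Nonempty ((Scheme.Modules.pullback i).obj (Twist.twistProjSpace n k 1) ≅ L) := by
  classical
  let f := X ↘ Spec (CommRingCat.of k)
  haveI := CurveCohLib.isNoetherian_of_proper (k := k) (X := X)
  haveI : JacobsonSpace X := LocallyOfFiniteType.jacobsonSpace f
  haveI := CurveCohLib.finite_HH (k := k) (CurveDeg.isCoh_of_isInvertible hL) 0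
  let e₀ := Sheaf.H.equiv₀ (Coh.toAb L) isTerminalTop
  obtain ⟨n, hn⟩ : ∃ n, Module.finrank k (Coh.HH X L 0) = n + 1 := by
    obtain ⟨x, -, hxc⟩ := nonempty_inter_closedPoints (X := X) (Z := Set.univ) ⟨Classical.arbitrary X, trivial⟩
      isClosed_univ.isLocallyClosed
    obtain ⟨U, hxU, e, he⟩ := exists_frame hL x
    obtain ⟨z, hz⟩ := hgg he hxU hxc
    have hz0 : e₀.symm z ≠ 0 := fun h => hz (by
      have h0 : z = 0 := ((e₀.apply_symm_apply z).symm.trans (congrArg e₀ h)).trans (map_zero e₀)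
      rw [h0, map_zero, map_zero]
      exact Submodule.zero_mem _)
    haveI : Nontrivial (Coh.HH X L 0) := ⟨⟨_, _, hz0⟩⟩
    exact ⟨Module.finrank k (Coh.HH X L 0) - 1, (Nat.succ_pred_eq_of_pos Module.finrank_pos).symm⟩
  let b := Module.finBasisOfFinrankEq k (Coh.HH X L 0) hn
  let σ : Fin (n + 1) → Γ(L, ⊤) := fun i => (e₀ (b i) : Γ(L, ⊤))
  let sc : k → Γ(X, ⊤) := fun c => Coh.resTop X (op ⊤) (Coh.toGlobal f c)
  have hcomb : ∀ z : Γ(L, ⊤), ∃ c : Fin (n + 1) → k, z = ∑ i, sc (c i) • σ i := fun z => by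
    refine ⟨fun i => b.repr (e₀.symm z) i, ?_⟩
    conv_lhs => rw [← e₀.apply_symm_apply z, ← b.sum_repr (e₀.symm z)]
    exact (map_sum e₀ _ _).trans (Finset.sum_congr rfl fun i _ => CurveCohLib.h0Equiv_smul L _ _)
  have hcov : ∀ x : X, ∃ i, x ∈ TrivBasic.locus (σ i) := by
    by_contra! hne
    obtain ⟨x, hx⟩ := hne
    obtain ⟨a, hay, hac⟩ := nonempty_inter_closedPoints (Z := ((⨆ i, TrivBasic.locus (σ i) : X.Opens) : Set X)ᶜ)
      ⟨x, fun h => by
        obtain ⟨i, hi⟩ := Opens.mem_iSup.1 h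
        exact hx i hi⟩ (⨆ i, TrivBasic.locus (σ i) : X.Opens).2.isClosed_compl.isLocallyClosed
    obtain ⟨U, haU, e, he⟩ := exists_frame hL a
    obtain ⟨z, hz⟩ := hgg he haU hac
    obtain ⟨c, rfl⟩ := hcomb z
    apply hz
    rw [map_sum, map_sum]
    refine Ideal.sum_mem _ fun i _ => ?_
    rw [QCoh.germ_smul' L (U := ⊤) (hx := (trivial : a ∈ (⊤ : X.Opens))), coord_smul]
    refine Ideal.mul_mem_left _ _ ((IsLocalRing.mem_maximalIdeal _).2 fun hu => hay ?_)
    refine Opens.mem_iSup.2 ⟨i, ?_⟩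
    obtain ⟨γ, hγ⟩ := he.exists_coord le_rfl (AModX.res L (le_top : U ≤ ⊤) (σ i))
    rw [AModX.res_self] at hγ
    have h2 : a ∈ TrivBasic.locus (σ i) ⊓ U := by
      rw [TrivBasic.locus_eq_basicOpen he hγ, X.mem_basicOpen _ a haU]
      rw [← InvX.germ_res' (le_top : U ≤ ⊤) haU (σ i), hγ, QCoh.germ_smul', coord_smul_germ] at hu
      exact hu
    exact h2.1
  obtain ⟨r, hr, τ, hτ⟩ := S3572.result n f L hL σ (AVAmple.generatedBy_of_locus σ hcov)
  refine ⟨n, r, ?_, hr, ⟨τ⟩⟩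
  haveI : IsProper (CohB1.ProjSpace.toSpec n k) := PnCoh.Chow.isProper_toSpec n k
  refine isClosedImmersion_of_separation' k hsep htan (CohB1.ProjSpace.toSpec n k) r hr fun y => ?_
  obtain ⟨j, hj⟩ := Opens.mem_iSup.1 ((AmpleEmbed.iSup_basicOpen_X n k).ge (trivial : y ∈ (⊤ : Opens _)))
  let D : (CohB1.ProjSpace n k).Opens := Proj.basicOpen (CohB1.polyGrading n k) (MvPolynomial.X j)
  have hpre : r ⁻¹ᵁ D = TrivBasic.locus (σ j) := AmpleEmbed.preimage_chart r τ j (hτ j)
  let e : Γ(L, r ⁻¹ᵁ D) := AModX.res L (le_top : r ⁻¹ᵁ D ≤ ⊤) (σ j)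
  have he : IsFrame e := TrivBasic.isFrame_res_of_le_locus hpre.le
  refine ⟨D, hj, e, he, fun z => ?_⟩
  let S : Subring Γ(X, r ⁻¹ᵁ D) := (r.app D).hom.range
  have hconst : ∀ c : k, AModX.resR (le_top : r ⁻¹ᵁ D ≤ ⊤) (sc c) ∈ S := fun c => by
    refine ⟨(CohB1.ProjSpace.toSpec n k).appLE ⊤ D le_top ((Scheme.ΓSpecIso (CommRingCat.of k)).inv c), ?_⟩
    rw [← Scheme.Hom.appLE_eq_app, ← CommRingCat.comp_apply, Scheme.Hom.appLE_comp_appLE]
    simp only [hr]
    show f.appLE ⊤ (r ⁻¹ᵁ D) _ ((Scheme.ΓSpecIso (CommRingCat.of k)).inv c) =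
      X.presheaf.map _ (X.presheaf.map (𝟙 (op ⊤)) (f.appTop _))
    rw [CategoryTheory.Functor.map_id]
    rfl
  have hs : ∀ i, ∃ β ∈ S, AModX.res L (le_top : r ⁻¹ᵁ D ≤ ⊤) (σ i) = β • e := fun i => by
    obtain ⟨β, hβ⟩ := he.exists_coord le_rfl (AModX.res L (le_top : r ⁻¹ᵁ D ≤ ⊤) (σ i))
    rw [AModX.res_self] at hβ
    obtain ⟨t, ht⟩ : ∃ t : Γ(CohB1.ProjSpace n k, D), r.appLE D (r ⁻¹ᵁ D) le_rfl t = β :=
      ⟨_, AmpleEmbed.ratioOf_eq r τ j i (hτ j) (hτ i) le_rfl β hβ⟩
    rw [Scheme.Hom.appLE_eq_app] at ht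
    exact ⟨β, ⟨t, ht⟩, hβ⟩
  obtain ⟨c, rfl⟩ := hcomb z
  suffices ∃ β ∈ S, AModX.res L (le_top : r ⁻¹ᵁ D ≤ ⊤) (∑ i, sc (c i) • σ i) = β • e by
    obtain ⟨β, ⟨t, rfl⟩, hβ⟩ := this
    exact ⟨t, hβ⟩
  rw [map_sum]
  refine Finset.sum_induction _ (fun w => ∃ β ∈ S, w = β • e) ?_ ⟨0, S.zero_mem, (zero_smul _ _).symm⟩ fun i _ => ?_
  · rintro _ _ ⟨β, hβ, rfl⟩ ⟨γ, hγ, rfl⟩
    exact ⟨β + γ, S.add_mem hβ hγ, (add_smul _ _ _).symm⟩
  · obtain ⟨β, hβ, hiβ⟩ := hs i
    refine ⟨_, S.mul_mem (hconst (c i)) hβ, ?_⟩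
    rw [AModX.res_smul, hiβ, mul_smul]

/-- The criterion for very ampleness. -/
theorem isVeryAmple_of_subcurves [IsReduced X] (hdim : topologicalKrullDim X = 1) (hX : Proj16.ClosedDimOne X)
    (hL : PicF.IsInvertible L)
    (hdeg : ∀ J : X.IdealSheafData, IsReduced J.subscheme → ConnectedSpace J.subscheme →
      topologicalKrullDim J.subscheme = 1 →
      -2 * @Curv2.euler k _ J.subscheme ⟨J.subschemeι ≫ (X ↘ Spec (CommRingCat.of k))⟩
          (Coh.structureModule J.subscheme) + 2 <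
        @Curv2.deg k _ J.subscheme ⟨J.subschemeι ≫ (X ↘ Spec (CommRingCat.of k))⟩
          ((Scheme.Modules.pullback J.subschemeι).obj L) 1) :
    ∃ (n : ℕ) (i : X ⟶ CohB1.ProjSpace n k), IsClosedImmersion i ∧
      i ≫ CohB1.ProjSpace.toSpec n k = X ↘ Spec (CommRingCat.of k) ∧
      Nonempty ((Scheme.Modules.pullback i).obj (Twist.twistProjSpace n k 1) ≅ L) := by
  haveI : Nonempty X := by
    by_contra h
    rw [not_nonempty_iff] at h
    rw [topologicalKrullDim, Order.krullDim_eq_bot_iff.2 ⟨fun C => h.false C.isIrreducible.nonempty.some⟩] at hdim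
    exact WithBot.bot_ne_one hdim
  exact exists_embedding_of_separation' k hdim hL
    (fun he _ ha hac => exists_not_mem_max k hdim hX hL hdeg he ha hac)
    (fun he _ _ ha hb hac hbc hne => exists_separate k hdim hX hL hdeg he ha hac hb hbc hne)
    (fun he _ ha hac N h1 h2 => exists_tangent k hdim hX hL hdeg he ha hac N h1 h2)

end Groth.Agent.CanonDual
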