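import Groth.Agent.FibDimOne.VeryAmple
import Groth.Agent.AmpleX.Locus
import Groth.Agent.AmpleX.Extend
import Groth.Agent.InvX.GenLocusPull
import Groth.Agent.H23.PicMul

/-!
# Normally generated ample modules are very ample over the base
-/

set_option autoImplicit false
set_option linter.style.haveILetI false
set_option linter.unusedSectionVars false
set_option backward.isDefEq.respectTransparency false
set_option backward.isDefEq.respectTransparency.types false
set_option maxHeartbeats 800000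

universe u

open CategoryTheory CategoryTheory.Limits AlgebraicGeometry TopologicalSpace Opposite

noncomputable section

namespace Groth.Agent.CanonDual.VAMul

open Groth.Agent Groth.Agent.InvX Groth.Agent.CurveEmbed

variable {X : Scheme.{u}} {L : X.Modules}

theorem res_app {M N : X.Modules} (φ : M ⟶ N) {U V : X.Opens} (h : V ≤ U) (a : Γ(M, U)) :
    AModX.res N h (φ.app U a) = φ.app V (AModX.res M h a) :=
  (ConcreteCategory.congr_hom (φ.mapPresheaf.naturality (homOfLE h).op) a).symm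

theorem mem_locus_map {M N : X.Modules} (e : M ≅ N) {U : X.Opens} {a : Γ(M, U)} {x : X} (hx : x ∈ AmpleX.locus a) :
    x ∈ AmpleX.locus (e.hom.app U a) := by
  obtain ⟨V, h, hxV, hV⟩ := AmpleX.mem_locus.1 hx
  refine AmpleX.mem_locus.2 ⟨V, h, hxV, ?_⟩
  rw [res_app]
  exact IsFrame.map_iso e hV

theorem tmul_sum {M N : X.Modules} {U : X.Opens} {ι : Type} (t : Finset ι) (a : Γ(M, U)) (r : ι → Γ(X, U))
    (b : ι → Γ(N, U)) : InvX.tmul a (∑ j ∈ t, r j • b j) = ∑ j ∈ t, InvX.tmul (r j • a) (b j) := by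
  classical
  induction t using Finset.induction with
  | empty =>
    rw [Finset.sum_empty, Finset.sum_empty]
    have h := CurveReg.tmul_add_right' a (0 : Γ(N, U)) 0
    rw [add_zero] at h
    exact left_eq_add.1 h
  | insert j t hj ih =>
    rw [Finset.sum_insert hj, Finset.sum_insert hj, CurveReg.tmul_add_right', ih, InvX.tmul_smul_right,
      InvX.tmul_smul_left]

/-- Combinations with fixed right factors form a subgroup. -/
def combs (M : X.Modules) {N : X.Modules} {n : ℕ} (b : Fin n → Γ(N, ⊤)) :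
    AddSubgroup Γ(CohB1.tensorMod M N, ⊤) where
  carrier := {u | ∃ a : Fin n → Γ(M, ⊤), u = ∑ j, InvX.tmul (a j) (b j)}
  zero_mem' := ⟨fun _ => 0, (Finset.sum_eq_zero fun j _ => AmpleVan.tmul_zero_left (b j)).symm⟩
  add_mem' := by
    rintro _ _ ⟨a, rfl⟩ ⟨a', rfl⟩
    refine ⟨fun j => a j + a' j, ?_⟩
    rw [← Finset.sum_add_distrib]
    exact Finset.sum_congr rfl fun j _ => (AmpleVan.tmul_add_left (a j) (a' j) (b j)).symm
  neg_mem' := by
    rintro _ ⟨a, rfl⟩
    refine ⟨fun j => - a j, ?_⟩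
    rw [← Finset.sum_neg_distrib]
    refine Finset.sum_congr rfl fun j _ => neg_eq_of_add_eq_zero_right ?_
    rw [← AmpleVan.tmul_add_left, add_neg_cancel, AmpleVan.tmul_zero_left]

/-- The two descriptions of the powers. -/
theorem exists_theta (L : X.Modules) : ∃ θ : ∀ m, CohB1.tensorPow L (m + 1) ≅ P L m,
    ∀ (m : ℕ) (a : Γ(CohB1.tensorPow L (m + 1), ⊤)) (s : Γ(L, ⊤)),
      (θ (m + 1)).hom.app ⊤ (InvX.tmul a s) = (InvX.tmul ((θ m).hom.app ⊤ a) s : Γ(CohB1.tensorMod (P L m) L, ⊤)) := by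
  obtain ⟨c⟩ := H23.PicMul.comm (Coh.structureModule X) L
  obtain ⟨v⟩ := H23.PicMul.unit L
  let θ₀ : CohB1.tensorPow L 1 ≅ P L 0 := c ≪≫ v
  let θ : ∀ m, CohB1.tensorPow L (m + 1) ≅ P L m := fun m =>
    Nat.rec θ₀ (fun m e => (AmpleVan.tw L).mapIso e) m
  exact ⟨θ, fun m a s => AmpleVan.map_tmul_left (θ m).hom a s⟩

variable {A : Type u} [CommRing A] [IsNoetherianRing A] [X.Over (Spec (CommRingCat.of A))]
  [IsProper (X ↘ Spec (CommRingCat.of A))]

/-- An ample normally generated module is very ample relative to the affine base. -/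
theorem isRelVeryAmplePn_of_normallyGenerated (hamp : CohB1.IsAmple L)
    (hng : ∀ n : ℕ, 1 ≤ n → AddSubgroup.closure {t | ∃ (m : (CohB1.tensorPow L n).val.obj (op ⊤)) (s : L.val.obj (op ⊤)), t = SecTwist.tmul (CohB1.tensorPow L n) L ⊤ m s} = ⊤) :
    RelAmple.IsRelVeryAmplePn (X ↘ Spec (CommRingCat.of A)) L := by
  classical
  haveI := FibDimOne.isNoetherian_X (A := A) (X := X)
  have hL := hamp.1
  have hLc := CurveDeg.isCoh_of_isInvertible hL
  obtain ⟨N, σ, hσ⟩ := FibDimOne.exists_finspan (A := A) hLc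
  let s : Fin (N + 1) → Γ(L, ⊤) := Fin.snoc σ 0
  have hspan : ∀ z : Γ(L, ⊤), ∃ c : Fin (N + 1) → A,
      z = ∑ j, (X ↘ Spec (CommRingCat.of A)).appTop ((Scheme.ΓSpecIso (CommRingCat.of A)).inv (c j)) • s j := fun z => by
    obtain ⟨c, rfl⟩ := hσ z
    refine ⟨Fin.snoc c 0, ?_⟩
    rw [Fin.sum_univ_castSucc]
    simp [s]
  obtain ⟨θ, hθ⟩ := exists_theta L
  have hm : ∀ (m : ℕ) (u : Γ(P L (m + 1), ⊤)), ∃ a : Fin (N + 1) → Γ(P L m, ⊤),
      u = ((∑ j, InvX.tmul (a j) (s j) : Γ(CohB1.tensorMod (P L m) L, ⊤))) := by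
    intro m u
    let Φ : Γ(CohB1.tensorPow L (m + 1 + 1), ⊤) →+ Γ(CohB1.tensorMod (P L m) L, ⊤) :=
      AddMonoidHom.mk' (fun t => (θ (m + 1)).hom.app ⊤ t) fun x y => map_add _ x y
    have hle : AddSubgroup.closure {t | ∃ (m' : (CohB1.tensorPow L (m + 1)).val.obj (op ⊤)) (s : L.val.obj (op ⊤)), t = SecTwist.tmul (CohB1.tensorPow L (m + 1)) L ⊤ m' s} ≤ (combs (P L m) s).comap Φ := by
      rw [AddSubgroup.closure_le]
      rintro _ ⟨a, z, rfl⟩
      obtain ⟨c, hc⟩ := hspan z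
      refine ⟨fun j => (show Γ(X, ⊤) from (X ↘ Spec (CommRingCat.of A)).appTop
        ((Scheme.ΓSpecIso (CommRingCat.of A)).inv (c j))) • (θ m).hom.app ⊤ a, ?_⟩
      exact ((hθ m a z).trans (congrArg (InvX.tmul ((θ m).hom.app ⊤ a)) hc)).trans
        (tmul_sum Finset.univ ((θ m).hom.app ⊤ a) (fun j => (show Γ(X, ⊤) from (X ↘ Spec (CommRingCat.of A)).appTop
          ((Scheme.ΓSpecIso (CommRingCat.of A)).inv (c j)))) s)
    rw [hng (m + 1) (Nat.le_add_left 1 m)] at hle
    obtain ⟨a, ha⟩ := hle (x := (θ (m + 1)).inv.app ⊤ u) trivial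
    refine ⟨a, Eq.trans ?_ ha⟩
    exact (congr(($((θ (m + 1)).inv_hom_id)).app ⊤ u)).symm
  refine FibDimOne.isRelVeryAmplePn_of_mulSpan hamp s ?_ hspan hm
  -- some section does not vanish at each point
  intro x
  by_contra hx
  push Not at hx
  obtain ⟨V, hxV, e, he⟩ := InvX.exists_frame hL x
  let p : Ideal Γ(X, V) := (IsLocalRing.maximalIdeal (X.presheaf.stalk x)).comap (X.presheaf.germ V x hxV).hom
  have hp : ∀ g : Γ(X, V), g ∈ p ↔ x ∉ X.basicOpen g := fun g => by
    rw [X.mem_basicOpen g x hxV]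
    exact IsLocalRing.mem_maximalIdeal _
  choose g hg using fun j => he.exists_coord le_rfl (AModX.res L (le_top : V ≤ ⊤) (s j))
  have hg' : ∀ j, AModX.res L (le_top : V ≤ ⊤) (s j) = g j • e := fun j => by
    have h := hg j
    rwa [AModX.res_self] at h
  have hgp : ∀ j, g j ∈ p := fun j => (hp _).2 fun h => by
    rw [← AmpleX.locus_inf (s j) le_top he (hg' j)] at h
    obtain ⟨W, hW, hxW, hWf⟩ := AmpleX.mem_locus.1 h.1
    refine hx j ?_
    exact H23.TrivBasic.mem_locus_iff.2 ⟨W, hxW, hWf⟩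
  have hall : ∀ (n : ℕ) (u : Γ(P L n, ⊤)), ∃ γ ∈ p, AModX.res (P L n) (le_top : V ≤ ⊤) u = γ • E e n := by
    intro n
    induction n with
    | zero =>
      intro u
      obtain ⟨c, hc⟩ := hspan u
      refine ⟨∑ j, AModX.resR (le_top : V ≤ ⊤) ((X ↘ Spec (CommRingCat.of A)).appTop ((Scheme.ΓSpecIso (CommRingCat.of A)).inv (c j))) * g j,
        p.sum_mem fun j _ => p.mul_mem_left _ (hgp j), ?_⟩
      show AModX.res L _ u = _ • e
      rw [hc, map_sum, Finset.sum_smul]
      exact Finset.sum_congr rfl fun j _ => by rw [AModX.res_smul, hg', mul_smul]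
    | succ n ih =>
      intro u
      obtain ⟨a, rfl⟩ := hm n u
      choose α hα ha using fun j => ih (a j)
      refine ⟨∑ j, α j * g j, p.sum_mem fun j _ => p.mul_mem_left _ (hgp j), ?_⟩
      show AModX.res (CohB1.tensorMod (P L n) L) _ _ = _
      rw [map_sum, Finset.sum_smul]
      refine Finset.sum_congr rfl fun j _ => ?_
      rw [InvX.res_tmul, ha, hg', InvX.tmul_smul_left, InvX.tmul_smul_right, ← mul_smul]
      rfl
  obtain ⟨n, t, hxt, -⟩ := hamp.2.2 x
  rw [AmpleX.genLocus_eq_locus] at hxt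
  have hxu := mem_locus_map (θ n) hxt
  obtain ⟨γ, hγ, hu⟩ := hall n ((θ n).hom.app ⊤ (InvX.one t))
  exact (hp γ).1 hγ ((AmpleX.locus_inf _ le_top (isFrame_E he n) hu).le ⟨hxu, hxV⟩)

end Groth.Agent.CanonDual.VAMul
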